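import Groth.Agent.L20.FBlow.CutBase
import Groth.Agent.S2291
import Groth.Agent.S11530
import Groth.Agent.S11525

/-!
# Affine opens of a formal scheme adic over an adic base ring
-/

set_option autoImplicit false
set_option linter.style.haveILetI false
set_option linter.unusedSectionVars false
set_option backward.isDefEq.respectTransparency false
set_option backward.isDefEq.respectTransparency.types false

universe u

open CategoryTheory CategoryTheory.Limits AlgebraicGeometry TopologicalSpace Opposite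

noncomputable section

namespace Groth.L20.FBlow

open _root_.FBlow Groth.L17.FSheaf

variable {R : Type u} [CommRing R] {I : Ideal R} {𝔛 : FSch.Sys.{u}} (p : 𝔛 ⟶ FSch.spf R I) (h : 𝔛.IsFormal)

/-- The maps of the levels to the base. -/
def cb (k : ℕ) : 𝔛.X k ⟶ Spec (CommRingCat.of R) :=
  (p : FSch.Hom 𝔛 (FSch.spf R I)).app k ≫ FSch.spfToSpec R I k

theorem cb_comm (k : ℕ) : 𝔛.ι k ≫ cb p (k + 1) = cb p k := by
  rw [cb, cb, ← Category.assoc, ← (p : FSch.Hom 𝔛 (FSch.spf R I)).comm k, Category.assoc, FSch.spfToSpec_comm]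

/-- The base as sections. -/
abbrev bS (U : (𝔛.X 0).Opens) : R →+* Sec 𝔛 h U := scal h (cb p) (cb_comm p) U

theorem specMap_appLE {A B : CommRingCat.{u}} (φ : A ⟶ B) (x : A) :
    ((Spec.map φ).appLE ⊤ ⊤ le_top).hom ((Scheme.ΓSpecIso A).inv x) = (Scheme.ΓSpecIso B).inv (φ x) := by
  have h : (Spec.map φ).appLE ⊤ ⊤ le_top = (Spec.map φ).appTop := by
    rw [Scheme.Hom.appTop, Scheme.Hom.app_eq_appLE]
    rfl
  rw [h]
  exact (ConcreteCategory.congr_hom (Scheme.ΓSpecIso_inv_naturality φ) x).symm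

theorem pR_bS (k : ℕ) (U : (𝔛.X 0).Opens) (a : R) :
    pR 𝔛 h k U (bS p h U a) = (((p : FSch.Hom 𝔛 (FSch.spf R I)).app k).appLE ⊤ (𝔛.lvU h k U) le_top).hom
      ((Scheme.ΓSpecIso (CommRingCat.of (R ⧸ I ^ (k + 1)))).inv (Ideal.Quotient.mk (I ^ (k + 1)) a)) := by
  refine (pR_sS (cb p) (cb_comm p) h le_top k _).trans ?_
  refine (ConcreteCategory.congr_hom
    (FSch.appLE_comp_appLE_of_eq ((p : FSch.Hom 𝔛 (FSch.spf R I)).app k) (FSch.spfToSpec R I k) (cb p k) rfl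
      ⊤ ⊤ (𝔛.lvU h k U) le_top le_top le_top) _).symm.trans ?_
  exact congrArg (((p : FSch.Hom 𝔛 (FSch.spf R I)).app k).appLE ⊤ (𝔛.lvU h k U) le_top).hom (specMap_appLE (A := CommRingCat.of R) (B := CommRingCat.of (R ⧸ I ^ (k + 1)))
    (CommRingCat.ofHom (Ideal.Quotient.mk (I ^ (k + 1)))) a)

variable (hp : FSch.IsAdicHom p) {U : (𝔛.X 0).Opens} (hU : IsAffineOpen U)

include hp hU in
theorem ker_tR_eq (n : ℕ) :
    RingHom.ker (tR 𝔛 h n U) = (I ^ (n + 1)).map ((pR 𝔛 h (n + 1) U).comp (bS p h U)) := by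
  haveI := (h n).1
  have hsur : Function.Surjective
      (Ideal.Quotient.factor (Ideal.pow_le_pow_right (Nat.le_succ (n + 1))) : R ⧸ I ^ (n + 1 + 1) →+* R ⧸ I ^ (n + 1)) :=
    Ideal.Quotient.factor_surjective _
  haveI : IsClosedImmersion ((FSch.spf R I).ι n) := IsClosedImmersion.spec_of_surjective _ hsur
  have hV := isAffineOpen_lvU 𝔛 h hU (n + 1)
  have hidl : ((FSch.spf R I).ι n).ker.ideal ⟨⊤, isAffineOpen_top (Spec (CommRingCat.of (R ⧸ I ^ (n + 1 + 1))))⟩ =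
      ((I ^ (n + 1)).map (Ideal.Quotient.mk (I ^ (n + 1 + 1)))).map
        (Scheme.ΓSpecIso (CommRingCat.of (R ⧸ I ^ (n + 1 + 1)))).inv.hom := by
    rw [Scheme.Hom.ker_apply]
    have hR : Function.Bijective (Scheme.ΓSpecIso (CommRingCat.of (R ⧸ I ^ (n + 1 + 1)))).inv.hom :=
      (Scheme.ΓSpecIso _).symm.commRingCatIsoToRingEquiv.bijective
    have hS : Function.Injective (Scheme.ΓSpecIso (CommRingCat.of (R ⧸ I ^ (n + 1)))).inv.hom :=
      (Scheme.ΓSpecIso _).symm.commRingCatIsoToRingEquiv.injective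
    ext x
    obtain ⟨y, rfl⟩ := hR.2 x
    obtain ⟨a, rfl⟩ := Ideal.Quotient.mk_surjective y
    have e : ((FSch.spf R I).ι n).appTop ((Scheme.ΓSpecIso (CommRingCat.of (R ⧸ I ^ (n + 1 + 1)))).inv
        (Ideal.Quotient.mk _ a)) = (Scheme.ΓSpecIso (CommRingCat.of (R ⧸ I ^ (n + 1)))).inv (Ideal.Quotient.mk _ a) :=
      (ConcreteCategory.congr_hom (Scheme.ΓSpecIso_inv_naturality (CommRingCat.ofHom
        (Ideal.Quotient.factor (Ideal.pow_le_pow_right (Nat.le_succ (n + 1))) : R ⧸ I ^ (n + 1 + 1) →+* R ⧸ I ^ (n + 1))))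
        (Ideal.Quotient.mk _ a)).symm
    rw [RingHom.mem_ker, Ideal.mem_map_iff_of_surjective _ hR.2]
    refine ⟨fun h0 => ⟨_, Ideal.mem_map_of_mem _ ?_, rfl⟩, fun ⟨z, hz, hzy⟩ => ?_⟩
    · rw [← Ideal.Quotient.eq_zero_iff_mem, ← map_eq_zero_iff _ hS]
      exact e.symm.trans h0
    · obtain rfl : z = Ideal.Quotient.mk _ a := hR.1 hzy
      rw [Ideal.mem_quotient_iff_mem (Ideal.pow_le_pow_right (Nat.le_succ (n + 1)))] at hz
      refine e.trans ?_
      rw [Ideal.Quotient.eq_zero_iff_mem.2 hz, map_zero]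
  rw [ker_appLE' (𝔛.ι n) (𝔛.lvU_succ h n U).symm, ← Scheme.Hom.ker_apply (𝔛.ι n) ⟨_, hV⟩,
    Groth.L17.Thick.ker_of_isPullback (hp n),
    Groth.L22.Ideals.comap_ideal _ _ ⟨⊤, isAffineOpen_top (Spec (CommRingCat.of (R ⧸ I ^ (n + 1 + 1))))⟩ ⟨_, hV⟩ le_top,
    hidl, Ideal.map_map, Ideal.map_map]
  exact congrArg (Ideal.map · _) (RingHom.ext fun a => (pR_bS p h (n + 1) U a).symm)

include hp hU in
/-- The sections over an affine open are complete and the projections are the reductions. -/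
theorem sec_spec (hI : I.FG) :
    IsAdicComplete (I.map (bS p h U)) (Sec 𝔛 h U) ∧
      ∀ n, RingHom.ker (pR 𝔛 h n U) = (I ^ (n + 1)).map (bS p h U) := by
  letI : ∀ n, Algebra R Γ(𝔛.X n, 𝔛.lvU h n U) := fun n => ((pR 𝔛 h n U).comp (bS p h U)).toAlgebra
  letI : Algebra R (Sec 𝔛 h U) := (bS p h U).toAlgebra
  let f : ∀ n, Γ(𝔛.X (n + 1), 𝔛.lvU h (n + 1) U) →ₐ[R] Γ(𝔛.X n, 𝔛.lvU h n U) := fun n =>
    { tR 𝔛 h n U with commutes' := fun a => tR_pR 𝔛 h n U (bS p h U a) }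
  let π : ∀ n, Sec 𝔛 h U →ₐ[R] Γ(𝔛.X n, 𝔛.lvU h n U) := fun n => { pR 𝔛 h n U with commutes' := fun a => rfl }
  obtain ⟨hc, hk, -⟩ := Groth.Agent.S2291.result R I hI (fun n => Γ(𝔛.X n, 𝔛.lvU h n U))
    (fun n => (f n).toLinearMap) (fun n => tR_surjective 𝔛 h hU n) (fun n => by
      ext x
      rw [Ideal.smul_top_eq_map, Submodule.restrictScalars_mem, LinearMap.mem_ker]
      have e2 : RingHom.ker (tR 𝔛 h n U) = (I ^ (n + 1)).map (algebraMap R Γ(𝔛.X (n + 1), 𝔛.lvU h (n + 1) U)) :=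
        ker_tR_eq p h hp hU n
      rw [← e2, RingHom.mem_ker]
      rfl)
    (Sec 𝔛 h U) (fun n => (π n).toLinearMap) (fun n => LinearMap.ext fun x => tR_pR 𝔛 h n U x)
    (fun x hx => pR_ext 𝔛 h fun n => (hx n).trans (map_zero _).symm) (fun y hy => exists_pR 𝔛 h U y hy)
  refine ⟨(IsAdicComplete.map_algebraMap_iff (S := Sec 𝔛 h U) I (Sec 𝔛 h U)).2 hc, fun n => ?_⟩
  ext x
  have h2 := SetLike.ext_iff.1 (hk n).2 x
  rw [Ideal.smul_top_eq_map, Submodule.restrictScalars_mem] at h2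
  exact h2

variable (hfp : ∀ n, LocallyOfFinitePresentation ((p : FSch.Hom 𝔛 (FSch.spf R I)).app n))

include hp hU hfp in
/-- The sections over an affine open are topologically of finite presentation. -/
theorem sec_tfp (hR : AdicRing.IsBase R I) (hI : I.FG) :
    letI := (bS p h U).toAlgebra
    AdicRing.TopFinitePresentation R I (Sec 𝔛 h U) := by
  letI := (bS p h U).toAlgebra
  haveI : IsAdicComplete (I.map (algebraMap R (Sec 𝔛 h U))) (Sec 𝔛 h U) := (sec_spec p h hp hU hI).1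
  refine (Groth.Agent.S11530.result R I hR (Sec 𝔛 h U)).2 fun n => ?_
  have hk := (sec_spec p h hp hU hI).2 n
  let e : (Sec 𝔛 h U ⧸ (I ^ (n + 1)).map (algebraMap R (Sec 𝔛 h U))) →+* Γ(𝔛.X n, 𝔛.lvU h n U) :=
    Ideal.Quotient.lift _ (pR 𝔛 h n U) fun a ha => RingHom.mem_ker.1 (hk.ge ha)
  have he : Function.Bijective e := by
    refine ⟨RingHom.lift_injective_of_ker_le_ideal _ _ hk.le,
      Ideal.Quotient.lift_surjective_of_surjective _ _ (pR_surjective 𝔛 h hU n)⟩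
  let q : (R ⧸ I ^ (n + 1)) →+* Γ(𝔛.X n, 𝔛.lvU h n U) :=
    (((p : FSch.Hom 𝔛 (FSch.spf R I)).app n).appLE ⊤ (𝔛.lvU h n U) le_top).hom.comp
      (Scheme.ΓSpecIso (CommRingCat.of (R ⧸ I ^ (n + 1)))).inv.hom
  have hq : q.FinitePresentation := by
    have h1 := HasRingHomProperty.appLE @LocallyOfFinitePresentation ((p : FSch.Hom 𝔛 (FSch.spf R I)).app n) (hfp n)
      ⟨⊤, isAffineOpen_top (Spec (CommRingCat.of (R ⧸ I ^ (n + 1))))⟩ ⟨_, isAffineOpen_lvU 𝔛 h hU n⟩ le_top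
    exact h1.comp (RingHom.FinitePresentation.of_bijective
      (Scheme.ΓSpecIso (CommRingCat.of (R ⧸ I ^ (n + 1)))).symm.commRingCatIsoToRingEquiv.bijective)
  have heq : Ideal.quotientMap ((I ^ (n + 1)).map (algebraMap R (Sec 𝔛 h U))) (algebraMap R (Sec 𝔛 h U))
      Ideal.le_comap_map = (RingEquiv.ofBijective e he).symm.toRingHom.comp q := by
    refine Ideal.Quotient.ringHom_ext (RingHom.ext fun a => ?_)
    show Ideal.Quotient.mk _ (algebraMap R (Sec 𝔛 h U) a) = (RingEquiv.ofBijective e he).symm (q (Ideal.Quotient.mk _ a))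
    rw [RingEquiv.eq_symm_apply]
    exact pR_bS p h n U a
  rw [heq]
  exact (RingHom.FinitePresentation.of_bijective (RingEquiv.ofBijective e he).symm.bijective).comp hq

/-- No torsion for the ideal of definition, read on sections. -/
def NoTors {𝔛 : FSch.Sys.{u}} (h : 𝔛.IsFormal) : Prop :=
  ∀ (U : (𝔛.X 0).Opens) (s : Sec 𝔛 h U), (∀ a ∈ (IdealSh.ker (𝔛.OshProj h 0)).sect U, a * s = 0) → s = 0

include hp hU in
theorem noPowTorsion_sec (hI : I.FG) (htf : NoTors h) :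
    letI := (bS p h U).toAlgebra
    AdicRing.NoPowTorsion I (Sec 𝔛 h U) := by
  letI := (bS p h U).toAlgebra
  intro x n
  induction n generalizing x with
  | zero =>
    intro hx
    simpa using hx 1 (by simp)
  | succ n ih =>
    intro hx
    refine htf U x fun a ha => ?_
    have ha' : a ∈ (I ^ (0 + 1)).map (bS p h U) := (sec_spec p h hp hU hI).2 0 ▸ ha
    rw [zero_add, pow_one] at ha'
    suffices Ideal.map (bS p h U) I ≤ (LinearMap.mulRight (Sec 𝔛 h U) x).ker from LinearMap.mem_ker.1 (this ha')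
    rw [Ideal.map_le_iff_le_comap]
    intro r hr
    refine LinearMap.mem_ker.2 (ih _ fun s hs => ?_)
    have h1 := hx (s * r) (by rw [pow_succ]; exact Ideal.mul_mem_mul hs hr)
    rw [mul_smul] at h1
    exact h1

include hp hU hfp in
/-- The sections over an affine open are admissible. -/
theorem sec_admissible (hR : AdicRing.IsBase R I) (hI : I.FG) (htf : NoTors h) :
    letI := (bS p h U).toAlgebra
    AdicRing.Admissible R I (Sec 𝔛 h U) :=
  ⟨sec_tfp p h hp hU hfp hR hI, noPowTorsion_sec p h hp hU hI htf⟩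

theorem isThick_jS_aux {𝔜 : FSch.Sys.{u}} {hY : 𝔜.IsFormal} {V : (𝔜.X 0).Opens} (hV : IsAffineOpen V) (n : ℕ) :
    IsClosedImmersion (jS hY V n) ∧
      (jS hY V n).ker = FSch.idealSpec (Sec 𝔜 hY V) (RingHom.ker (pR 𝔜 hY n V)) := by
  haveI : IsIso (𝔜.lvU hY n V).toSpecΓ := by
    rw [← IsAffineOpen.isoSpec_hom (isAffineOpen_lvU 𝔜 hY hV n)]
    infer_instance
  haveI : IsClosedImmersion (Spec.map (CommRingCat.ofHom (pR 𝔜 hY n V))) :=
    IsClosedImmersion.spec_of_surjective _ (pR_surjective 𝔜 hY hV n)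
  refine ⟨inferInstanceAs (IsClosedImmersion ((𝔜.lvU hY n V).toSpecΓ ≫ _)), ?_⟩
  rw [jS, Scheme.Hom.ker_comp_of_isIso]
  refine Scheme.IdealSheafData.ext_of_isAffine ?_
  rw [idealSpec_eq, Groth.L13.BU.idealOf_top, Scheme.Hom.ker_apply]
  have hR : Function.Bijective (Scheme.ΓSpecIso (CommRingCat.of (Sec 𝔜 hY V))).inv.hom :=
    (Scheme.ΓSpecIso _).symm.commRingCatIsoToRingEquiv.bijective
  have hS : Function.Injective (Scheme.ΓSpecIso (CommRingCat.of Γ(𝔜.X n, 𝔜.lvU hY n V))).inv.hom :=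
    (Scheme.ΓSpecIso _).symm.commRingCatIsoToRingEquiv.injective
  ext x
  obtain ⟨y, rfl⟩ := hR.2 x
  have e : (Spec.map (CommRingCat.ofHom (pR 𝔜 hY n V))).appTop
      ((Scheme.ΓSpecIso (CommRingCat.of (Sec 𝔜 hY V))).inv y) =
        (Scheme.ΓSpecIso (CommRingCat.of Γ(𝔜.X n, 𝔜.lvU hY n V))).inv (pR 𝔜 hY n V y) :=
    (ConcreteCategory.congr_hom (Scheme.ΓSpecIso_inv_naturality (CommRingCat.ofHom (pR 𝔜 hY n V))) y).symm
  rw [RingHom.mem_ker, Ideal.mem_map_iff_of_surjective _ hR.2]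
  refine ⟨fun h0 => ⟨y, ?_, rfl⟩, fun ⟨z, hz, hzy⟩ => ?_⟩
  · rw [RingHom.mem_ker, ← map_eq_zero_iff _ hS]
    exact e.symm.trans h0
  · obtain rfl : z = y := hR.1 hzy
    refine e.trans ?_
    rw [RingHom.mem_ker.1 hz, map_zero]

theorem idealSpec_pow {A : Type u} [CommRing A] (J : Ideal A) (k : ℕ) :
    FSch.idealSpec A (J ^ k) = FSch.idealSpec A J ^ k := by
  refine Scheme.IdealSheafData.ext_of_isAffine ?_
  rw [Scheme.IdealSheafData.ideal_pow, Pi.pow_apply, idealSpec_eq, idealSpec_eq, Groth.L13.BU.idealOf_top,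
    Groth.L13.BU.idealOf_top, Ideal.map_pow]

include hp hU in
/-- The affine pieces are cut out of the spectrum of their sections. -/
theorem isThick_jS (hI : I.FG) (n : ℕ) :
    IsClosedImmersion (jS h U n) ∧
      (jS h U n).ker = FSch.idealSpec (Sec 𝔛 h U) (I.map (bS p h U)) ^ (n + 1) := by
  refine ⟨(isThick_jS_aux hU n).1, ?_⟩
  rw [(isThick_jS_aux hU n).2, (sec_spec p h hp hU hI).2 n, Ideal.map_pow, idealSpec_pow]

end Groth.L20.FBlow
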