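import Groth.Agent.L20.FBlow.Piece
import Groth.Agent.L13.BlowUp.Proper

/-!
# Cartesian squares of closed immersions; completions as cut systems
-/

set_option autoImplicit false
set_option linter.style.haveILetI false
set_option linter.unusedSectionVars false
set_option backward.isDefEq.respectTransparency false
set_option backward.isDefEq.respectTransparency.types false

universe u

open CategoryTheory CategoryTheory.Limits AlgebraicGeometry TopologicalSpace Opposite

noncomputable section

namespace Groth.L20.FBlow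

open _root_.FBlow

/-- A square of closed immersions is cartesian when the ideals correspond. -/
theorem isPullback_of_ker {Z X Y W : Scheme.{u}} (i : Z ⟶ X) (a : Z ⟶ Y) (f : X ⟶ W) (j : Y ⟶ W)
    [IsClosedImmersion i] [IsClosedImmersion j] (w : i ≫ f = a ≫ j) (hk : i.ker = j.ker.comap f) :
    IsPullback i a f j := by
  let l : Z ⟶ pullback f j := pullback.lift i a w
  have hl : l ≫ pullback.fst f j = i := pullback.lift_fst _ _ _
  let l' : pullback f j ⟶ Z := IsClosedImmersion.lift i (pullback.fst f j)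
    (hk.trans (Scheme.IdealSheafData.ker_fst_of_isClosedImmersion j f).symm).le
  have hl' : l' ≫ i = pullback.fst f j := IsClosedImmersion.lift_fac _ _ _
  haveI : IsIso l := ⟨l', by rw [← cancel_mono i, Category.assoc, hl', hl, Category.id_comp],
    by rw [← cancel_mono (pullback.fst f j), Category.assoc, hl, hl', Category.id_comp]⟩
  exact IsPullback.of_iso_pullback ⟨w⟩ (asIso l) (pullback.lift_fst _ _ _) (pullback.lift_snd _ _ _)

theorem isThick_completion (X : Scheme.{u}) (𝓘 : X.IdealSheafData) :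
    IsThick (FSch.completionAlong X 𝓘) (FSch.completionToX X 𝓘) 𝓘 := fun n =>
  ⟨inferInstance, Scheme.IdealSheafData.ker_subschemeι _⟩

/-- The inverse image of an ideal of the ring is generated by it. -/
theorem genOn_schIdealMap {A : Type u} [CommRing A] {𝔛 : FSch.Sys.{u}} (h : 𝔛.IsFormal)
    (c : ∀ n, 𝔛.X n ⟶ Spec (CommRingCat.of A)) (hc : ∀ n, 𝔛.ι n ≫ c (n + 1) = c n) (𝔞 : Ideal A) :
    GenOn (FBlow.schIdealMap 𝔛 h c hc (IdealSh.ofData (FSch.idealSpec A 𝔞))) ⊤ (𝔞.map (scal h c hc ⊤)) := by
  refine (GenOn.schIdealMap c hc h (genOn_ofData (FSch.idealSpec A 𝔞) ⟨⊤, isAffineOpen_top _⟩)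
    (le_top : (⊤ : (𝔛.X 0).Opens) ≤ _)).congr_ideal ?_
  rw [idealSpec_eq, Groth.L13.BU.idealOf_top, Ideal.map_map]
  rfl

theorem idealSpec_ideal {A : Type u} [CommRing A] (J : Ideal A) (U : (Spec (CommRingCat.of A)).affineOpens) :
    (FSch.idealSpec A J).ideal U = J.map (((Spec (CommRingCat.of A)).presheaf.map (homOfLE (le_top : U.1 ≤ ⊤)).op).hom.comp
      (Scheme.ΓSpecIso (CommRingCat.of A)).inv.hom) := by
  rw [← Scheme.IdealSheafData.map_ideal (FSch.idealSpec A J) (U := U) (V := ⟨⊤, isAffineOpen_top _⟩) (show U.1 ≤ ⊤ from le_top),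
    idealSpec_eq, Groth.L13.BU.idealOf_top, Ideal.map_map]
  rfl

theorem isFiniteType_idealSpec {A : Type u} [CommRing A] {J : Ideal A} (hJ : J.FG) :
    BlowUp.IsFiniteTypeIdeal (FSch.idealSpec A J) := fun U => by
  rw [idealSpec_ideal]
  exact hJ.map _

theorem lft_of_isBlowUp {A : Type u} [CommRing A] {J : Ideal A} (hJ : J.FG) {P : Scheme.{u}}
    {q : P ⟶ Spec (CommRingCat.of A)} (hq : BlowUp.IsBlowUp q (FSch.idealSpec A J)) : LocallyOfFiniteType q := by
  haveI := Groth.L13.BU.isProper_blowUp hq (isFiniteType_idealSpec hJ)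
  infer_instance

end Groth.L20.FBlow
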