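import Groth.Agent.L20.FBlow.Piece
import Groth.Agent.L20.FBlow.CutBase
import Groth.Agent.L20.FBlow.Base
import Groth.Agent.L20.AffBlow
import Mathlib.RingTheory.Localization.BaseChange
import Mathlib.RingTheory.Polynomial.ScaleRoots

/-!
# An integral modification is a blow-up
-/

set_option autoImplicit false
set_option linter.style.haveILetI false
set_option linter.unusedSectionVars false
set_option backward.isDefEq.respectTransparency false
set_option backward.isDefEq.respectTransparency.types false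

universe u

open CategoryTheory CategoryTheory.Limits AlgebraicGeometry TopologicalSpace Opposite
open scoped TensorProduct

noncomputable section

namespace Groth.L20.FBlow

open _root_.FBlow

section Algebra

variable {A B : Type u} [CommRing A] [CommRing B] [Algebra A B]

/-- A numerator of an integral element over `a` becomes divisible by the image of `a`. -/
theorem span_eq_of_integral (hinj : Function.Injective (algebraMap A B)) {a : A} {ι : Type*} {g : ι → A}
    {f : ι → B} (hgf : ∀ i, algebraMap A B (g i) = algebraMap A B a * f i) (hf : ∀ i, IsIntegral A (f i))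
    {S : Type u} [CommRing S] (χ : A →+* S) {t : S} (ht : t ∈ nonZeroDivisors S)
    (hI : (Ideal.span (insert a (Set.range g))).map χ = Ideal.span {t}) :
    χ a ∈ nonZeroDivisors S ∧ Ideal.span {t} = Ideal.span {χ a} := by
  classical
  obtain ⟨v, hv⟩ := Ideal.mem_span_singleton'.1 (hI ▸ Ideal.mem_map_of_mem χ (Ideal.subset_span (Set.mem_insert _ _)))
  have hwex : ∀ i, ∃ w, w * t = χ (g i) := fun i => Ideal.mem_span_singleton'.1
    (hI ▸ Ideal.mem_map_of_mem χ (Ideal.subset_span (Set.mem_insert_of_mem _ ⟨i, rfl⟩)))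
  choose w hw using hwex
  have hrad : ∀ i, w i ∈ (Ideal.span {v}).radical := by
    intro i
    obtain ⟨P, hP, hP0⟩ := hf i
    let m := P.natDegree
    refine ⟨m, ?_⟩
    have hQ : (P.scaleRoots a).eval (g i) = 0 := hinj (by
      rw [map_zero, ← Polynomial.eval₂_at_apply, hgf i]
      exact Polynomial.scaleRoots_eval₂_eq_zero _ hP0)
    have hQ' := congrArg χ hQ
    rw [Polynomial.eval_eq_sum_range, map_zero, map_sum, Polynomial.natDegree_scaleRoots] at hQ'
    have h1 : (∑ k ∈ Finset.range (m + 1), χ (P.coeff k) * v ^ (m - k) * w i ^ k) * t ^ m = 0 := by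
      rw [Finset.sum_mul, ← hQ']
      refine Finset.sum_congr rfl fun k hk => ?_
      have hk' : k ≤ m := Nat.lt_succ_iff.1 (Finset.mem_range.1 hk)
      have e : t ^ m = t ^ (m - k) * t ^ k := by rw [← pow_add, Nat.sub_add_cancel hk']
      rw [Polynomial.coeff_scaleRoots, map_mul, map_mul, map_pow, map_pow, ← hv, ← hw, mul_pow, mul_pow, e]
      ring
    have h2 := (mem_nonZeroDivisors_iff_right.1 (pow_mem ht m)) _ h1
    rw [Finset.sum_range_succ, hP.coeff_natDegree, map_one, one_mul, Nat.sub_self, pow_zero, one_mul,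
      add_eq_zero_iff_eq_neg'] at h2
    rw [h2]
    refine neg_mem (Ideal.sum_mem _ fun k hk => Ideal.mul_mem_right _ _ (Ideal.mul_mem_left _ _ ?_))
    exact Ideal.pow_mem_of_mem _ (Ideal.mem_span_singleton_self v) _ (by
      have := Finset.mem_range.1 hk; omega)
  have hle : (Ideal.span (insert a (Set.range g))).map χ ≤ (Ideal.span {v}).radical * Ideal.span {t} := by
    rw [Ideal.map_span, Ideal.span_le]
    rintro _ ⟨x, hx, rfl⟩
    rcases hx with rfl | ⟨i, rfl⟩
    · rw [← hv]
      exact Ideal.mul_mem_mul (Ideal.le_radical (Ideal.mem_span_singleton_self v)) (Ideal.mem_span_singleton_self t)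
    · rw [← hw]
      exact Ideal.mul_mem_mul (hrad i) (Ideal.mem_span_singleton_self t)
  obtain ⟨z, hz, hzt⟩ := Ideal.mem_mul_span_singleton.1 (hle (hI ▸ Ideal.mem_span_singleton_self t))
  obtain rfl : z = 1 := sub_eq_zero.1 ((mem_nonZeroDivisors_iff_right.1 ht) _ (by rw [sub_mul, one_mul, hzt, sub_self]))
  have hu : IsUnit v := by
    rw [← Ideal.span_singleton_eq_top]
    obtain ⟨n, hn⟩ := hz
    rw [Ideal.eq_top_iff_one]
    simpa using hn
  refine ⟨hv ▸ mul_mem hu.mem_nonZeroDivisors ht, ?_⟩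
  rw [← hv, Ideal.span_singleton_mul_left_unit hu]

/-- The unique map from a modification to a ring where the denominator is regular. -/
theorem exists_ringHom_pow {S : Type u} [CommRing S] {a : A} (ψ : A →+* S) (hnzd : ψ a ∈ nonZeroDivisors S)
    (hinj : Function.Injective (algebraMap A B))
    (H : ∀ b : B, ∃ (m : ℕ) (x : A) (y : S), algebraMap A B x = algebraMap A B a ^ m * b ∧ ψ x = ψ a ^ m * y) :
    ∃ Θ : B →+* S, Θ.comp (algebraMap A B) = ψ := by
  choose m x y hx hy using H
  have key : ∀ (b : B) (n : ℕ) (x' : A) (y' : S),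
      algebraMap A B x' = algebraMap A B a ^ n * b → ψ x' = ψ a ^ n * y' → y b = y' := by
    intro b n x' y' h1 h2
    have e : a ^ n * x b = a ^ m b * x' := hinj (by rw [map_mul, map_mul, map_pow, map_pow, hx, h1]; ring)
    refine (mul_cancel_left_mem_nonZeroDivisors (pow_mem hnzd (n + m b))).1 ?_
    have e' := congrArg ψ e
    rw [map_mul, map_mul, map_pow, map_pow, hy, h2] at e'
    calc ψ a ^ (n + m b) * y b = ψ a ^ n * (ψ a ^ m b * y b) := by ring
      _ = ψ a ^ m b * (ψ a ^ n * y') := e'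
      _ = ψ a ^ (n + m b) * y' := by ring
  refine ⟨{
    toFun := y
    map_one' := key 1 0 1 1 (by simp) (by simp)
    map_zero' := key 0 0 0 0 (by simp) (by simp)
    map_add' := fun b c => key (b + c) (m b + m c) (x b * a ^ m c + x c * a ^ m b) _
      (by simp only [map_add, map_mul, map_pow, hx, pow_add]; ring)
      (by simp only [map_add, map_mul, map_pow, hy, pow_add]; ring)
    map_mul' := fun b c => key (b * c) (m b + m c) (x b * x c) _
      (by rw [map_mul, hx, hx, pow_add]; ring) (by rw [map_mul, hy, hy, pow_add]; ring) },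
    RingHom.ext fun r => key _ 0 r _ (by simp) (by simp)⟩

end Algebra

theorem comap_idealSpec_ideal {A : Type u} [CommRing A] {Y : Scheme.{u}} (g : Y ⟶ Spec (CommRingCat.of A))
    (I : Ideal A) (V : Y.affineOpens) :
    ((FSch.idealSpec A I).comap g).ideal V =
      I.map ((Y.presheaf.map (homOfLE (le_top : V.1 ≤ ⊤)).op).hom.comp
        ((Scheme.ΓSpecIso (CommRingCat.of A)).inv ≫ g.appTop).hom) := by
  rw [Groth.L22.Ideals.comap_ideal g _ ⟨⊤, isAffineOpen_top _⟩ V (fun _ _ => trivial), idealSpec_eq,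
    Groth.L13.BU.idealOf_top, Ideal.map_map]
  refine congrArg (fun χ => Ideal.map χ I) ?_
  rw [← CommRingCat.hom_comp, ← CommRingCat.hom_comp]
  refine congrArg CommRingCat.Hom.hom ?_
  simp [Scheme.Hom.appLE]

theorem comap_idealSpec_spec {A B : Type u} [CommRing A] [CommRing B] (φ : A →+* B) (J : Ideal A) :
    (FSch.idealSpec A J).comap (Spec.map (CommRingCat.ofHom φ)) = FSch.idealSpec B (J.map φ) := by
  refine Scheme.IdealSheafData.ext_of_isAffine ?_
  rw [Groth.L22.Ideals.comap_ideal_top, idealSpec_eq, idealSpec_eq, Groth.L13.BU.idealOf_top,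
    Groth.L13.BU.idealOf_top, Ideal.map_map, Ideal.map_map, ← CommRingCat.hom_comp,
    ← Scheme.ΓSpecIso_inv_naturality, CommRingCat.hom_comp]
  rfl

/-- Adjoining finitely many integral fractions is a blow-up of the spectrum. -/
theorem isBlowUp_adjoin (A B : Type u) [CommRing A] [CommRing B] [Algebra A B]
    (hinj : Function.Injective (algebraMap A B)) {a : A} (ha : algebraMap A B a ∈ nonZeroDivisors B)
    {ι : Type*} (g : ι → A) (f : ι → B) (hgf : ∀ i, algebraMap A B (g i) = algebraMap A B a * f i)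
    (hf : ∀ i, IsIntegral A (f i)) (hgen : Algebra.adjoin A (Set.range f) = ⊤) :
    BlowUp.IsBlowUp (Spec.map (CommRingCat.ofHom (algebraMap A B)))
      (FSch.idealSpec A (Ideal.span (insert a (Set.range g)))) := by
  let I := Ideal.span (insert a (Set.range g))
  have haI : a ∈ I := Ideal.subset_span (Set.mem_insert _ _)
  have hIB : I.map (algebraMap A B) = Ideal.span {algebraMap A B a} := by
    rw [Ideal.map_span]
    refine le_antisymm (Ideal.span_le.2 ?_) (Ideal.span_le.2 (Set.singleton_subset_iff.2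
      (Ideal.subset_span ⟨a, Set.mem_insert _ _, rfl⟩)))
    rintro _ ⟨x, hx, rfl⟩
    rcases hx with rfl | ⟨i, rfl⟩
    · exact Ideal.mem_span_singleton_self _
    · rw [hgf]
      exact Ideal.mul_mem_right _ _ (Ideal.mem_span_singleton_self _)
  let iB := (Scheme.ΓSpecIso (CommRingCat.of B)).commRingCatIsoToRingEquiv
  refine ⟨fun p => ⟨⟨⊤, isAffineOpen_top _⟩, trivial, iB.symm (algebraMap A B a), ?_, ?_⟩, fun Y g' hg => ?_⟩
  · refine mem_nonZeroDivisors_iff_right.2 fun w hw => iB.injective ?_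
    rw [map_zero]
    refine (mem_nonZeroDivisors_iff_right.1 ha) _ ?_
    have h3 := congrArg iB hw
    rwa [map_mul, map_zero, iB.apply_symm_apply] at h3
  · rw [comap_idealSpec_spec, idealSpec_eq, Groth.L13.BU.idealOf_top]
    change (I.map (algebraMap A B)).map _ = _
    rw [hIB, Ideal.map_span, Set.image_singleton]
    rfl
  let ψ : A →+* Γ(Y, ⊤) := ((Scheme.ΓSpecIso (CommRingCat.of A)).inv ≫ g'.appTop).hom
  choose V hyV t ht hVt using hg
  let res : ∀ y : Y, Γ(Y, ⊤) →+* Γ(Y, (V y).1) := fun y => (Y.presheaf.map (homOfLE (le_top : (V y).1 ≤ ⊤)).op).hom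
  have hloc : ∀ y, res y (ψ a) ∈ nonZeroDivisors Γ(Y, (V y).1) ∧ I.map ((res y).comp ψ) = Ideal.span {res y (ψ a)} := by
    intro y
    have hI : I.map ((res y).comp ψ) = Ideal.span {t y} := (comap_idealSpec_ideal g' I (V y)).symm.trans (hVt y)
    obtain ⟨h1, h2⟩ := span_eq_of_integral hinj hgf hf ((res y).comp ψ) (ht y) hI
    exact ⟨h1, hI.trans h2⟩
  have hcov : (⊤ : Y.Opens) ≤ iSup fun y => (V y).1 := fun y _ => Opens.mem_iSup.2 ⟨y, hyV y⟩
  let F : TopCat.Sheaf CommRingCat.{u} Y.toTopCat := ⟨Y.presheaf, Y.IsSheaf⟩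
  have hreg : Reg (O := Y.sheaf) (⊤ : Y.Opens) (ψ a) := by
    refine reg_of_local fun y _ => ⟨(V y).1, le_top, hyV y, fun W i w hw => ?_⟩
    refine eq_of_local fun z hz => ?_
    obtain ⟨W', hW', hzW, hle⟩ := exists_isAffineOpen_mem_and_subset (x := z) (U := W) hz
    refine ⟨W', hle, hzW, ?_⟩
    rw [map_zero]
    have hn := Groth.L22.Ideals.map_mem_nonZeroDivisors (U := V y) (V := ⟨W', hW'⟩) (fun z hz => i (hle hz)) (hloc y).1
    refine (mem_nonZeroDivisors_iff_right.1 hn) _ ?_
    have h1 := congrArg (rO Y.sheaf (show W' ≤ W from hle)) hw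
    rw [map_mul, map_zero, rO_rO] at h1
    exact h1
  have hnzd : ψ a ∈ nonZeroDivisors Γ(Y, ⊤) := mem_nonZeroDivisors_iff_right.2 fun w hw => by
    refine hreg ⊤ le_rfl w ?_
    rw [rO_self]
    exact hw
  have hquot : ∀ x ∈ I, ∃ z : Γ(Y, ⊤), ψ x = z * ψ a := fun x hx => by
    obtain ⟨q, hq⟩ := exists_eq_mul_of_local (O := Y.sheaf) hreg le_rfl (ψ x) fun y _ => by
      obtain ⟨z, hz⟩ := Ideal.mem_span_singleton'.1 ((hloc y).2 ▸ Ideal.mem_map_of_mem _ hx)
      exact ⟨(V y).1, le_top, z, hyV y, hz.symm⟩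
    exact ⟨q, by rw [rO_self] at hq; exact hq⟩
  have H : ∀ b : B, ∃ (m : ℕ) (x : A) (z : Γ(Y, ⊤)), algebraMap A B x = algebraMap A B a ^ m * b ∧ ψ x = ψ a ^ m * z := by
    intro b
    have hb : b ∈ Algebra.adjoin A (Set.range f) := hgen ▸ Algebra.mem_top
    induction hb using Algebra.adjoin_induction with
    | mem b hb =>
      obtain ⟨i, rfl⟩ := hb
      obtain ⟨z, hz⟩ := hquot (g i) (Ideal.subset_span (Set.mem_insert_of_mem _ ⟨i, rfl⟩))
      exact ⟨1, g i, z, by rw [pow_one, hgf], by rw [pow_one, hz, mul_comm]⟩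
    | algebraMap r => exact ⟨0, r, ψ r, by simp, by simp⟩
    | add b c _ _ ihb ihc =>
      obtain ⟨m, x, z, e₁, e₂⟩ := ihb
      obtain ⟨n, x', z', e₁', e₂'⟩ := ihc
      exact ⟨m + n, x * a ^ n + x' * a ^ m, z + z',
        by simp only [map_add, map_mul, map_pow, e₁, e₁', pow_add]; ring,
        by simp only [map_add, map_mul, map_pow, e₂, e₂', pow_add]; ring⟩
    | mul b c _ _ ihb ihc =>
      obtain ⟨m, x, z, e₁, e₂⟩ := ihb
      obtain ⟨n, x', z', e₁', e₂'⟩ := ihc
      exact ⟨m + n, x * x', z * z', by rw [map_mul, e₁, e₁', pow_add]; ring,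
        by rw [map_mul, e₂, e₂', pow_add]; ring⟩
  obtain ⟨Θ, hΘ⟩ := exists_ringHom_pow ψ hnzd hinj H
  refine ⟨Y.toSpecΓ ≫ Spec.map (CommRingCat.ofHom Θ), ?_, fun h hh => ?_⟩
  · refine ext_of_isAffine ?_
    rw [Category.assoc, ← Spec.map_comp, Scheme.Hom.comp_appTop, Scheme.toSpecΓ_appTop]
    have : CommRingCat.ofHom (algebraMap A B) ≫ CommRingCat.ofHom Θ =
        (Scheme.ΓSpecIso (CommRingCat.of A)).inv ≫ g'.appTop := CommRingCat.hom_ext hΘ
    rw [this, Scheme.ΓSpecIso_naturality, Iso.hom_inv_id_assoc]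
  · subst hh
    refine ext_of_isAffine ?_
    rw [Scheme.Hom.comp_appTop, Scheme.toSpecΓ_appTop, Scheme.ΓSpecIso_naturality]
    let Θ' : B →+* Γ(Y, ⊤) := ((Scheme.ΓSpecIso (CommRingCat.of B)).inv ≫ h.appTop).hom
    have hψ : ψ = Θ'.comp (algebraMap A B) := by
      show ((Scheme.ΓSpecIso (CommRingCat.of A)).inv ≫ (h ≫ Spec.map (CommRingCat.ofHom (algebraMap A B))).appTop).hom = _
      rw [Scheme.Hom.comp_appTop, ← Category.assoc, ← Scheme.ΓSpecIso_inv_naturality, Category.assoc]
      rfl
    have : Θ' = Θ := RingHom.ext fun b => by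
      obtain ⟨m, x, -, e, -⟩ := H b
      refine (mul_cancel_left_mem_nonZeroDivisors (pow_mem hnzd m)).1 ?_
      conv_lhs => rw [show ψ a = Θ' (algebraMap A B a) from RingHom.congr_fun hψ a, ← map_pow, ← map_mul, ← e]
      conv_rhs => rw [← show Θ (algebraMap A B a) = ψ a from RingHom.congr_fun hΘ a, ← map_pow, ← map_mul, ← e]
      exact (RingHom.congr_fun hψ x).symm.trans (RingHom.congr_fun hΘ x).symm
    rw [show CommRingCat.ofHom Θ = (Scheme.ΓSpecIso (CommRingCat.of B)).inv ≫ h.appTop from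
      CommRingCat.hom_ext this.symm, Iso.hom_inv_id_assoc]

/-- Adjoining integral fractions to a ring inside an overring where the denominator is invertible. -/
theorem isBlowUp_adjoin_range {A K : Type u} [CommRing A] [CommRing K] [Algebra A K]
    (hinj : Function.Injective (algebraMap A K)) {a : A} (ha : IsUnit (algebraMap A K a)) {ι : Type*}
    (g : ι → A) (f : ι → K) (hgf : ∀ i, algebraMap A K (g i) = algebraMap A K a * f i)
    (hf : ∀ i, IsIntegral A (f i)) :
    BlowUp.IsBlowUp (Spec.map (CommRingCat.ofHom (algebraMap A (Algebra.adjoin A (Set.range f)))))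
      (FSch.idealSpec A (Ideal.span (insert a (Set.range g)))) := by
  let B := Algebra.adjoin A (Set.range f)
  refine isBlowUp_adjoin A B (fun x y h => hinj (congrArg (Subtype.val) h)) ?_ g
    (fun i => ⟨f i, Algebra.subset_adjoin ⟨i, rfl⟩⟩) (fun i => Subtype.ext (hgf i))
    (fun i => (isIntegral_algHom_iff B.val Subtype.val_injective).1 (hf i)) ?_
  · refine mem_nonZeroDivisors_iff_right.2 fun x hx => Subtype.ext (ha.mul_left_eq_zero.1 ?_)
    exact congrArg (Subtype.val : B → K) hx
  · refine Subalgebra.map_injective (f := B.val) Subtype.val_injective ?_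
    rw [AlgHom.map_adjoin, Algebra.map_top, B.range_val, ← Set.range_comp]
    rfl

section Spf

variable {A B : Type u} [CommRing A] [CommRing B] {I : Ideal A}

theorem isClosedImmersion_spfToSpec (A : Type u) [CommRing A] (I : Ideal A) (n : ℕ) :
    IsClosedImmersion (FSch.spfToSpec A I n) :=
  IsClosedImmersion.spec_of_surjective (CommRingCat.ofHom (Ideal.Quotient.mk (I ^ (n + 1)))) Ideal.Quotient.mk_surjective

theorem ker_spfToSpec (A : Type u) [CommRing A] (I : Ideal A) (n : ℕ) :
    (FSch.spfToSpec A I n).ker = FSch.idealSpec A (I ^ (n + 1)) := rfl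

theorem isThick_spf (A : Type u) [CommRing A] (I : Ideal A) :
    IsThick (FSch.spf A I) (FSch.spfToSpec A I) (FSch.idealSpec A I) := fun n =>
  ⟨isClosedImmersion_spfToSpec A I n, (ker_spfToSpec A I n).trans (idealSpec_pow I (n + 1))⟩

theorem isPullback_spfMap (φ : A →+* B) {K : Ideal B} (hK : I.map φ = K) (hle : I ≤ K.comap φ) (n : ℕ) :
    IsPullback (FSch.spfToSpec B K n) ((FSch.spfMap K I φ hle : FSch.Hom _ _).app n)
      (Spec.map (CommRingCat.ofHom φ)) (FSch.spfToSpec A I n) := by
  haveI := isClosedImmersion_spfToSpec A I n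
  haveI := isClosedImmersion_spfToSpec B K n
  refine isPullback_of_ker _ _ _ _ ?_ ?_
  · change Spec.map _ ≫ Spec.map _ = Spec.map _ ≫ Spec.map _
    rw [← Spec.map_comp, ← Spec.map_comp]
    rfl
  · rw [ker_spfToSpec, ker_spfToSpec, comap_idealSpec_spec, Ideal.map_pow, hK]

/-- The completion of an affine blow-up with affine total space. -/
theorem isAdmBlowUp_spfMap {R : Type u} [CommRing R] {I₀ : Ideal R} [Algebra R A] (hR : AdicRing.IsBase R I₀)
    (hA : AdicRing.TopFiniteType R I₀ A) (φ : A →+* B) (hft : φ.FiniteType) {K : Ideal B}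
    (hK : (I₀.map (algebraMap R A)).map φ = K) (hle : I₀.map (algebraMap R A) ≤ K.comap φ) (𝔞 : Ideal A)
    (hq : BlowUp.IsBlowUp (Spec.map (CommRingCat.ofHom φ)) (FSch.idealSpec A 𝔞))
    (hX : (FSch.spf A (I₀.map (algebraMap R A))).IsFormal) (h' : (FSch.spf B K).IsFormal) :
    FBlow.IsAdmBlowUp (FSch.spfMap K (I₀.map (algebraMap R A)) φ hle) h' hX
      (FBlow.schIdealMap (FSch.spf A (I₀.map (algebraMap R A))) hX (FSch.spfToSpec A (I₀.map (algebraMap R A)))
        (FSch.spfToSpec_comm A (I₀.map (algebraMap R A))) (FBlow.IdealSh.ofData (FSch.idealSpec A 𝔞))) := by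
  haveI : LocallyOfFiniteType (Spec.map (CommRingCat.ofHom φ)) := by
    rw [HasRingHomProperty.Spec_iff (P := @LocallyOfFiniteType)]
    exact hft
  exact isAdmBlowUp_of_scheme (R := R) (A := A) hR hA
    (FSch.spfToSpec_comm A _) (isThick_spf A _) hq
    (FSch.spfToSpec_comm B K) (fun m => isPullback_spfMap φ hK hle m)
    (genOn_schIdealMap hX (FSch.spfToSpec A _) (FSch.spfToSpec_comm A _) _)

end Spf

section Domain

variable {R : Type u} [CommRing R] [IsDomain R] [ValuationRing R] [Ring.KrullDimLE 1 R] {t : R}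

theorem exists_dvd_pow (ht : t ≠ 0) [IsAdicComplete (Ideal.span {t}) R] {c : R} (hc : c ≠ 0) : ∃ m, c ∣ t ^ m := by
  have htu : ¬ IsUnit t := fun hu => by
    have htop : Ideal.span {t} = ⊤ := Ideal.span_singleton_eq_top.2 hu
    have h1 : (1 : R) = 0 := IsHausdorff.haus (IsAdicComplete.toIsHausdorff (I := Ideal.span {t}) (M := R)) 1 fun n => by
      rw [htop, Ideal.top_pow, Submodule.top_smul]
      exact SModEq.top
    exact one_ne_zero h1
  have h : t ∈ (Ideal.span {c}).radical := by
    rw [Ideal.radical_eq_sInf, Submodule.mem_sInf]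
    rintro (P : Ideal R) ⟨hcP, hP⟩
    have hP0 : P ≠ ⊥ := fun h0 => hc (by
      have := hcP (Ideal.mem_span_singleton_self c)
      rw [h0] at this
      exact (Submodule.mem_bot R).1 this)
    haveI := hP
    haveI : P.IsMaximal := (Ring.krullDimLE_one_iff_of_isPrime_bot.1 inferInstance) P hP0 hP
    rw [IsLocalRing.eq_maximalIdeal (I := P) inferInstance]
    exact htu
  obtain ⟨m, hm⟩ := h
  exact ⟨m, Ideal.mem_span_singleton.1 hm⟩

variable {A : Type u} [CommRing A] [Algebra R A]

theorem injective_algebraMap_tensor (ht : t ≠ 0) [IsAdicComplete (Ideal.span {t}) R]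
    (hA : AdicRing.NoPowTorsion (Ideal.span {t}) A) : Function.Injective (algebraMap A (A ⊗[R] FractionRing R)) := by
  refine (injective_iff_map_eq_zero _).2 fun x hx => ?_
  have h2 : TensorProduct.mk R (FractionRing R) A 1 x = 0 := by
    have h3 := congrArg (TensorProduct.comm R A (FractionRing R)) hx
    rwa [Algebra.TensorProduct.algebraMap_apply, map_zero] at h3
  obtain ⟨⟨r, hr⟩, hrx⟩ := (IsLocalizedModule.eq_zero_iff (nonZeroDivisors R) (TensorProduct.mk R (FractionRing R) A 1)).1 h2
  obtain ⟨m, s, hs⟩ := exists_dvd_pow ht (nonZeroDivisors.ne_zero hr)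
  refine hA x m fun a ha => ?_
  rw [Ideal.span_singleton_pow, Ideal.mem_span_singleton'] at ha
  obtain ⟨b, rfl⟩ := ha
  rw [hs, mul_smul, mul_comm r s, mul_smul]
  change r • x = 0 at hrx
  rw [hrx, smul_zero, smul_zero]

/-- Adjoining integral fractions inside an overring is an admissible formal blow-up. -/
theorem isAdmBlowUp_adjoin_range {R : Type u} [CommRing R] {I₀ : Ideal R} {A K : Type u} [CommRing A]
    [CommRing K] [Algebra R A] [Algebra A K] [Algebra R K] [IsScalarTower R A K] (hR : AdicRing.IsBase R I₀)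
    (hA : AdicRing.TopFiniteType R I₀ A) (hinj : Function.Injective (algebraMap A K)) {a : A}
    (ha : IsUnit (algebraMap A K a)) {n : ℕ} (g : Fin n → A) (f : Fin n → K)
    (hgf : ∀ i, algebraMap A K (g i) = algebraMap A K a * f i) (hf : ∀ i, IsIntegral A (f i))
    (hX : (FSch.spf A (I₀.map (algebraMap R A))).IsFormal)
    (h' : (FSch.spf ↥(Algebra.adjoin A (Set.range f))
      (I₀.map (algebraMap R ↥(Algebra.adjoin A (Set.range f))))).IsFormal)
    (hle : I₀.map (algebraMap R A) ≤
      (I₀.map (algebraMap R ↥(Algebra.adjoin A (Set.range f)))).comap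
        (algebraMap A ↥(Algebra.adjoin A (Set.range f)))) :
    FBlow.IsAdmBlowUp (FSch.spfMap (I₀.map (algebraMap R ↥(Algebra.adjoin A (Set.range f))))
        (I₀.map (algebraMap R A)) (algebraMap A ↥(Algebra.adjoin A (Set.range f))) hle) h' hX
      (FBlow.schIdealMap (FSch.spf A (I₀.map (algebraMap R A))) hX
        (FSch.spfToSpec A (I₀.map (algebraMap R A)))
        (FSch.spfToSpec_comm A (I₀.map (algebraMap R A)))
        (FBlow.IdealSh.ofData (FSch.idealSpec A (Ideal.span (insert a (Set.range g)))))) := by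
  let B := Algebra.adjoin A (Set.range f)
  haveI : Algebra.FiniteType A B :=
    (Subalgebra.fg_iff_finiteType B).1 ⟨(Set.finite_range f).toFinset, by rw [Set.Finite.coe_toFinset]⟩
  exact isAdmBlowUp_spfMap hR hA (algebraMap A B)
    ((RingHom.finiteType_algebraMap (A := A) (B := ↥B)).2 inferInstance)
    (by rw [Ideal.map_map, ← IsScalarTower.algebraMap_eq]) hle _
    (isBlowUp_adjoin_range hinj ha g f hgf hf) hX h'

end Domain

end Groth.L20.FBlow
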