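import Groth.Agent.L20.FBlow.Exists

/-!
# Gluing the local admissible blow-ups
-/

set_option autoImplicit false
set_option linter.style.haveILetI false
set_option linter.unusedSectionVars false
set_option backward.isDefEq.respectTransparency false
set_option backward.isDefEq.respectTransparency.types false

universe u

open CategoryTheory CategoryTheory.Limits AlgebraicGeometry TopologicalSpace Opposite

noncomputable section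

namespace Groth.L20.FBlow

open _root_.FBlow Groth.L17.FSheaf

/-- Two admissible blow-ups over an open immersion form a cartesian square. -/
theorem isBC_of_isAdmBlowUp {𝔛 𝔛' 𝔜 𝔜' : FSch.Sys.{u}} {hX : 𝔛.IsFormal} {hX' : 𝔛'.IsFormal}
    {hY : 𝔜.IsFormal} {hY' : 𝔜'.IsFormal} {b : 𝔜 ⟶ 𝔛} {j : 𝔛' ⟶ 𝔛} {b' : 𝔜' ⟶ 𝔛'} {t : 𝔜' ⟶ 𝔜}
    [∀ n, IsOpenImmersion ((j : FSch.Hom 𝔛' 𝔛).app n)] (hj : FSch.IsAdicHom j)
    {J : IdealSh (𝔛.Osh hX)} (hb : FBlow.IsAdmBlowUp b hY hX J)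
    (hb' : FBlow.IsAdmBlowUp b' hY' hX' (FBlow.idealMap j hX' hX J)) (w : t ≫ b = b' ≫ j) :
    IsBC b j b' t := by
  let 𝔜'' : FSch.Sys.{u} :=
    { X := fun n => pullback ((b : FSch.Hom 𝔜 𝔛).app n) ((j : FSch.Hom 𝔛' 𝔛).app n)
      ι := fun n => pullback.lift (pullback.fst _ _ ≫ 𝔜.ι n) (pullback.snd _ _ ≫ 𝔛'.ι n) (by
        rw [Category.assoc, Category.assoc, ← (b : FSch.Hom 𝔜 𝔛).comm n, ← (j : FSch.Hom 𝔛' 𝔛).comm n,
          ← Category.assoc, ← Category.assoc, pullback.condition]) }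
  let b'' : 𝔜'' ⟶ 𝔛' := ⟨fun n => pullback.snd _ _, fun n => (pullback.lift_snd _ _ _).symm⟩
  let k'' : 𝔜'' ⟶ 𝔜 := ⟨fun n => pullback.fst _ _, fun n => (pullback.lift_fst _ _ _).symm⟩
  have h'' : IsBC b j b'' k'' := fun n => IsPullback.of_hasPullback _ _
  have hY'' : 𝔜''.IsFormal :=
    Groth.L17.Thick.isFormal_of_isAdicHom b'' hX' (h''.isAdicHom hb.1)
  have hb'' : FBlow.IsAdmBlowUp b'' hY'' hX' (FBlow.idealMap j hX' hX J) := h''.isAdmBlowUp hj hb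
  obtain ⟨l, hl, -⟩ := hb''.2.2 𝔜' hY' b' hb'.1 hb'.2.1
  obtain ⟨l', hl', -⟩ := hb'.2.2 𝔜'' hY'' b'' hb''.1 hb''.2.1
  have e₁ : l ≫ l' = 𝟙 𝔜' := by
    obtain ⟨m, -, hm⟩ := hb'.2.2 𝔜' hY' b' hb'.1 hb'.2.1
    exact (hm _ (by show (l ≫ l') ≫ b' = b'; rw [Category.assoc, hl', hl])).trans (hm _ (Category.id_comp _)).symm
  have e₂ : l' ≫ l = 𝟙 𝔜'' := by
    obtain ⟨m, -, hm⟩ := hb''.2.2 𝔜'' hY'' b'' hb''.1 hb''.2.1
    exact (hm _ (by show (l' ≫ l) ≫ b'' = b''; rw [Category.assoc, hl, hl'])).trans (hm _ (Category.id_comp _)).symm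
  have hinv : (FBlow.idealMap (t ≫ b) hY' hX J).IsInvertible := by
    rw [w, ← idealMap_comp j hX' hX b' hY']
    exact hb'.2.1
  have had : FSch.IsAdicHom (t ≫ b) := by rw [w]; exact isAdicHom_comp b' j hb'.1 hj
  obtain ⟨m, -, hm⟩ := hb.2.2 𝔜' hY' (t ≫ b) had hinv
  have ht : l ≫ k'' = t := (hm _ (by
    show (l ≫ k'') ≫ b = t ≫ b
    rw [Category.assoc, h''.w, ← Category.assoc, hl, w])).trans (hm _ rfl).symm
  intro n
  haveI : IsIso ((l : FSch.Hom 𝔜' 𝔜'').app n) :=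
    ⟨(l' : FSch.Hom 𝔜'' 𝔜').app n, congrArg (fun φ : 𝔜' ⟶ 𝔜' => (φ : FSch.Hom 𝔜' 𝔜').app n) e₁,
      congrArg (fun φ : 𝔜'' ⟶ 𝔜'' => (φ : FSch.Hom 𝔜'' 𝔜'').app n) e₂⟩
  refine IsPullback.of_iso_pullback ⟨congrArg (fun φ : 𝔜' ⟶ 𝔛 => (φ : FSch.Hom 𝔜' 𝔛).app n) w⟩
    (asIso ((l : FSch.Hom 𝔜' 𝔜'').app n)) ?_ ?_
  · exact congrArg (fun φ : 𝔜' ⟶ 𝔜 => (φ : FSch.Hom 𝔜' 𝔜).app n) ht
  · exact congrArg (fun φ : 𝔜' ⟶ 𝔛' => (φ : FSch.Hom 𝔜' 𝔛').app n) hl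

/-- The inclusion between the systems of two opens. -/
def resR {𝔛 : FSch.Sys.{u}} (h : 𝔛.IsFormal) {V U : (𝔛.X 0).Opens} (i : V ≤ U) :
    𝔛.restrictOpen h V ⟶ 𝔛.restrictOpen h U :=
  ⟨fun n => (𝔛.X n).homOfLE (FBlow.lvU_mono 𝔛 h n i), fun n => by
    rw [← cancel_mono (𝔛.lvU h (n + 1) U).ι]
    simp [FSch.Sys.restrictOpen, Category.assoc]⟩

theorem resR_ι {𝔛 : FSch.Sys.{u}} (h : 𝔛.IsFormal) {V U : (𝔛.X 0).Opens} (i : V ≤ U) :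
    resR h i ≫ 𝔛.restrictOpenι h U = 𝔛.restrictOpenι h V :=
  FSch.Hom.ext (funext fun n => Scheme.homOfLE_ι (𝔛.X n) (FBlow.lvU_mono 𝔛 h n i))

instance {𝔛 : FSch.Sys.{u}} (h : 𝔛.IsFormal) {V U : (𝔛.X 0).Opens} (i : V ≤ U) (n : ℕ) :
    IsOpenImmersion ((resR h i : FSch.Hom _ _).app n) :=
  inferInstanceAs (IsOpenImmersion ((𝔛.X n).homOfLE (FBlow.lvU_mono 𝔛 h n i)))

theorem isAdicHom_resR {𝔛 : FSch.Sys.{u}} (h : 𝔛.IsFormal) {V U : (𝔛.X 0).Opens} (i : V ≤ U) :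
    FSch.IsAdicHom (resR h i) :=
  isAdicHom_of_comp _ (𝔛.restrictOpenι h U) (by rw [resR_ι]; exact isAdicHom_restrictOpenι 𝔛 h V)
    (isAdicHom_restrictOpenι 𝔛 h U)

variable {R : Type u} [CommRing R] {I : Ideal R} {𝔛 : FSch.Sys.{u}} {p : 𝔛 ⟶ FSch.spf R I} {h : 𝔛.IsFormal}

/-- Admissible formal blow-ups of coherent open ideals exist. -/
theorem exists_isAdmBlowUp (hR : AdicRing.IsBase R I) (hp : FSch.IsAdicHom p)
    (hfp : ∀ n, LocallyOfFinitePresentation ((p : FSch.Hom 𝔛 (FSch.spf R I)).app n))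
    (J : IdealSh (𝔛.Osh h)) (hJ : FBlow.IsCohOpen 𝔛 h J) :
    ∃ (𝔛' : FSch.Sys.{u}) (h' : 𝔛'.IsFormal) (b : 𝔛' ⟶ 𝔛), FBlow.IsAdmBlowUp b h' h J := by
  let κ := {U : (𝔛.X 0).Opens // Good p J U}
  have hloc := fun U : κ => exists_local p hp hfp hR U.2
  choose 𝔅 hB b 𝔞 P q d hb hfg hk hqf hq hd hsq using hloc
  let hF := fun U : (𝔛.X 0).Opens => isFormal_restrictOpen 𝔛 h U
  have htr : ∀ {V U : κ} (i : V.1 ≤ U.1), ∃! t : 𝔅 V ⟶ 𝔅 U, t ≫ b U = b V ≫ resR h i := fun {V U} i => by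
    refine (hb U).2.2 (𝔅 V) (hB V) (b V ≫ resR h i) (isAdicHom_comp _ _ (hb V).1 (isAdicHom_resR h i)) ?_
    rw [idealMap_comp (𝔛.restrictOpenι h U.1) (hF U.1) h (b V ≫ resR h i) (hB V), Category.assoc, resR_ι,
      ← idealMap_comp (𝔛.restrictOpenι h V.1) (hF V.1) h (b V) (hB V)]
    exact (hb V).2.1
  choose t ht htu using @htr
  have hbc : ∀ {V U : κ} (i : V.1 ≤ U.1), IsBC (b U) (resR h i) (b V) (t i) := fun {V U} i => by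
    refine isBC_of_isAdmBlowUp (hX := hF U.1) (hX' := hF V.1) (hY' := hB V) (isAdicHom_resR h i) (hb U) ?_ (ht i)
    rw [idealMap_comp (𝔛.restrictOpenι h U.1) (hF U.1) h (resR h i) (hF V.1), resR_ι]
    exact hb V
  have ht1 : ∀ U : κ, t (le_refl U.1) = 𝟙 (𝔅 U) := fun U => (htu _ _ (by
    show 𝟙 _ ≫ b U = _
    rw [Category.id_comp]
    refine FSch.Hom.ext (funext fun n => ?_)
    show ((b U : FSch.Hom _ _).app n) = (b U : FSch.Hom _ _).app n ≫ (𝔛.X n).homOfLE (le_refl (𝔛.lvU h n U.1))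
    rw [Scheme.homOfLE_rfl]
    exact (Category.comp_id _).symm)).symm
  have ht2 : ∀ {V U W : κ} (i : V.1 ≤ U.1) (i' : U.1 ≤ W.1), t i ≫ t i' = t (i.trans i') := fun {V U W} i i' =>
    htu _ _ (by
      show (t i ≫ t i') ≫ b W = _
      rw [Category.assoc, ht, ← Category.assoc, ht, Category.assoc]
      refine congrArg (b V ≫ ·) (FSch.Hom.ext (funext fun n => ?_))
      exact Scheme.homOfLE_homOfLE (𝔛.X n) (FBlow.lvU_mono 𝔛 h n i) (FBlow.lvU_mono 𝔛 h n i'))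
  have hlev : ∀ n, ∃ (G : Scheme.{u}) (g : G ⟶ 𝔛.X n) (e : ∀ U : κ, (𝔅 U).X n ⟶ G),
      (∀ U : κ, IsPullback (e U) ((b U : FSch.Hom _ _).app n) g (𝔛.lvU h n U.1).ι) ∧
      (∀ {V U : κ} (i : V ≤ U), (t i : FSch.Hom _ _).app n ≫ e U = e V) ∧
      (∀ (Q : Scheme.{u}) (f : ∀ U : κ, (𝔅 U).X n ⟶ Q),
        (∀ {V U : κ} (i : V ≤ U), (t i : FSch.Hom _ _).app n ≫ f U = f V) → ∃ F : G ⟶ Q, ∀ U, e U ≫ F = f U) ∧
      ∀ (Q : Scheme.{u}) (F F' : G ⟶ Q), (∀ U, e U ≫ F = e U ≫ F') → F = F' := fun n => by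
    refine exists_glued_opens (fun U : κ => 𝔛.lvU h n U.1) (fun {V U} i => FBlow.lvU_mono 𝔛 h n i) (fun x => ?_)
      (fun V U x hxV hxU => ?_) _ (fun U => (b U : FSch.Hom _ _).app n) (fun {V U} i => (t i : FSch.Hom _ _).app n)
      (fun {V U} i => hbc i n) (fun U => ?_) fun {V U W} i i' => ?_
    · obtain ⟨U, hxU, -, hU⟩ := exists_good p hp (isBase_fg hR) hJ (𝔛.gInv h n x) ⊤ trivial
      exact ⟨⟨U, hU⟩, hxU⟩
    · obtain ⟨_, ⟨W, hW, rfl⟩, hxW, hWle⟩ := (𝔛.X 0).isBasis_affineOpens.exists_subset_of_mem_open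
        (show 𝔛.gInv h n x ∈ V.1 ⊓ U.1 from ⟨hxV, hxU⟩) (V.1 ⊓ U.1).2
      exact ⟨⟨W, V.2.mono p hW fun y hy => (hWle hy).1⟩, fun y hy => (hWle hy).1, fun y hy => (hWle hy).2, hxW⟩
    · exact congrArg (fun φ : 𝔅 U ⟶ 𝔅 U => (φ : FSch.Hom _ _).app n) (ht1 U)
    · exact congrArg (fun φ : 𝔅 V ⟶ 𝔅 W => (φ : FSch.Hom _ _).app n) (ht2 i i')
  choose G g e hpb hw hdesc hext using hlev
  have hι : ∀ n, ∃ F : G n ⟶ G (n + 1), ∀ U, e n U ≫ F = (𝔅 U).ι n ≫ e (n + 1) U := fun n =>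
    hdesc n _ _ fun {V U} i => by
      rw [← Category.assoc, (t i : FSch.Hom _ _).comm n, Category.assoc, hw (n + 1) i]
  choose F hF' using hι
  let 𝔛' : FSch.Sys.{u} := ⟨G, F⟩
  let bb : 𝔛' ⟶ 𝔛 := ⟨g, fun n => hext n _ _ _ fun U => by
    show e n U ≫ g n ≫ 𝔛.ι n = e n U ≫ F n ≫ g (n + 1)
    rw [← Category.assoc, ← Category.assoc, hF', (hpb n U).w, Category.assoc, Category.assoc, (hpb (n + 1) U).w,
      ← Category.assoc ((𝔅 U).ι n), ← (b U : FSch.Hom _ _).comm n, Category.assoc]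
    refine congrArg (_ ≫ ·) ?_
    exact (Scheme.Hom.resLE_comp_ι _ _).symm⟩
  let k : ∀ U : κ, 𝔅 U ⟶ 𝔛' := fun U => ⟨fun n => e n U, fun n => hF' n U⟩
  have hsys : ∀ U : κ, IsBC bb (𝔛.restrictOpenι h U.1) (b U) (k U) := fun U n => hpb n U
  have hcov : ∀ (n : ℕ) (x : 𝔛.X n), ∃ U : κ,
      x ∈ Set.range ((𝔛.restrictOpenι h U.1 : FSch.Hom _ _).app n) := fun n x => by
    obtain ⟨U, hxU, -, hU⟩ := exists_good p hp (isBase_fg hR) hJ (𝔛.gInv h n x) ⊤ trivial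
    exact ⟨⟨U, hU⟩, ⟨x, hxU⟩, rfl⟩
  have hadic : FSch.IsAdicHom bb :=
    isAdicHom_of_cover bb (fun U : κ => 𝔛.restrictOpenι h U.1) b k (fun U => isAdicHom_restrictOpenι 𝔛 h U.1)
      hsys hcov fun U => (hb U).1
  refine ⟨𝔛', Groth.L17.Thick.isFormal_of_isAdicHom bb h hadic, bb, ?_⟩
  exact isAdmBlowUp_of_cover bb (fun U : κ => hF U.1) hB (fun U : κ => 𝔛.restrictOpenι h U.1) b k hadic
    (fun U => isAdicHom_restrictOpenι 𝔛 h U.1) hsys (hcov 0) hb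

end Groth.L20.FBlow
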