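import Groth.Agent.L20.FBlow.Global
import Groth.Agent.L05.Bosch.Apps

/-!
# Admissible formal blow-ups have no torsion and are locally of finite presentation
-/

set_option autoImplicit false
set_option linter.style.haveILetI false
set_option linter.unusedSectionVars false
set_option backward.isDefEq.respectTransparency false
set_option backward.isDefEq.respectTransparency.types false

universe u

open CategoryTheory CategoryTheory.Limits AlgebraicGeometry TopologicalSpace Opposite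

noncomputable section

namespace Groth.L20.FBlow

open _root_.FBlow Groth.L17.FSheaf

variable {R : Type u} [CommRing R] {I : Ideal R}

/-- No section is killed by the ideal of the base. -/
def BaseTF {𝔅 : FSch.Sys.{u}} (h : 𝔅.IsFormal) (p : 𝔅 ⟶ FSch.spf R I) : Prop :=
  ∀ (V : (𝔅.X 0).Opens) (t : Sec 𝔅 h V), (∀ r ∈ I, bS p h V r * t = 0) → t = 0

theorem noTors_of_baseTF {𝔅 : FSch.Sys.{u}} {h : 𝔅.IsFormal} {p : 𝔅 ⟶ FSch.spf R I} (ht : BaseTF h p) :
    NoTors h := fun U s hs => ht U s fun r hr => hs _ ((IdealSh.mem_ker_iff (𝔅.OshProj h 0) U _).2 (by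
  refine (pR_bS p h 0 U r).trans ?_
  rw [Ideal.Quotient.eq_zero_iff_mem.2 (by rwa [zero_add, pow_one]), map_zero, map_zero]))

theorem noPowTorsion_of_baseTF {𝔅 : FSch.Sys.{u}} {h : 𝔅.IsFormal} {p : 𝔅 ⟶ FSch.spf R I} (ht : BaseTF h p)
    (V : (𝔅.X 0).Opens) : letI := (bS p h V).toAlgebra; AdicRing.NoPowTorsion I (Sec 𝔅 h V) := by
  letI := (bS p h V).toAlgebra
  intro x n
  induction n generalizing x with
  | zero =>
    intro hx
    simpa using hx 1 (by simp)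
  | succ n ih =>
    intro hx
    refine ht V x fun r hr => ih _ fun s hs => ?_
    have h1 := hx (s * r) (by rw [pow_succ]; exact Ideal.mul_mem_mul hs hr)
    rw [mul_smul] at h1
    exact h1

section Lfp

variable {𝔅 : FSch.Sys.{u}} (p : 𝔅 ⟶ FSch.spf R I) (h : 𝔅.IsFormal)

/-- Torsion-free systems of finite type are of finite presentation. -/
theorem lfp_of_baseTF (hR : AdicRing.IsBase R I) (hp : FSch.IsAdicHom p)
    [LocallyOfFiniteType ((p : FSch.Hom 𝔅 (FSch.spf R I)).app 0)] (ht : BaseTF h p) (n : ℕ) :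
    LocallyOfFinitePresentation ((p : FSch.Hom 𝔅 (FSch.spf R I)).app n) := by
  have hI := isBase_fg hR
  refine (HasRingHomProperty.iff_exists_appLE (P := @LocallyOfFinitePresentation)
    (RingHom.finitePresentation_stableUnderComposition.stableUnderCompositionWithLocalizationAway
      RingHom.finitePresentation_holdsForLocalizationAway).1).2 fun x => ?_
  obtain ⟨_, ⟨V, hV, rfl⟩, hxV, -⟩ := (𝔅.X 0).isBasis_affineOpens.exists_subset_of_mem_open
    (Set.mem_univ (𝔅.gInv h n x)) isOpen_univ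
  refine ⟨⟨⊤, isAffineOpen_top (Spec (CommRingCat.of (R ⧸ I ^ (n + 1))))⟩, ⟨_, isAffineOpen_lvU 𝔅 h hV n⟩, hxV,
    le_top, ?_⟩
  letI := (bS p h V).toAlgebra
  haveI : IsAdicComplete (I.map (algebraMap R (Sec 𝔅 h V))) (Sec 𝔅 h V) := (sec_spec p h hp hV hI).1
  have hk := fun m => (sec_spec p h hp hV hI).2 m
  let e : ∀ m, (Sec 𝔅 h V ⧸ (I ^ (m + 1)).map (algebraMap R (Sec 𝔅 h V))) →+* Γ(𝔅.X m, 𝔅.lvU h m V) := fun m =>
    Ideal.Quotient.lift _ (pR 𝔅 h m V) fun a ha => RingHom.mem_ker.1 ((hk m).ge ha)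
  have he : ∀ m, Function.Bijective (e m) := fun m =>
    ⟨RingHom.lift_injective_of_ker_le_ideal _ _ (hk m).le,
      Ideal.Quotient.lift_surjective_of_surjective _ _ (pR_surjective 𝔅 h hV m)⟩
  let q : ∀ m, (R ⧸ I ^ (m + 1)) →+* Γ(𝔅.X m, 𝔅.lvU h m V) := fun m =>
    (((p : FSch.Hom 𝔅 (FSch.spf R I)).app m).appLE ⊤ (𝔅.lvU h m V) le_top).hom.comp
      (Scheme.ΓSpecIso (CommRingCat.of (R ⧸ I ^ (m + 1)))).inv.hom
  have heq : ∀ m, (q m).comp (Ideal.Quotient.mk (I ^ (m + 1))) =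
      (e m).comp (algebraMap R (Sec 𝔅 h V ⧸ (I ^ (m + 1)).map (algebraMap R (Sec 𝔅 h V)))) := fun m =>
    RingHom.ext fun a => (pR_bS p h m V a).symm
  have h0 : Algebra.FiniteType R (Sec 𝔅 h V ⧸ (I ^ (0 + 1)).map (algebraMap R (Sec 𝔅 h V))) := by
    rw [← RingHom.finiteType_algebraMap]
    have h1 : (q 0).FiniteType :=
      (HasRingHomProperty.appLE @LocallyOfFiniteType ((p : FSch.Hom 𝔅 (FSch.spf R I)).app 0) inferInstance
        ⟨⊤, isAffineOpen_top (Spec (CommRingCat.of (R ⧸ I ^ (0 + 1))))⟩ ⟨_, isAffineOpen_lvU 𝔅 h hV 0⟩ le_top).comp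
        (RingHom.FiniteType.of_surjective _
          (Scheme.ΓSpecIso (CommRingCat.of (R ⧸ I ^ (0 + 1)))).symm.commRingCatIsoToRingEquiv.surjective)
    have h2 := (RingHom.FiniteType.of_surjective (RingEquiv.ofBijective (e 0) (he 0)).symm.toRingHom
      (RingEquiv.surjective _)).comp (h1.comp (RingHom.FiniteType.of_surjective _ Ideal.Quotient.mk_surjective))
    convert h2 using 1
    rw [heq]
    refine RingHom.ext fun a => ?_
    exact ((RingEquiv.ofBijective (e 0) (he 0)).symm_apply_apply _).symm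
  rw [zero_add, pow_one] at h0
  have hA : AdicRing.TopFinitePresentation R I (Sec 𝔅 h V) :=
    Groth.Agent.S11525.result R I hR _ (Groth.L05.Bosch.topFiniteType_of_finiteType_quotient hI)
      (noPowTorsion_of_baseTF ht V)
  have h3 := (Groth.Agent.S11530.result R I hR (Sec 𝔅 h V)).1 hA n
  have h4 : (q n).FinitePresentation := by
    have h5 := (RingHom.FinitePresentation.of_bijective (he n)).comp h3
    convert h5 using 1
    exact Ideal.Quotient.ringHom_ext (heq n)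
  have h6 := h4.comp (RingHom.FinitePresentation.of_bijective
    (Scheme.ΓSpecIso (CommRingCat.of (R ⧸ I ^ (n + 1)))).commRingCatIsoToRingEquiv.bijective)
  have e6 : (((p : FSch.Hom 𝔅 (FSch.spf R I)).app n).appLE ⊤ (𝔅.lvU h n V) le_top).hom =
      (q n).comp (Scheme.ΓSpecIso (CommRingCat.of (R ⧸ I ^ (n + 1)))).commRingCatIsoToRingEquiv.toRingHom :=
    RingHom.ext fun a => congrArg _ ((Scheme.ΓSpecIso (CommRingCat.of (R ⧸ I ^ (n + 1)))).hom_inv_id_apply a).symm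
  exact e6.symm ▸ h6

end Lfp

section Cover

variable {𝔛 : FSch.Sys.{u}}

/-- Torsion-freeness may be checked on a cover by open immersions. -/
theorem baseTF_of_cover {h : 𝔛.IsFormal} (p : 𝔛 ⟶ FSch.spf R I)
    (H : ∀ x : 𝔛.X 0, ∃ (𝔘 : FSch.Sys.{u}) (hU : 𝔘.IsFormal) (j : 𝔘 ⟶ 𝔛)
      (_ : ∀ n, IsOpenImmersion ((j : FSch.Hom 𝔘 𝔛).app n)),
      x ∈ Set.range ((j : FSch.Hom 𝔘 𝔛).app 0) ∧ BaseTF hU (j ≫ p)) :
    BaseTF h p := by
  intro V t ht
  refine eq_of_local fun x hx => ?_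
  obtain ⟨𝔘, hU, j, hop, ⟨y, rfl⟩, hT⟩ := H x
  let V' : (𝔘.X 0).Opens := (j : FSch.Hom 𝔘 𝔛).app 0 ⁻¹ᵁ V
  have i : img j V' ≤ V := by
    rintro _ ⟨z, hz, rfl⟩
    exact hz
  refine ⟨img j V', i, ⟨y, hx, rfl⟩, ?_⟩
  rw [map_zero]
  refine (fR_bijective h hU j V').1 ?_
  rw [map_zero]
  refine hT V' _ fun r hr => ?_
  have h1 := congrArg (fR j hU h (img j V') V' (le_preimage_img j V')) (congrArg (resS i) (ht r hr))
  rw [map_zero, map_zero, map_mul, map_mul] at h1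
  refine Eq.trans ?_ h1
  refine congrArg (· * _) ?_
  show bS (j ≫ p) hU V' r = _
  rw [resS_scal]
  exact (fR_sS j hU h (cb p) (cb_comm p) (cb (j ≫ p)) (cb_comm _) (fun n => (Category.assoc _ _ _).symm) le_top
    (le_preimage_img j V') le_top _).symm

end Cover

section Piece

variable {A : Type u} [CommRing A]

/-- Functions on the blow-up killed by a torsion-free ideal of the base vanish. -/
theorem eq_zero_of_blowUp {𝔞 : Ideal A} {P : Scheme.{u}} {q : P ⟶ Spec (CommRingCat.of A)}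
    (hq : BlowUp.IsBlowUp q (FSch.idealSpec A 𝔞)) {κ : Type u} [Finite κ] (a : κ → A)
    (ha : ∀ x : A, (∀ i, x * a i = 0) → x = 0) (W : P.affineOpens) (b : Γ(P, W.1))
    (hb : ∀ i, b * (q.appLE ⊤ W.1 le_top).hom ((Scheme.ΓSpecIso (CommRingCat.of A)).inv (a i)) = 0) : b = 0 := by
  classical
  haveI := Fintype.ofFinite κ
  refine Groth.L22.Ideals.eq_zero_of_eq_zero_off_exceptional hq b fun x hx hxI => ?_
  haveI := Groth.L22.Ideals.isIso_stalkMap hq x hxI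
  let S := Spec (CommRingCat.of A)
  let T := S.presheaf.stalk (q x)
  let e := (asIso (q.stalkMap x)).commRingCatIsoToRingEquiv
  letI : Algebra Γ(S, ⊤) T := (S.presheaf.germ ⊤ (q x) trivial).hom.toAlgebra
  haveI : IsLocalization.AtPrime T ((isAffineOpen_top S).primeIdealOf ⟨q x, trivial⟩).asIdeal :=
    (isAffineOpen_top S).isLocalization_stalk ⟨q x, trivial⟩
  obtain ⟨c, hc⟩ := e.surjective (P.presheaf.germ W.1 x hx b)
  rw [← hc]
  refine e.map_eq_zero_iff.2 ?_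
  have hci : ∀ i, c * algebraMap Γ(S, ⊤) T ((Scheme.ΓSpecIso (CommRingCat.of A)).inv (a i)) = 0 := fun i => by
    refine e.map_eq_zero_iff.1 ?_
    rw [map_mul, hc]
    have h1 : P.presheaf.germ W.1 x hx ((q.appLE ⊤ W.1 le_top).hom ((Scheme.ΓSpecIso (CommRingCat.of A)).inv (a i))) =
        e (algebraMap Γ(S, ⊤) T ((Scheme.ΓSpecIso (CommRingCat.of A)).inv (a i))) := by
      refine Eq.trans ?_ (Scheme.Hom.germ_stalkMap_apply q ⊤ x trivial _).symm
      show P.presheaf.germ W.1 x hx (P.presheaf.map _ (q.app ⊤ _)) = _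
      rw [TopCat.Presheaf.germ_res_apply]
    rw [← h1, ← map_mul, hb, map_zero]
  obtain ⟨⟨g, u⟩, hgu⟩ := IsLocalization.surj ((isAffineOpen_top S).primeIdealOf ⟨q x, trivial⟩).asIdeal.primeCompl c
  have hu : IsUnit (algebraMap Γ(S, ⊤) T u) := IsLocalization.map_units T u
  suffices hg : algebraMap Γ(S, ⊤) T g = 0 by
    rw [hg] at hgu
    exact hu.mul_left_eq_zero.1 hgu
  have hv : ∀ i, ∃ v : ((isAffineOpen_top S).primeIdealOf ⟨q x, trivial⟩).asIdeal.primeCompl,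
      (v : Γ(S, ⊤)) * (g * (Scheme.ΓSpecIso (CommRingCat.of A)).inv (a i)) = 0 := fun i => by
    refine (IsLocalization.map_eq_zero_iff ((isAffineOpen_top S).primeIdealOf ⟨q x, trivial⟩).asIdeal.primeCompl T _).1 ?_
    rw [map_mul, ← hgu]
    rw [mul_right_comm, hci, zero_mul]
  choose v hv using hv
  refine (IsLocalization.map_eq_zero_iff ((isAffineOpen_top S).primeIdealOf ⟨q x, trivial⟩).asIdeal.primeCompl T _).2
    ⟨∏ i, v i, ?_⟩
  let E := (Scheme.ΓSpecIso (CommRingCat.of A)).commRingCatIsoToRingEquiv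
  refine E.map_eq_zero_iff.1 (ha _ fun i => ?_)
  have h2 : ((∏ i, v i : ((isAffineOpen_top S).primeIdealOf ⟨q x, trivial⟩).asIdeal.primeCompl) : Γ(S, ⊤)) * g *
      (Scheme.ΓSpecIso (CommRingCat.of A)).inv (a i) = 0 := by
    rw [← Finset.prod_erase_mul _ _ (Finset.mem_univ i), Submonoid.coe_mul, mul_assoc, mul_assoc, hv, mul_zero]
  have h3 := congrArg E h2
  rw [map_mul, map_zero] at h3
  exact (congrArg (_ * ·) (E.apply_symm_apply (a i)).symm).trans h3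

end Piece

variable {𝔛 : FSch.Sys.{u}} {p : 𝔛 ⟶ FSch.spf R I} {h : 𝔛.IsFormal}

/-- The pieces of a blow-up are torsion free. -/
theorem baseTF_piece (hR : AdicRing.IsBase R I) (hp : FSch.IsAdicHom p)
    (hfp : ∀ n, LocallyOfFinitePresentation ((p : FSch.Hom 𝔛 (FSch.spf R I)).app n)) (htf : NoTors h)
    {U : (𝔛.X 0).Opens} (hU : IsAffineOpen U) {𝔞 : Ideal (Sec 𝔛 h U)} {P : Scheme.{u}}
    {q : P ⟶ Spec (CommRingCat.of (Sec 𝔛 h U))} [LocallyOfFiniteType q]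
    (hq : BlowUp.IsBlowUp q (FSch.idealSpec (Sec 𝔛 h U) 𝔞)) {𝔅 : FSch.Sys.{u}} (hB : 𝔅.IsFormal)
    (b : 𝔅 ⟶ 𝔛.restrictOpen h U) (d : ∀ n, 𝔅.X n ⟶ P) (hd : ∀ n, 𝔅.ι n ≫ d (n + 1) = d n)
    (hsq : ∀ n, IsPullback (d n) ((b : FSch.Hom 𝔅 (𝔛.restrictOpen h U)).app n) q (pieceC U n)) :
    BaseTF hB (b ≫ 𝔛.restrictOpenι h U ≫ p) := by
  have hI := isBase_fg hR
  letI := (bS p h U).toAlgebra
  have hA : AdicRing.TopFiniteType R I (Sec 𝔛 h U) := by
    obtain ⟨n, φ, hφ, -⟩ := sec_tfp p h hp hU hfp hR hI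
    exact ⟨n, φ, hφ⟩
  have hthick : IsThick (𝔛.restrictOpen h U) (pieceC U)
      (FSch.idealSpec (Sec 𝔛 h U) (I.map (algebraMap R (Sec 𝔛 h U)))) := fun n => isThick_jS p h hp hU hI n
  have hI' := isThick_of_isPullback hthick q hsq
  obtain ⟨S, hS⟩ := id hI
  let q' : P ⟶ Spec (CommRingCat.of R) := q ≫ Spec.map (CommRingCat.ofHom (bS p h U))
  have hq' : ∀ n, d n ≫ q' = cb (b ≫ 𝔛.restrictOpenι h U ≫ p) n := fun n => by
    show d n ≫ q ≫ _ = _
    rw [← Category.assoc, (hsq n).w, Category.assoc]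
    show _ ≫ jS h U n ≫ _ = _
    rw [jS_scal]
    simp only [cb, FSch.comp_app, Category.assoc]
    rfl
  intro V t ht
  refine eq_zero_of_forall_mul (d := d) (hd := hd) (flat_completion hR hA) hI' (κ := (↑S : Set R))
    (fun r => (q'.appLE ⊤ ⊤ le_top).hom ((Scheme.ΓSpecIso (CommRingCat.of R)).inv r.1)) (fun W c hc => ?_) t fun r => ?_
  · refine eq_zero_of_blowUp hq (fun r : (↑S : Set R) => bS p h U r.1) (fun x hx => ?_) W c fun r => ?_
    · refine noPowTorsion_sec p h hp hU hI htf x 1 fun a ha => ?_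
      rw [pow_one, ← hS] at ha
      show bS p h U a * x = 0
      induction ha using Submodule.span_induction with
      | mem a ha => rw [mul_comm]; exact hx ⟨a, ha⟩
      | zero => rw [map_zero, zero_mul]
      | add a a' _ _ iha iha' => rw [map_add, add_mul, iha, iha', add_zero]
      | smul s a _ iha => rw [smul_eq_mul, map_mul, mul_assoc, iha, mul_zero]
    · refine Eq.trans (congrArg (c * ·) ?_) (hc r)
      have e1 := ConcreteCategory.congr_hom (FSch.appLE_comp_appLE_of_eq q (Spec.map (CommRingCat.ofHom (bS p h U)))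
        q' rfl ⊤ ⊤ W.1 le_top le_top le_top) ((Scheme.ΓSpecIso (CommRingCat.of R)).inv r.1)
      refine Eq.trans ?_ (ConcreteCategory.congr_hom (Scheme.Hom.appLE_map q' (le_top : ⊤ ≤ q' ⁻¹ᵁ ⊤)
        (homOfLE (le_top : W.1 ≤ ⊤)).op) _).symm
      refine Eq.trans ?_ e1
      exact congrArg (q.appLE ⊤ W.1 le_top).hom (specMap_appLE (A := CommRingCat.of R)
        (B := CommRingCat.of (Sec 𝔛 h U)) (CommRingCat.ofHom (bS p h U)) r.1).symm
  · rw [← sS_comp d hd q' (cb (b ≫ 𝔛.restrictOpenι h U ≫ p)) (cb_comm _) hq' le_top le_top le_top]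
    rw [mul_comm]
    exact ht r.1 (hS ▸ Ideal.subset_span r.2)

/-- Over a good open every admissible blow-up is a piece. -/
theorem exists_bc_piece (hR : AdicRing.IsBase R I) (hp : FSch.IsAdicHom p)
    (hfp : ∀ n, LocallyOfFinitePresentation ((p : FSch.Hom 𝔛 (FSch.spf R I)).app n))
    {J : IdealSh (𝔛.Osh h)} {𝔛' : FSch.Sys.{u}} {h' : 𝔛'.IsFormal} {b : 𝔛' ⟶ 𝔛}
    (hb : FBlow.IsAdmBlowUp b h' h J) {U : (𝔛.X 0).Opens} (hU : Good p J U) :
    ∃ (𝔅 : FSch.Sys.{u}) (hB : 𝔅.IsFormal) (bU : 𝔅 ⟶ 𝔛.restrictOpen h U) (k : 𝔅 ⟶ 𝔛')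
      (𝔞 : Ideal (Sec 𝔛 h U)) (P : Scheme.{u}) (q : P ⟶ Spec (CommRingCat.of (Sec 𝔛 h U))) (d : ∀ n, 𝔅.X n ⟶ P),
      IsBC b (𝔛.restrictOpenι h U) bU k ∧
      FBlow.IsAdmBlowUp bU hB (isFormal_restrictOpen 𝔛 h U)
        (FBlow.idealMap (𝔛.restrictOpenι h U) (isFormal_restrictOpen 𝔛 h U) h J) ∧
      𝔞.FG ∧ LocallyOfFiniteType q ∧
      BlowUp.IsBlowUp q (FSch.idealSpec (Sec 𝔛 h U) 𝔞) ∧ (∀ n, 𝔅.ι n ≫ d (n + 1) = d n) ∧
      ∀ n, IsPullback (d n) ((bU : FSch.Hom 𝔅 (𝔛.restrictOpen h U)).app n) q (pieceC U n) := by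
  obtain ⟨𝔅, hB, bU, 𝔞, P, q, d, hbU, hfg, -, hqf, hq, hd, hsq⟩ := exists_local p hp hfp hR hU
  have hinv := hbU.2.1
  rw [idealMap_comp (𝔛.restrictOpenι h U) (isFormal_restrictOpen 𝔛 h U) h bU hB] at hinv
  obtain ⟨k, hk, -⟩ := hb.2.2 𝔅 hB (bU ≫ 𝔛.restrictOpenι h U)
    (isAdicHom_comp _ _ hbU.1 (isAdicHom_restrictOpenι 𝔛 h U)) hinv
  exact ⟨𝔅, hB, bU, k, 𝔞, P, q, d, isBC_of_isAdmBlowUp (isAdicHom_restrictOpenι 𝔛 h U) hb hbU hk, hbU, hfg, hqf,
    hq, hd, hsq⟩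

/-- An admissible blow-up is torsion free and of finite presentation. -/
theorem baseTF_lfp_of_isAdmBlowUp (hR : AdicRing.IsBase R I) (hp : FSch.IsAdicHom p)
    (hfp : ∀ n, LocallyOfFinitePresentation ((p : FSch.Hom 𝔛 (FSch.spf R I)).app n)) (htf : NoTors h)
    {J : IdealSh (𝔛.Osh h)} (hJ : FBlow.IsCohOpen 𝔛 h J) {𝔛' : FSch.Sys.{u}} {h' : 𝔛'.IsFormal} {b : 𝔛' ⟶ 𝔛}
    (hb : FBlow.IsAdmBlowUp b h' h J) :
    BaseTF h' (b ≫ p) ∧ ∀ n, LocallyOfFinitePresentation ((b ≫ p : FSch.Hom 𝔛' (FSch.spf R I)).app n) := by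
  have hcov : ∀ y : 𝔛'.X 0, ∃ U : (𝔛.X 0).Opens, (b : FSch.Hom 𝔛' 𝔛).app 0 y ∈ U ∧ Good p J U := fun y => by
    obtain ⟨U, hxU, -, hU⟩ := exists_good p hp (isBase_fg hR) hJ ((b : FSch.Hom 𝔛' 𝔛).app 0 y) ⊤ trivial
    exact ⟨U, hxU, hU⟩
  have htf' : BaseTF h' (b ≫ p) := by
    refine baseTF_of_cover (b ≫ p) fun y => ?_
    obtain ⟨U, hxU, hU⟩ := hcov y
    obtain ⟨𝔅, hB, bU, k, 𝔞, P, q, d, hbc, -, -, hqf, hq, hd, hsq⟩ := exists_bc_piece hR hp hfp hb hU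
    haveI := hqf
    obtain ⟨z, hz⟩ := (range_restrictOpenι (hX := h) U).ge hxU
    obtain ⟨w, hw, -⟩ := Scheme.exists_preimage_of_isPullback (hbc 0) y z hz.symm
    refine ⟨𝔅, hB, k, hbc.isOpenImmersion, ⟨w, hw⟩, ?_⟩
    rw [← Category.assoc, hbc.w, Category.assoc]
    exact baseTF_piece hR hp hfp htf hU.1 hq hB bU d hd hsq
  refine ⟨htf', fun n => ?_⟩
  haveI : LocallyOfFiniteType ((b : FSch.Hom 𝔛' 𝔛).app 0) := by
    refine (IsZariskiLocalAtTarget.iff_of_iSup_eq_top (P := @LocallyOfFiniteType)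
      (fun U : {U : (𝔛.X 0).Opens // Good p J U} => U.1) (eq_top_iff.2 fun x _ => ?_)).2 fun U => ?_
    · obtain ⟨U, hxU, -, hU⟩ := exists_good p hp (isBase_fg hR) hJ x ⊤ trivial
      exact Opens.mem_iSup.2 ⟨⟨U, hU⟩, hxU⟩
    · obtain ⟨𝔅, hB, bU, k, 𝔞, P, q, d, hbc, -, -, hqf, hq, hd, hsq⟩ := exists_bc_piece hR hp hfp hb U.2
      haveI := hqf
      haveI : LocallyOfFiniteType ((bU : FSch.Hom 𝔅 _).app 0) :=
        MorphismProperty.of_isPullback (P := @LocallyOfFiniteType) (hsq 0) inferInstance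
      have e : 𝔛.lvU h 0 U.1 = U.1 := toX_preimage_lvU 𝔛 h 0 U.1
      have h1 : IsPullback ((k : FSch.Hom 𝔅 𝔛').app 0) ((bU : FSch.Hom 𝔅 _).app 0)
          ((b : FSch.Hom 𝔛' 𝔛).app 0) (𝔛.lvU h 0 U.1).ι := hbc 0
      have h2 : LocallyOfFiniteType (((b : FSch.Hom 𝔛' 𝔛).app 0) ∣_ 𝔛.lvU h 0 U.1) := by
        refine (MorphismProperty.cancel_left_of_respectsIso (@LocallyOfFiniteType)
          (h1.isoIsPullback _ _ (isPullback_morphismRestrict _ _).flip).hom _).1 ?_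
        exact (h1.isoIsPullback_hom_snd _ _ (isPullback_morphismRestrict _ _).flip).symm ▸
          (inferInstance : LocallyOfFiniteType ((bU : FSch.Hom 𝔅 _).app 0))
      exact e ▸ h2
  haveI : LocallyOfFiniteType ((b ≫ p : FSch.Hom 𝔛' (FSch.spf R I)).app 0) := by
    haveI := hfp 0
    rw [FSch.comp_app]
    infer_instance
  exact lfp_of_baseTF (b ≫ p) h' hR (isAdicHom_comp b p hb.1 hp) htf' n

end Groth.L20.FBlow
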