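import Groth.Agent.L20.FBlow.Coh
import Groth.Agent.L20.FBlow.Torsion

/-!
# Products of ideal sheaves; successive blow-ups
-/

set_option autoImplicit false
set_option linter.style.haveILetI false
set_option linter.unusedSectionVars false
set_option backward.isDefEq.respectTransparency false
set_option backward.isDefEq.respectTransparency.types false

universe u

open CategoryTheory CategoryTheory.Limits AlgebraicGeometry TopologicalSpace Opposite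

noncomputable section

namespace Groth.L20.FBlow

open _root_.FBlow Groth.L17.FSheaf

section Generic

variable {T : TopCat.{u}} {O : Sheaf (Opens.grothendieckTopology T) CommRingCat.{u}}
variable {J K : IdealSh O}

/-- The product is generated by the products. -/
theorem genOn_mul {U : Opens T} {N M : Ideal (O.obj.obj (op U))} (hN : GenOn J U N) (hM : GenOn K U M) :
    GenOn (IdealSh.mul J K) U (N * M) := by
  refine genOn_gen ?_ ?_
  · rw [Ideal.mul_le]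
    exact fun a ha b hb => IdealSh.subset_gen _ _ ⟨a, hN.le ha, b, hM.le hb, rfl⟩
  · rintro W _ ⟨a, ha, b, hb, rfl⟩ x hxU hxW
    obtain ⟨W₁, j₁, hx₁, e₁⟩ := (hN (W ⊓ U) inf_le_right _).1 (J.map_mem inf_le_left ha) x ⟨hxW, hxU⟩
    obtain ⟨W₂, j₂, hx₂, e₂⟩ := (hM (W ⊓ U) inf_le_right _).1 (K.map_mem inf_le_left hb) x ⟨hxW, hxU⟩
    refine ⟨W₁ ⊓ W₂, inf_le_left.trans (j₁.trans inf_le_right), inf_le_left.trans (j₁.trans inf_le_left),
      ⟨hx₁, hx₂⟩, ?_⟩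
    have f₁ := Ideal.mem_map_of_mem (rO O (inf_le_left : W₁ ⊓ W₂ ≤ W₁)) e₁
    have f₂ := Ideal.mem_map_of_mem (rO O (inf_le_right : W₁ ⊓ W₂ ≤ W₂)) e₂
    change rO O _ (rO O j₁ (rO O _ a)) ∈ _ at f₁
    change rO O _ (rO O j₂ (rO O _ b)) ∈ _ at f₂
    rw [map_rO, rO_rO, rO_rO] at f₁ f₂
    rw [Ideal.map_mul, map_mul]
    exact Ideal.mul_mem_mul f₁ f₂

/-- Ideal sheaves generated near every point by the same ideals are equal. -/
theorem eq_of_genOn_local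
    (h : ∀ x : T, ∃ (U : Opens T) (N : Ideal (O.obj.obj (op U))), x ∈ U ∧ GenOn J U N ∧ GenOn K U N) : J = K := by
  refine IdealSh.ext (funext fun V => le_antisymm ?_ ?_) <;> intro t ht
  · refine K.mem_of_local fun x hx => ?_
    obtain ⟨U, N, hxU, hJ, hK⟩ := h x
    exact ⟨V ⊓ U, inf_le_left, ⟨hx, hxU⟩, (hJ.sect_eq hK inf_le_right) ▸ J.map_mem inf_le_left ht⟩
  · refine J.mem_of_local fun x hx => ?_
    obtain ⟨U, N, hxU, hJ, hK⟩ := h x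
    exact ⟨V ⊓ U, inf_le_left, ⟨hx, hxU⟩, (hK.sect_eq hJ inf_le_right) ▸ K.map_mem inf_le_left ht⟩

theorem mul_comm' : IdealSh.mul J K = IdealSh.mul K J := by
  unfold IdealSh.mul
  congr 1
  ext W t
  constructor <;> rintro ⟨a, ha, b, hb, rfl⟩ <;> exact ⟨b, hb, a, ha, mul_comm a b⟩

/-- A product of invertible ideals is invertible. -/
theorem isInvertible_mul (hJ : J.IsInvertible) (hK : K.IsInvertible) : (IdealSh.mul J K).IsInvertible := by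
  refine isInvertible_of_local fun x => ?_
  obtain ⟨U, s, hxU, hs, rs⟩ := exists_genOn_of_isInvertible hJ x
  obtain ⟨V, t, hxV, ht, rt⟩ := exists_genOn_of_isInvertible hK x
  have h := genOn_mul (hs.mono (inf_le_left : U ⊓ V ≤ U)) (ht.mono (inf_le_right : U ⊓ V ≤ V))
  rw [Ideal.map_span, Ideal.map_span, Set.image_singleton, Set.image_singleton,
    Ideal.span_singleton_mul_span_singleton] at h
  refine ⟨U ⊓ V, _, ⟨hxU, hxV⟩, h, fun W i a ha => ?_⟩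
  rw [map_mul, ← mul_assoc] at ha
  exact (rs.mono inf_le_left) W i a ((rt.mono inf_le_right) W i _ ha)

end Generic

variable {𝔛 𝔜 : FSch.Sys.{u}} {hX : 𝔛.IsFormal} {hY : 𝔜.IsFormal}

/-- The first factor of an invertible product is invertible. -/
theorem isInvertible_of_mul {J K : IdealSh (𝔛.Osh hX)} (hinv : (IdealSh.mul J K).IsInvertible)
    (h : ∀ x : 𝔛.X 0, ∃ (U : (𝔛.X 0).Opens) (N M : Ideal (Sec 𝔛 hX U)),
      x ∈ U ∧ N.FG ∧ M.FG ∧ GenOn J U N ∧ GenOn K U M) : J.IsInvertible := by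
  classical
  refine isInvertible_of_local fun x => ?_
  obtain ⟨U, N, M, hxU, ⟨A, hA⟩, ⟨B, hB⟩, hN, hM⟩ := h x
  obtain ⟨U', s, hxU', hs, rs⟩ := exists_genOn_of_isInvertible hinv x
  let V : (𝔛.X 0).Opens := U ⊓ U'
  have hNV := hN.mono (inf_le_left : V ≤ U)
  have hMV := hM.mono (inf_le_left : V ≤ U)
  have hsV := hs.mono (inf_le_right : V ≤ U')
  obtain ⟨W, j, hxW, hsW⟩ := ((genOn_mul hNV hMV) V le_rfl (rO (𝔛.Osh hX) inf_le_right s)).1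
    (hsV.le (Ideal.mem_map_of_mem _ (Ideal.mem_span_singleton_self s))) x ⟨hxU, hxU'⟩
  let ρ : Sec 𝔛 hX U →+* Sec 𝔛 hX W := resS (j.trans inf_le_left)
  let σ : Sec 𝔛 hX W := resS (j.trans inf_le_right) s
  have rσ : Reg (O := 𝔛.Osh hX) W σ := rs.mono _
  rw [Ideal.map_mul, map_rO, map_rO, rO_rO] at hsW
  change σ ∈ N.map ρ * M.map ρ at hsW
  let Z : Finset (Sec 𝔛 hX W) := ((A ×ˢ B).image fun ab => ρ ab.1 * ρ ab.2)
  have hNM : N.map ρ * M.map ρ = Ideal.span (↑Z : Set (Sec 𝔛 hX W)) := by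
    rw [← hA, ← hB, Ideal.map_span, Ideal.map_span, Ideal.span_mul_span']
    congr 1
    ext z
    simp only [Z, Set.mem_mul, Set.mem_image, Finset.coe_image, Finset.coe_product, Set.mem_prod, Finset.mem_coe,
      Prod.exists]
    exact ⟨fun ⟨_, ⟨a, ha, rfl⟩, _, ⟨b, hb, rfl⟩, e⟩ => ⟨a, b, ⟨ha, hb⟩, e⟩,
      fun ⟨a, b, ⟨ha, hb⟩, e⟩ => ⟨_, ⟨a, ha, rfl⟩, _, ⟨b, hb, rfl⟩, e⟩⟩
  -- the quotients by the regular generator
  have hq : ∀ z ∈ Z, ∃ q : Sec 𝔛 hX W, z = q * σ := by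
    intro z hz
    have hz' : z ∈ (IdealSh.mul J K).sect W := by
      refine (genOn_mul (hN.mono (j.trans inf_le_left)) (hM.mono (j.trans inf_le_left))).le ?_
      change z ∈ N.map ρ * M.map ρ
      rw [hNM]
      exact Ideal.subset_span hz
    refine exists_eq_mul_of_local rs (j.trans inf_le_right) z fun y hy => ?_
    obtain ⟨W', j', hyW', hW'⟩ := (hs W (j.trans inf_le_right) z).1 hz' y hy
    rw [Ideal.map_span, Set.image_singleton, Ideal.mem_span_singleton'] at hW'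
    obtain ⟨q, hq⟩ := hW'
    exact ⟨W', j', q, hyW', hq.symm⟩
  choose! q hq using hq
  rw [hNM] at hsW
  obtain ⟨c, hc⟩ := Submodule.mem_span_finset.1 hsW
  have hone : ∑ z ∈ Z, c z * q z = 1 := by
    refine sub_eq_zero.1 (rσ W le_rfl _ ?_)
    rw [rO_self, sub_mul, one_mul, sub_eq_zero, Finset.sum_mul]
    refine Eq.trans (Finset.sum_congr rfl fun z hz => ?_) hc.2
    rw [mul_assoc, ← hq z hz, smul_eq_mul]
  have htop : Ideal.span (q '' ↑Z) = ⊤ := by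
    rw [Ideal.eq_top_iff_one, ← hone]
    exact Ideal.sum_mem _ fun z hz => Ideal.mul_mem_left _ _ (Ideal.subset_span ⟨z, hz, rfl⟩)
  obtain ⟨z, hz, W', k, hxW', hu⟩ := exists_isUnit_of_sum_eq_one Z q htop hxW
  obtain ⟨⟨a₀, b₀⟩, hab, rfl⟩ := Finset.mem_image.1 hz
  rw [Finset.mem_product] at hab
  let τ : Sec 𝔛 hX U →+* Sec 𝔛 hX W' := (resS k).comp ρ
  let σ' : Sec 𝔛 hX W' := resS k σ
  have rσ' : Reg (O := 𝔛.Osh hX) W' σ' := rσ.mono k
  have e₀ : τ a₀ * τ b₀ = resS k (q (ρ a₀ * ρ b₀)) * σ' := by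
    exact (map_mul (resS k) (ρ a₀) (ρ b₀)).symm.trans ((congrArg (resS k) (hq _ hz)).trans (map_mul (resS k) _ σ))
  have rab : ∀ (V' : (𝔛.X 0).Opens) (i : V' ≤ W') (t : Sec 𝔛 hX V'),
      t * resS i (τ a₀ * τ b₀) = 0 → t = 0 := by
    intro V' i t ht
    rw [e₀, map_mul, ← mul_assoc] at ht
    exact (hu.map (resS i)).mul_left_eq_zero.1 (rσ' V' i _ ht)
  refine ⟨W', τ a₀, hxW', ?_, fun V' i t ht => rab V' i t ?_⟩
  · have h1 := (hN.mono (j.trans inf_le_left)).mono k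
    rw [map_rO] at h1
    refine h1.congr_ideal ?_
    have e : (rO (𝔛.Osh hX) (k.trans (j.trans inf_le_left)) : Sec 𝔛 hX U →+* Sec 𝔛 hX W') = τ :=
      RingHom.ext fun x => (rO_rO (O := 𝔛.Osh hX) _ _ x).symm
    rw [e, ← hA, Ideal.map_span]
    refine le_antisymm (Ideal.span_le.2 ?_) (Ideal.span_le.2 (Set.singleton_subset_iff.2
      (Ideal.subset_span ⟨a₀, hab.1, rfl⟩)))
    rintro _ ⟨a, ha, rfl⟩
    have hzm : ρ a * ρ b₀ ∈ Z := Finset.mem_image.2 ⟨(a, b₀), Finset.mem_product.2 ⟨ha, hab.2⟩, rfl⟩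
    refine Ideal.mem_span_singleton'.2
      ⟨resS k (q (ρ a * ρ b₀)) * (hu.unit⁻¹ : (Sec 𝔛 hX W')ˣ), ?_⟩
    have e₁ : τ a * τ b₀ = resS k (q (ρ a * ρ b₀)) * σ' := by
      exact (map_mul (resS k) (ρ a) (ρ b₀)).symm.trans ((congrArg (resS k) (hq _ hzm)).trans (map_mul (resS k) _ σ))
    have hcancel : ∀ t : Sec 𝔛 hX W', t * τ b₀ = 0 → t = 0 := fun t ht => rab W' le_rfl t (by
      rw [resS, rO_self, mul_comm (τ a₀), ← mul_assoc, ht, zero_mul])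
    refine sub_eq_zero.1 (hcancel _ ?_)
    rw [sub_mul, sub_eq_zero, mul_assoc, e₀, e₁, mul_assoc]
    congr 1
    rw [← mul_assoc, IsUnit.val_inv_mul, one_mul]
  · rw [map_mul, ← mul_assoc]
    change t * resS i (τ a₀) = 0 at ht
    rw [ht, zero_mul]

section Base

variable {R : Type u} [CommRing R] {I : Ideal R} (f : 𝔜 ⟶ 𝔛) (p : 𝔛 ⟶ FSch.spf R I)

theorem fR_bS {U : (𝔛.X 0).Opens} {V : (𝔜.X 0).Opens} (e : V ≤ (f : FSch.Hom 𝔜 𝔛).app 0 ⁻¹ᵁ U) (r : R) :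
    fR f hY hX U V e (bS p hX U r) = bS (f ≫ p) hY V r := by
  refine fR_sS f hY hX (cb p) (cb_comm p) (cb (f ≫ p)) (cb_comm (f ≫ p)) (fun n => ?_) (W := ⊤) le_top e le_top
    ((Scheme.ΓSpecIso (CommRingCat.of R)).inv r)
  show _ = ((f ≫ p : FSch.Hom 𝔜 (FSch.spf R I)).app n) ≫ FSch.spfToSpec R I n
  rw [FSch.comp_app, Category.assoc]
  rfl

theorem map_fR_bS {U : (𝔛.X 0).Opens} {V : (𝔜.X 0).Opens} (e : V ≤ (f : FSch.Hom 𝔜 𝔛).app 0 ⁻¹ᵁ U)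
    (N : Ideal R) : (N.map (bS p hX U)).map (fR f hY hX U V e) = N.map (bS (f ≫ p) hY V) := by
  have h1 : (fR f hY hX U V e).comp (bS p hX U) = bS (f ≫ p) hY V := by
    ext r
    rw [RingHom.comp_apply, fR_bS f p e r]
  rw [Ideal.map_map, h1]

theorem Good.idealMap {J : IdealSh (𝔛.Osh hX)} {U : (𝔛.X 0).Opens} (hU : Good p J U) {V : (𝔜.X 0).Opens}
    (hV : IsAffineOpen V) (e : V ≤ (f : FSch.Hom 𝔜 𝔛).app 0 ⁻¹ᵁ U) :
    Good (f ≫ p) (FBlow.idealMap f hY hX J) V := by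
  obtain ⟨-, 𝔞, hfg, ⟨k, hk⟩, hg⟩ := hU
  refine ⟨hV, 𝔞.map (fR f hY hX U V e), hfg.map _, ⟨k, ?_⟩, hg.idealMap f hY hX e⟩
  rw [← map_fR_bS f p e]
  exact Ideal.map_mono hk

theorem exists_good_idealMap {J : IdealSh (𝔛.Osh hX)} (hR : AdicRing.IsBase R I) (hp : FSch.IsAdicHom p)
    (hJ : FBlow.IsCohOpen 𝔛 hX J) (y : 𝔜.X 0) (W : (𝔜.X 0).Opens) (hy : y ∈ W) :
    ∃ V : (𝔜.X 0).Opens, y ∈ V ∧ V ≤ W ∧ Good (f ≫ p) (FBlow.idealMap f hY hX J) V := by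
  obtain ⟨U, hyU, -, hU⟩ := exists_good p hp (isBase_fg hR) hJ ((f : FSch.Hom 𝔜 𝔛).app 0 y) ⊤ trivial
  obtain ⟨_, ⟨V, hV, rfl⟩, hyV, hVle⟩ := (𝔜.X 0).isBasis_affineOpens.exists_subset_of_mem_open
    (show y ∈ W ⊓ (f : FSch.Hom 𝔜 𝔛).app 0 ⁻¹ᵁ U from ⟨hy, hyU⟩)
    (W ⊓ (f : FSch.Hom 𝔜 𝔛).app 0 ⁻¹ᵁ U).2
  exact ⟨V, hyV, fun z hz => (hVle hz).1, hU.idealMap f p hV fun z hz => (hVle hz).2⟩

/-- Inverse images of coherent open ideals are coherent open. -/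
theorem isCohOpen_idealMap {J : IdealSh (𝔛.Osh hX)} (hR : AdicRing.IsBase R I) (hp : FSch.IsAdicHom p)
    (hfp : FSch.IsAdicHom (f ≫ p)) (hJ : FBlow.IsCohOpen 𝔛 hX J) :
    FBlow.IsCohOpen 𝔜 hY (FBlow.idealMap f hY hX J) :=
  isCohOpen_of_good hR hfp fun y => by
    obtain ⟨V, hyV, -, hV⟩ := exists_good_idealMap f p hR hp hJ y ⊤ trivial
    exact ⟨V, hyV, hV⟩

/-- An invertible open ideal stays invertible on a torsion-free system. -/
theorem isInvertible_idealMap_of_baseTF {J : IdealSh (𝔛.Osh hX)} (hinv : J.IsInvertible)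
    (hJ : ∀ x : 𝔛.X 0, ∀ W : (𝔛.X 0).Opens, x ∈ W → ∃ V : (𝔛.X 0).Opens, x ∈ V ∧ V ≤ W ∧ Good p J V)
    (htf : BaseTF hY (f ≫ p)) : (FBlow.idealMap f hY hX J).IsInvertible := by
  refine isInvertible_of_local fun y => ?_
  obtain ⟨U, hxU, s, hs, hsU⟩ := hinv ((f : FSch.Hom 𝔜 𝔛).app 0 y)
  obtain ⟨V, hxV, hVU, -, 𝔞, -, ⟨k, hk⟩, hg⟩ := hJ _ U hxU
  have hgen : GenOn J V (Ideal.span {resS hVU s}) := fun V' i t => by
    constructor
    · intro ht z hz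
      obtain ⟨q, hq⟩ := (hsU V' (i.trans hVU)).2 t ht
      refine ⟨V', le_rfl, hz, ?_⟩
      rw [rO_self, Ideal.map_span, Set.image_singleton, Ideal.mem_span_singleton']
      exact ⟨q, (congrArg (q * ·) (rO_rO (O := 𝔛.Osh hX) hVU _ s)).trans hq.symm⟩
    · intro ht
      refine J.mem_of_local fun z hz => ?_
      obtain ⟨W, j, hzW, hW⟩ := ht z hz
      refine ⟨W, j, hzW, (Ideal.map_le_iff_le_comap.2 ?_) hW⟩
      rw [Ideal.span_le, Set.singleton_subset_iff]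
      exact J.map_mem _ (J.map_mem hVU hs)
  let V' : (𝔜.X 0).Opens := (f : FSch.Hom 𝔜 𝔛).app 0 ⁻¹ᵁ V
  have h1 := hgen.idealMap f hY hX (le_refl V')
  rw [Ideal.map_span, Set.image_singleton] at h1
  refine ⟨V', _, hxV, h1, fun W i t ht => ?_⟩
  letI := (bS (f ≫ p) hY W).toAlgebra
  refine noPowTorsion_of_baseTF htf W t k fun r hr => ?_
  show bS (f ≫ p) hY W r * t = 0
  obtain ⟨q, hq⟩ := (hsU V hVU).2 (bS p hX V r) (hg.le (hk (Ideal.mem_map_of_mem _ hr)))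
  have e : (i : W ≤ (f : FSch.Hom 𝔜 𝔛).app 0 ⁻¹ᵁ V) = i := rfl
  rw [← fR_bS f p i r, hq, map_mul, mul_assoc, mul_comm (fR f hY hX V W i _) t]
  change t * resS i (fR f hY hX V V' le_rfl (resS hVU s)) = 0 at ht
  rw [resS_fR] at ht
  rw [ht, mul_zero]

/-- Inverse images of products. -/
theorem idealMap_mul {J K : IdealSh (𝔛.Osh hX)} (hR : AdicRing.IsBase R I) (hp : FSch.IsAdicHom p)
    (hJ : FBlow.IsCohOpen 𝔛 hX J) (hK : FBlow.IsCohOpen 𝔛 hX K) :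
    FBlow.idealMap f hY hX (IdealSh.mul J K) =
      IdealSh.mul (FBlow.idealMap f hY hX J) (FBlow.idealMap f hY hX K) := by
  refine eq_of_genOn_local fun y => ?_
  obtain ⟨U, hyU, -, -, N, -, -, hN⟩ := exists_good p hp (isBase_fg hR) hJ ((f : FSch.Hom 𝔜 𝔛).app 0 y) ⊤ trivial
  obtain ⟨U', hyU', hle, -, M, -, -, hM⟩ := exists_good p hp (isBase_fg hR) hK _ U hyU
  have hN' := hN.mono hle
  let V : (𝔜.X 0).Opens := (f : FSch.Hom 𝔜 𝔛).app 0 ⁻¹ᵁ U'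
  refine ⟨V, _, hyU', (genOn_mul hN' hM).idealMap f hY hX (le_refl V), ?_⟩
  rw [Ideal.map_mul]
  exact genOn_mul (hN'.idealMap f hY hX le_rfl) (hM.idealMap f hY hX le_rfl)

end Base

section Product

variable {R : Type u} [CommRing R] {I : Ideal R} {p : 𝔛 ⟶ FSch.spf R I}

theorem Good.mul {J K : IdealSh (𝔛.Osh hX)} {U : (𝔛.X 0).Opens} (hJ : Good p J U) (hK : Good p K U) :
    Good p (IdealSh.mul J K) U := by
  obtain ⟨hU, N, hN, ⟨k, hk⟩, gN⟩ := hJ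
  obtain ⟨-, M, hM, ⟨l, hl⟩, gM⟩ := hK
  refine ⟨hU, N * M, hN.mul hM, ⟨k + l, ?_⟩, genOn_mul gN gM⟩
  rw [pow_add, Ideal.map_mul]
  exact Ideal.mul_mono hk hl

/-- Products of coherent open ideals are coherent open. -/
theorem isCohOpen_mul (hR : AdicRing.IsBase R I) (hp : FSch.IsAdicHom p) {J K : IdealSh (𝔛.Osh hX)}
    (hJ : FBlow.IsCohOpen 𝔛 hX J) (hK : FBlow.IsCohOpen 𝔛 hX K) : FBlow.IsCohOpen 𝔛 hX (IdealSh.mul J K) :=
  isCohOpen_of_good hR hp fun x => by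
    obtain ⟨U, hxU, -, hU⟩ := exists_good p hp (isBase_fg hR) hJ x ⊤ trivial
    obtain ⟨U', hxU', hle, hU'⟩ := exists_good p hp (isBase_fg hR) hK x U hxU
    exact ⟨U', hxU', (hU.mono p hU'.1 hle).mul hU'⟩

variable (hR : AdicRing.IsBase R I) (hp : FSch.IsAdicHom p)
variable (hfp : ∀ n, LocallyOfFinitePresentation ((p : FSch.Hom 𝔛 (FSch.spf R I)).app n)) (htf : NoTors hX)

include hR hp hfp htf in
/-- Successive blow-ups of `J` and of `K` blow up `J * K`. -/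
theorem isAdmBlowUp_comp_mul {J K : IdealSh (𝔛.Osh hX)} (hJ : FBlow.IsCohOpen 𝔛 hX J)
    (hK : FBlow.IsCohOpen 𝔛 hX K) {𝔛' : FSch.Sys.{u}} {h' : 𝔛'.IsFormal} {b : 𝔛' ⟶ 𝔛}
    (hb : FBlow.IsAdmBlowUp b h' hX J) {𝔛'' : FSch.Sys.{u}} {h'' : 𝔛''.IsFormal} {b' : 𝔛'' ⟶ 𝔛'}
    (hb' : FBlow.IsAdmBlowUp b' h'' h' (FBlow.idealMap b h' hX K)) :
    FBlow.IsAdmBlowUp (b' ≫ b) h'' hX (IdealSh.mul J K) := by
  obtain ⟨ht', hfp'⟩ := baseTF_lfp_of_isAdmBlowUp hR hp hfp htf hJ hb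
  have hp' := isAdicHom_comp b p hb.1 hp
  obtain ⟨ht'', -⟩ := baseTF_lfp_of_isAdmBlowUp hR hp' hfp' (noTors_of_baseTF ht')
    (isCohOpen_idealMap b p hR hp hp' hK) hb'
  refine ⟨isAdicHom_comp b' b hb'.1 hb.1, ?_, fun 𝔜 hY g hg hinv => ?_⟩
  · rw [idealMap_mul (b' ≫ b) p hR hp hJ hK, ← idealMap_comp b h' hX b' h'' K,
      ← idealMap_comp b h' hX b' h'' J]
    exact isInvertible_mul
      (isInvertible_idealMap_of_baseTF b' (b ≫ p) hb.2.1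
        (fun x W hx => exists_good_idealMap b p hR hp hJ x W hx) ht'') hb'.2.1
  have hloc : ∀ y : 𝔜.X 0, ∃ (U : (𝔜.X 0).Opens) (N M : Ideal (Sec 𝔜 hY U)), y ∈ U ∧ N.FG ∧ M.FG ∧
      GenOn (FBlow.idealMap g hY hX J) U N ∧ GenOn (FBlow.idealMap g hY hX K) U M := fun y => by
    obtain ⟨U, hyU, -, -, N, hN, -, gN⟩ := exists_good p hp (isBase_fg hR) hJ ((g : FSch.Hom 𝔜 𝔛).app 0 y) ⊤ trivial
    obtain ⟨U', hyU', hle, -, M, hM, -, gM⟩ := exists_good p hp (isBase_fg hR) hK _ U hyU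
    exact ⟨_, _, _, hyU', (hN.map _).map _, hM.map _, (gN.mono hle).idealMap g hY hX le_rfl,
      gM.idealMap g hY hX le_rfl⟩
  rw [idealMap_mul g p hR hp hJ hK] at hinv
  have hgJ : (FBlow.idealMap g hY hX J).IsInvertible := isInvertible_of_mul hinv hloc
  have hgK : (FBlow.idealMap g hY hX K).IsInvertible := by
    rw [mul_comm'] at hinv
    refine isInvertible_of_mul hinv fun y => ?_
    obtain ⟨U, N, M, hy, hN, hM, gN, gM⟩ := hloc y
    exact ⟨U, M, N, hy, hM, hN, gM, gN⟩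
  obtain ⟨k, hk, hku⟩ := hb.2.2 𝔜 hY g hg hgJ
  obtain ⟨k', hk', hk'u⟩ := hb'.2.2 𝔜 hY k (isAdicHom_of_comp k b (hk ▸ hg) hb.1) (by
    rw [idealMap_comp b h' hX k hY, hk]
    exact hgK)
  exact ⟨k', (Category.assoc k' b' b).symm.trans (hk' ▸ hk), fun l hl => hk'u l (hku (l ≫ b') ((Category.assoc l b' b).trans hl))⟩

end Product

end Groth.L20.FBlow
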