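import Groth.Agent.L20.FBlow.ChartRing
import Groth.Agent.L20.FBlow.Mul
import Groth.Agent.L20.FBlow.Global

/-!
# The charts of an admissible formal blow-up of a formal spectrum
-/

set_option autoImplicit false
set_option linter.style.haveILetI false
set_option linter.unusedSectionVars false
set_option backward.isDefEq.respectTransparency false
set_option backward.isDefEq.respectTransparency.types false

universe u

open CategoryTheory CategoryTheory.Limits AlgebraicGeometry TopologicalSpace Opposite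

noncomputable section

namespace Groth.L20.FBlow

open _root_.FBlow Groth.L17.FSheaf

variable {A : Type u} [CommRing A] {I : Ideal A} (hX : (FSch.spf A I).IsFormal)

/-- The ideal of the formal spectrum attached to an ideal of the ring. -/
abbrev spfIdeal (𝔞 : Ideal A) : IdealSh ((FSch.spf A I).Osh hX) :=
  FBlow.schIdealMap (FSch.spf A I) hX (FSch.spfToSpec A I) (FSch.spfToSpec_comm A I)
    (IdealSh.ofData (FSch.idealSpec A 𝔞))

variable {𝔛' : FSch.Sys.{u}} (h' : 𝔛'.IsFormal) (b : 𝔛' ⟶ FSch.spf A I) (𝔞 : Ideal A)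

/-- The locus where `𝔞` is generated by `a`. -/
def chartLocus (a : A) : Set (𝔛'.X 0) :=
  {x | ∃ V : (𝔛'.X 0).Opens, x ∈ V ∧ ∀ V' : (𝔛'.X 0).Opens, V' ≤ V →
    (FBlow.idealMap b h' hX (spfIdeal hX 𝔞)).sect V' = (FBlow.idealMap b h' hX (spfIdeal hX (Ideal.span {a}))).sect V'}

variable {hX h' b 𝔞}

theorem mem_chartLocus_iff {a : A} {x : 𝔛'.X 0} :
    x ∈ chartLocus hX h' b 𝔞 a ↔ ∃ V : (𝔛'.X 0).Opens, x ∈ V ∧
      GenOn (FBlow.idealMap b h' hX (spfIdeal hX 𝔞)) V (Ideal.span {bS b h' V a}) := by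
  have h1 : ∀ V : (𝔛'.X 0).Opens,
      GenOn (FBlow.idealMap b h' hX (spfIdeal hX (Ideal.span {a}))) V (Ideal.span {bS b h' V a}) := fun V => by
    refine ((genOn_idealMap_spec h' hX b (Ideal.span {a})).mono (le_top : V ≤ ⊤)).congr_ideal ?_
    rw [Ideal.map_span, Set.image_singleton, Ideal.map_span, Set.image_singleton]
    exact congrArg (fun t => Ideal.span {t}) (resS_scal (cb b) (cb_comm b) le_top a)
  constructor
  · rintro ⟨V, hxV, hV⟩
    exact ⟨V, hxV, (h1 V).congr fun V' i => (hV V' i).symm⟩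
  · rintro ⟨V, hxV, hV⟩
    exact ⟨V, hxV, fun V' i => hV.sect_eq (h1 V) i⟩

theorem isOpen_chartLocus (a : A) : IsOpen (chartLocus hX h' b 𝔞 a) :=
  isOpen_iff_forall_mem_open.2 fun x ⟨V, hxV, hV⟩ => ⟨V, fun y hy => ⟨V, hy, hV⟩, V.2, hxV⟩

/-- A point is in the locus when the value of some coefficient there is invertible. -/
theorem mem_chartLocus_of_isUnit {a : A} {x : 𝔛'.X 0} {U : (𝔛'.X 0).Opens} {s c : Sec 𝔛' h' U} (hxU : x ∈ U)
    (hs : GenOn (FBlow.idealMap b h' hX (spfIdeal hX 𝔞)) U (Ideal.span {s})) (hc : bS b h' U a = c * s)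
    {U' : (𝔛'.X 0).Opens} {i : U' ≤ U} (hxU' : x ∈ U') (hu : IsUnit (resS i c)) :
    x ∈ chartLocus hX h' b 𝔞 a := by
  refine mem_chartLocus_iff.2 ⟨U', hxU', (hs.mono i).congr_ideal ?_⟩
  rw [Ideal.map_span, Set.image_singleton, ← resS_scal (cb b) (cb_comm b) i a]
  change Ideal.span {resS i s} = Ideal.span {resS i (bS b h' U a)}
  rw [hc, map_mul, Ideal.span_singleton_mul_left_unit hu]

/-- The loci of the generators cover the blow-up. -/
theorem exists_mem_chartLocus {ι : Type} [Finite ι] (f : ι → A) (h𝔞 : 𝔞 = Ideal.span (Set.range f))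
    (hinv : (FBlow.idealMap b h' hX (spfIdeal hX 𝔞)).IsInvertible) (x : 𝔛'.X 0) :
    ∃ i, x ∈ chartLocus hX h' b 𝔞 (f i) := by
  classical
  haveI := Fintype.ofFinite ι
  obtain ⟨U, s, hxU, hs, rs⟩ := exists_genOn_of_isInvertible hinv x
  have hg := genOn_idealMap_spec h' hX b 𝔞
  obtain ⟨W, j, hxW, hsW⟩ := (hg U le_top s).1 (hs.le (Ideal.mem_span_singleton_self s)) x hxU
  have hmap : (𝔞.map (bS b h' ⊤)).map (rO (𝔛'.Osh h') (j.trans le_top)) =
      Ideal.span (Set.range fun k => bS b h' W (f k)) := by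
    rw [h𝔞, Ideal.map_map, Ideal.map_span, ← Set.range_comp]
    congr 1
    exact congrArg Set.range (funext fun k => resS_scal (cb b) (cb_comm b) (j.trans le_top) (f k))
  rw [hmap, Ideal.mem_span_range_iff_exists_fun] at hsW
  obtain ⟨c, hc⟩ := hsW
  have hd : ∀ k, ∃ d : Sec 𝔛' h' W, bS b h' W (f k) = d * resS j s := fun k => by
    refine exists_eq_mul_of_local rs j (bS b h' W (f k)) fun y hy => ?_
    have hk : bS b h' W (f k) ∈ (FBlow.idealMap b h' hX (spfIdeal hX 𝔞)).sect W := by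
      refine (hg.mono (j.trans le_top)).le ?_
      rw [hmap]
      exact Ideal.subset_span ⟨k, rfl⟩
    obtain ⟨W', j', hyW', hW'⟩ := (hs W j _).1 hk y hy
    rw [Ideal.map_span, Set.image_singleton, Ideal.mem_span_singleton'] at hW'
    obtain ⟨d, hd⟩ := hW'
    exact ⟨W', j', d, hyW', hd.symm⟩
  choose d hd using hd
  have hone : ∑ k, c k * d k = 1 := by
    refine sub_eq_zero.1 ((rs.mono j) W le_rfl _ ?_)
    rw [rO_self, sub_mul, one_mul, sub_eq_zero, Finset.sum_mul]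
    refine Eq.trans (Finset.sum_congr rfl fun k _ => ?_) hc
    rw [mul_assoc, ← hd k]
  have htop : Ideal.span (d '' ↑(Finset.univ : Finset ι)) = ⊤ := by
    rw [Ideal.eq_top_iff_one, ← hone]
    exact Ideal.sum_mem _ fun k hk => Ideal.mul_mem_left _ _ (Ideal.subset_span ⟨k, hk, rfl⟩)
  obtain ⟨k, -, U', i, hxU', hu⟩ := exists_isUnit_of_sum_eq_one Finset.univ d htop hxW
  refine ⟨k, mem_chartLocus_of_isUnit hxW ((hs.mono j).congr_ideal ?_) (hd k) hxU' hu⟩
  rw [Ideal.map_span, Set.image_singleton]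

/-- Systems in which `a` generates regularly land in the locus of `a`. -/
theorem mem_chartLocus_of_genBy (hinv : (FBlow.idealMap b h' hX (spfIdeal hX 𝔞)).IsInvertible) {a : A} (ha : a ∈ 𝔞)
    {𝔜 : FSch.Sys.{u}} {hY : 𝔜.IsFormal} {g : 𝔜 ⟶ FSch.spf A I} (hgen : GenBy hY hX 𝔞 a g)
    (k : 𝔜 ⟶ 𝔛') (hk : k ≫ b = g) (y : 𝔜.X 0) :
    (k : FSch.Hom 𝔜 𝔛').app 0 y ∈ chartLocus hX h' b 𝔞 a := by
  obtain ⟨U, s, hxU, hs, rs⟩ := exists_genOn_of_isInvertible hinv ((k : FSch.Hom 𝔜 𝔛').app 0 y)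
  have hg := genOn_idealMap_spec h' hX b 𝔞
  obtain ⟨c, hc⟩ : ∃ c, bS b h' U a = c * s := by
    obtain ⟨q, hq⟩ := exists_eq_mul_of_local rs le_rfl (bS b h' U a) fun z hz => by
      have hm : bS b h' U a ∈ (FBlow.idealMap b h' hX (spfIdeal hX 𝔞)).sect U := by
        rw [← resS_scal (cb b) (cb_comm b) (le_top : U ≤ ⊤) a]
        exact (FBlow.idealMap b h' hX (spfIdeal hX 𝔞)).map_mem _ (hg.le (Ideal.mem_map_of_mem _ ha))
      obtain ⟨W, j, hzW, hW⟩ := (hs U le_rfl _).1 hm z hz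
      rw [Ideal.map_span, Set.image_singleton, Ideal.mem_span_singleton'] at hW
      obtain ⟨d, hd⟩ := hW
      exact ⟨W, j, d, hzW, hd.symm⟩
    rw [rO_self] at hq
    exact ⟨q, hq⟩
  let V : (𝔜.X 0).Opens := (k : FSch.Hom 𝔜 𝔛').app 0 ⁻¹ᵁ U
  have hKeq : FBlow.idealMap k hY h' (FBlow.idealMap b h' hX (spfIdeal hX 𝔞)) =
      FBlow.idealMap g hY hX (spfIdeal hX 𝔞) := by rw [idealMap_comp b h' hX k hY, hk]
  have hsV := hs.idealMap k hY h' (le_refl V)
  rw [Ideal.map_span, Set.image_singleton, hKeq] at hsV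
  obtain ⟨hgA, hgR⟩ := hgen
  obtain ⟨W, j, hyW, hW⟩ := (hgA V le_top (fR k hY h' U V le_rfl s)).1
    (hsV.le (Ideal.mem_span_singleton_self _)) y hxU
  rw [Ideal.map_span, Set.image_singleton, Ideal.mem_span_singleton'] at hW
  obtain ⟨d, hd⟩ := hW
  have e1 : bS g hY W a = resS j (fR k hY h' U V le_rfl c) * resS j (fR k hY h' U V le_rfl s) := by
    rw [← map_mul, ← map_mul, ← hc, fR_bS k b le_rfl a, hk]
    exact (resS_scal (cb g) (cb_comm g) j a).symm
  have e0 : rO (𝔜.Osh hY) (j.trans le_top) (bS g hY ⊤ a) = bS g hY W a :=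
    resS_scal (cb g) (cb_comm g) (j.trans le_top) a
  rw [e0] at hd
  have hunit : IsUnit (resS j (fR k hY h' U V le_rfl c)) := by
    refine IsUnit.of_mul_eq_one d (sub_eq_zero.1 (hgR W le_top _ ?_))
    show (_ - 1) * rO (𝔜.Osh hY) le_top (bS g hY ⊤ a) = 0
    rw [e0, sub_mul, one_mul, sub_eq_zero, mul_assoc]
    calc resS j (fR k hY h' U V le_rfl c) * (d * bS g hY W a)
        = resS j (fR k hY h' U V le_rfl c) * resS j (fR k hY h' U V le_rfl s) := by rw [hd]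
      _ = bS g hY W a := e1.symm
  rw [resS_fR] at hunit
  obtain ⟨U', i, hyU', hu⟩ := exists_isUnit_of_fR k _ hunit hyW
  exact mem_chartLocus_of_isUnit hxU hs hc hyU' hu

theorem genBy_restrict (hinv : (FBlow.idealMap b h' hX (spfIdeal hX 𝔞)).IsInvertible) {a : A}
    (U : (𝔛'.X 0).Opens) (hU : (U : Set (𝔛'.X 0)) = chartLocus hX h' b 𝔞 a) :
    GenBy (isFormal_restrictOpen 𝔛' h' U) hX 𝔞 a (𝔛'.restrictOpenι h' U ≫ b) := by
  let ιU := 𝔛'.restrictOpenι h' U
  let hF := isFormal_restrictOpen 𝔛' h' U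
  have hK : FBlow.idealMap (ιU ≫ b) hF hX (spfIdeal hX 𝔞) =
      FBlow.idealMap ιU hF h' (FBlow.idealMap b h' hX (spfIdeal hX 𝔞)) := (idealMap_comp b h' hX ιU hF _).symm
  have hg : GenOn (FBlow.idealMap (ιU ≫ b) hF hX (spfIdeal hX 𝔞)) ⊤ (Ideal.span {bS (ιU ≫ b) hF ⊤ a}) := by
    refine GenOn.of_local fun y _ => ?_
    have hy : (ιU : FSch.Hom _ _).app 0 y ∈ chartLocus hX h' b 𝔞 a :=
      hU ▸ (range_restrictOpenι (hX := h') U).le ⟨y, rfl⟩
    obtain ⟨V, hyV, hV⟩ := mem_chartLocus_iff.1 hy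
    refine ⟨(ιU : FSch.Hom _ _).app 0 ⁻¹ᵁ V, le_top, hyV, ?_⟩
    rw [hK]
    refine (hV.idealMap ιU hF h' le_rfl).congr_ideal ?_
    rw [Ideal.map_span, Ideal.map_span, Set.image_singleton, Set.image_singleton, fR_bS ιU b le_rfl a]
    exact congrArg (fun t => Ideal.span {t}) (resS_scal (cb (ιU ≫ b)) (cb_comm (ιU ≫ b)) le_top a).symm
  refine ⟨hg, reg_of_genOn ?_ hg⟩
  rw [hK]
  exact isInvertible_idealMap ιU hinv

variable {B : Type u} [CommRing B] {ι : A →+* B} {K : Ideal B}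

/-- The formal spectrum of a chart is the locus of its generator. -/
theorem exists_chart_openImmersion (hI : I.FG) (hK : I.map ι = K) (hle : I ≤ K.comap ι)
    (hb : FBlow.IsAdmBlowUp b h' hX (spfIdeal hX 𝔞)) {a : A} (ha : a ∈ 𝔞) (hB : IsChart ι (I := I) 𝔞 a)
    (hflat : ∀ W : (Spec (CommRingCat.of B)).affineOpens,
      Module.Flat Γ(Spec (CommRingCat.of B), W.1)
        (AdicCompletion ((FSch.idealSpec B K).ideal W) Γ(Spec (CommRingCat.of B), W.1)))
    (hnzd : ι a ∈ nonZeroDivisors B) (hgen : 𝔞.map ι = Ideal.span {ι a}) (hB' : (FSch.spf B K).IsFormal) :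
    ∃ u : FSch.spf B K ⟶ 𝔛', u ≫ b = FSch.spfMap K I ι hle ∧
      (∀ n, IsOpenImmersion ((u : FSch.Hom (FSch.spf B K) 𝔛').app n)) ∧
      Set.range ((u : FSch.Hom (FSch.spf B K) 𝔛').app 0).base = chartLocus hX h' b 𝔞 a := by
  let w := FSch.spfMap K I ι hle
  have hsq := isPullback_spfMap ι hK hle
  have hwA : FSch.IsAdicHom w := fun n => by
    refine IsPullback.of_right ?_ ((w : FSch.Hom _ _).comm n).symm (hsq (n + 1))
    rw [FSch.spfToSpec_comm, FSch.spfToSpec_comm]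
    exact hsq n
  have hwG := genBy_spfMap (𝔞 := 𝔞) (a := a) hX hB' hK hle hflat hnzd hgen
  obtain ⟨u, hu, -⟩ := hb.2.2 _ hB' w hwA hwG.isInvertible
  let U : (𝔛'.X 0).Opens := ⟨chartLocus hX h' b 𝔞 a, isOpen_chartLocus a⟩
  let hF := isFormal_restrictOpen 𝔛' h' U
  let ιU := 𝔛'.restrictOpenι h' U
  obtain ⟨u', hu'⟩ := exists_factor h' hF hB' ιU u fun y =>
    (range_restrictOpenι (hX := h') U).ge (mem_chartLocus_of_genBy hb.2.1 ha hwG u hu y)
  have hgU := genBy_restrict hb.2.1 U rfl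
  have hgA : FSch.IsAdicHom (ιU ≫ b) := isAdicHom_comp _ _ (isAdicHom_restrictOpenι 𝔛' h' U) hb.1
  obtain ⟨m, hm, -⟩ := existsUnique_lift_chart hI ha hB hgA hgU hK hle
  have e₁ : u' ≫ m = 𝟙 (FSch.spf B K) := by
    refine (existsUnique_lift_chart hI ha hB hwA hwG hK hle).unique ?_ (Category.id_comp w)
    rw [Category.assoc, hm, ← Category.assoc, hu', hu]
  have e₂ : (m ≫ u') ≫ ιU = ιU := by
    refine (hb.2.2 _ hF (ιU ≫ b) hgA hgU.isInvertible).unique ?_ rfl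
    simp only [Category.assoc]
    rw [reassoc_of% hu', hu, hm]
  have hmono : m ≫ u' = 𝟙 (𝔛'.restrictOpen h' U) := FSch.Hom.ext (funext fun n => by
    refine (cancel_mono ((ιU : FSch.Hom _ _).app n)).1 ?_
    refine Eq.trans ?_ (Category.id_comp _).symm
    exact congrArg (fun φ : 𝔛'.restrictOpen h' U ⟶ 𝔛' => (φ : FSch.Hom _ _).app n) e₂)
  have hiso : ∀ n, IsIso ((u' : FSch.Hom _ _).app n) := fun n =>
    ⟨(m : FSch.Hom _ _).app n, congrArg (fun φ : FSch.spf B K ⟶ FSch.spf B K => (φ : FSch.Hom _ _).app n) e₁,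
      congrArg (fun φ : 𝔛'.restrictOpen h' U ⟶ 𝔛'.restrictOpen h' U => (φ : FSch.Hom _ _).app n) hmono⟩
  have hun : ∀ n, (u : FSch.Hom _ _).app n = (u' : FSch.Hom _ _).app n ≫ (ιU : FSch.Hom _ _).app n := fun n =>
    (congrArg (fun φ : FSch.spf B K ⟶ 𝔛' => (φ : FSch.Hom _ _).app n) hu').symm
  refine ⟨u, hu, fun n => ?_, ?_⟩
  · haveI := hiso n
    rw [hun n]
    infer_instance
  · haveI := hiso 0
    refine Eq.trans ?_ (range_restrictOpenι (hX := h') U)
    rw [hun 0]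
    refine Set.ext fun x => ⟨?_, ?_⟩
    · rintro ⟨y, rfl⟩
      exact ⟨_, rfl⟩
    · rintro ⟨z, rfl⟩
      obtain ⟨y, rfl⟩ := ((u' : FSch.Hom _ _).app 0).surjective z
      exact ⟨y, rfl⟩

end Groth.L20.FBlow
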