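import Groth.Agent.L20.FBlow.ChartSys
import Groth.Agent.L05.Chart.Lift
import Groth.Agent.L05.Bosch.ChartTorsion
import Groth.Agent.L05.Bosch.Apps

/-!
# The rings of the charts
-/

set_option autoImplicit false
set_option linter.style.haveILetI false
set_option linter.unusedSectionVars false

universe u

open AdicRing

noncomputable section

namespace Groth.L20.FBlow

variable {R : Type u} [CommRing R] {I : Ideal R} {A : Type u} [CommRing A] [Algebra R A] {ι : Type}
  (f : ι → A) (i : ι)

theorem span_map_chartAdm :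
    (Ideal.span (Set.range f)).map (algebraMap A (chartAdm I f i)) =
      Ideal.span {algebraMap A (chartAdm I f i) (f i)} := by
  refine le_antisymm ?_ (Ideal.span_le.2 (Set.singleton_subset_iff.2
    (Ideal.mem_map_of_mem _ (Ideal.subset_span ⟨i, rfl⟩))))
  have e : algebraMap A (chartAdm I f i) =
      ((Ideal.Quotient.mk _).comp (algebraMap (chartAlg f i) (chartCompl I f i))).comp (algebraMap A (chartAlg f i)) := by
    ext x
    show _ = Ideal.Quotient.mk _ (algebraMap (chartAlg f i) (chartCompl I f i) (algebraMap A (chartAlg f i) x))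
    rw [← IsScalarTower.algebraMap_apply A (chartAlg f i) (chartCompl I f i)]
    rfl
  rw [e, ← Ideal.map_map]
  refine (Ideal.map_mono (Groth.L05.Bosch.span_map_le_chart f i)).trans ?_
  rw [Ideal.map_span, Set.image_singleton]
  rfl

theorem nzd_chartAdm : algebraMap A (chartAdm I f i) (f i) ∈ nonZeroDivisors (chartAdm I f i) := by
  refine mem_nonZeroDivisors_iff_right.2 fun x hx => ?_
  obtain ⟨y, rfl⟩ := Ideal.Quotient.mk_surjective x
  rw [Ideal.Quotient.eq_zero_iff_mem]
  change Ideal.Quotient.mk _ y * Ideal.Quotient.mk _ (algebraMap A (chartCompl I f i) (f i)) = 0 at hx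
  rw [← map_mul, Ideal.Quotient.eq_zero_iff_mem] at hx
  have hmono : Monotone fun n : ℕ => Submodule.torsionBy (chartCompl I f i) (chartCompl I f i)
      (algebraMap A (chartCompl I f i) (f i) ^ n) :=
    monotone_nat_of_le_succ fun n z hz => by
      rw [Submodule.mem_torsionBy_iff, smul_eq_mul] at hz ⊢
      rw [pow_succ', mul_assoc, hz, mul_zero]
  obtain ⟨n, hn⟩ := (Submodule.mem_iSup_of_directed _ hmono.directed_le).1 hx
  rw [Submodule.mem_torsionBy_iff, smul_eq_mul] at hn
  refine (Submodule.mem_iSup_of_directed _ hmono.directed_le).2 ⟨n + 1, ?_⟩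
  rw [Submodule.mem_torsionBy_iff, smul_eq_mul, pow_succ, mul_assoc, mul_comm (algebraMap A _ (f i)) y]
  exact hn

theorem tft_chartAdm (hR : IsBase R I) (hA : TopFiniteType R I A) [Finite ι] :
    TopFiniteType R I (chartAdm I f i) := by
  haveI : Algebra.FiniteType A (chartAlg f i) :=
    Algebra.FiniteType.of_surjective (Ideal.Quotient.mkₐ A _) (Ideal.Quotient.mkₐ_surjective A _)
  obtain ⟨n, φ, hφ⟩ := Groth.L05.Bosch.topFiniteType_completion hR hA (chartAlg f i)
  refine ⟨n, (Ideal.Quotient.mkₐ R _).comp φ, ?_⟩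
  exact (Ideal.Quotient.mkₐ_surjective R _).comp hφ

theorem isChart_chartAdm (hI : I.FG) :
    IsChart (algebraMap A (chartAdm I f i)) (I := I.map (algebraMap R A)) (Ideal.span (Set.range f)) (f i) := by
  intro C _ φ hc hnzd hgen
  rw [Ideal.map_map] at hc
  letI : Algebra R C := (φ.comp (algebraMap R A)).toAlgebra
  haveI : IsAdicComplete (I.map (algebraMap R C)) C := hc
  let φ' : A →ₐ[R] C := { φ with commutes' := fun _ => rfl }
  obtain ⟨ψ, hψ, huniq⟩ := Groth.L05.Chart.existsUnique_chartAdm_lift hI f i φ' hnzd (by rw [← Ideal.map_coe]; exact hgen)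
  refine ⟨ψ.toRingHom, RingHom.ext fun x => DFunLike.congr_fun hψ x, fun ψ' hψ' => ?_⟩
  let Ψ : chartAdm I f i →ₐ[R] C :=
    { ψ' with
      commutes' := fun r => by
        show ψ' (algebraMap R (chartAdm I f i) r) = φ (algebraMap R A r)
        rw [IsScalarTower.algebraMap_apply R A (chartAdm I f i)]
        exact RingHom.congr_fun hψ' _ }
  have := huniq Ψ (AlgHom.ext fun x => RingHom.congr_fun hψ' x)
  exact RingHom.ext fun x => DFunLike.congr_fun this x

theorem map_chartAdm : (I.map (algebraMap R A)).map (algebraMap A (chartAdm I f i)) =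
    I.map (algebraMap R (chartAdm I f i)) := by
  rw [Ideal.map_map, ← IsScalarTower.algebraMap_eq]

end Groth.L20.FBlow
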