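import Mathlib.AlgebraicGeometry.RelativeGluing

/-!
# Gluing schemes over a directed family of opens
-/

set_option autoImplicit false
set_option linter.style.haveILetI false
set_option backward.isDefEq.respectTransparency false
set_option backward.isDefEq.respectTransparency.types false

universe u

open CategoryTheory CategoryTheory.Limits AlgebraicGeometry

noncomputable section

namespace Groth.L20.FBlow

theorem exists_glued_data {S : Scheme.{u}} {𝒰 : S.OpenCover} [Category 𝒰.I₀] [𝒰.LocallyDirected] [Small.{u} 𝒰.I₀]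
    [Quiver.IsThin 𝒰.I₀] (d : 𝒰.RelativeGluingData) :
    ∃ (G : Scheme.{u}) (g : G ⟶ S) (κ : ∀ V, d.functor.obj V ⟶ G),
      (∀ V, IsPullback (κ V) (d.natTrans.app V) g (𝒰.f V)) ∧ (∀ {V W} (h : V ⟶ W), d.functor.map h ≫ κ W = κ V) ∧
      (∀ (Q : Scheme.{u}) (f : ∀ V, d.functor.obj V ⟶ Q), (∀ {V W} (h : V ⟶ W), d.functor.map h ≫ f W = f V) →
        ∃ F : G ⟶ Q, ∀ V, κ V ≫ F = f V) ∧
      ∀ (Q : Scheme.{u}) (F F' : G ⟶ Q), (∀ V, κ V ≫ F = κ V ≫ F') → F = F' :=
  ⟨d.glued, d.toBase, fun V => colimit.ι d.functor V, fun V => (d.isPullback_natTrans_ι_toBase V).flip,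
    fun h => colimit.w d.functor h,
    fun Q f hf => ⟨colimit.desc d.functor ⟨Q, ⟨f, fun V W h => (hf h).trans (Category.comp_id _).symm⟩⟩,
      fun V => colimit.ι_desc _ V⟩,
    fun Q F F' hF => colimit.hom_ext hF⟩

/-- Schemes over the members of a directed open cover with cartesian transition maps glue. -/
theorem exists_glued_opens {X : Scheme.{u}} {κ : Type u} [Preorder κ] (V : κ → X.Opens)
    (mono : ∀ {k l : κ}, k ≤ l → V k ≤ V l) (cov : ∀ x : X, ∃ k, x ∈ V k)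
    (dir : ∀ k l (x : X), x ∈ V k → x ∈ V l → ∃ m, m ≤ k ∧ m ≤ l ∧ x ∈ V m)
    (Z : κ → Scheme.{u}) (z : ∀ k, Z k ⟶ (V k).toScheme) (t : ∀ {k l : κ}, k ≤ l → (Z k ⟶ Z l))
    (hsq : ∀ {k l : κ} (h : k ≤ l), IsPullback (t h) (z k) (z l) (X.homOfLE (mono h)))
    (ht1 : ∀ k, t (le_refl k) = 𝟙 (Z k))
    (ht2 : ∀ {k l m : κ} (h : k ≤ l) (h' : l ≤ m), t h ≫ t h' = t (h.trans h')) :
    ∃ (G : Scheme.{u}) (g : G ⟶ X) (e : ∀ k, Z k ⟶ G),
      (∀ k, IsPullback (e k) (z k) g (V k).ι) ∧ (∀ {k l : κ} (h : k ≤ l), t h ≫ e l = e k) ∧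
      (∀ (Q : Scheme.{u}) (f : ∀ k, Z k ⟶ Q), (∀ {k l : κ} (h : k ≤ l), t h ≫ f l = f k) →
        ∃ F : G ⟶ Q, ∀ k, e k ≫ F = f k) ∧
      ∀ (Q : Scheme.{u}) (F F' : G ⟶ Q), (∀ k, e k ≫ F = e k ≫ F') → F = F' := by
  let 𝒰 : X.OpenCover :=
    { I₀ := κ
      X := fun k => (V k).toScheme
      f := fun k => (V k).ι
      mem₀ := by
        rw [Scheme.presieve₀_mem_precoverage_iff]
        refine ⟨fun x => ?_, fun k => inferInstance⟩
        obtain ⟨k, hk⟩ := cov x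
        exact ⟨k, ⟨x, hk⟩, rfl⟩ }
  letI : Category 𝒰.I₀ := inferInstanceAs (Category κ)
  haveI : Quiver.IsThin 𝒰.I₀ := inferInstanceAs (Quiver.IsThin κ)
  haveI : Small.{u} 𝒰.I₀ := inferInstanceAs (Small.{u} κ)
  letI : Scheme.Cover.LocallyDirected 𝒰 :=
    { trans := fun {k l} h => X.homOfLE (mono (leOfHom h))
      trans_id := fun k => X.homOfLE_rfl _
      trans_comp := fun h h' => (X.homOfLE_homOfLE _ _).symm
      w := fun h => X.homOfLE_ι _
      directed := fun {k l} x => by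
        let w := pullback.fst (𝒰.f k) (𝒰.f l) x
        have hl : w.1 ∈ V l := by
          have e1 : w.1 = (pullback.snd (𝒰.f k) (𝒰.f l) x).1 :=
            congrArg (fun f => f x) (pullback.condition (f := 𝒰.f k) (g := 𝒰.f l))
          rw [e1]
          exact (pullback.snd (𝒰.f k) (𝒰.f l) x).2
        obtain ⟨m, hk, hlm, hx⟩ := dir k l w.1 w.2 hl
        refine ⟨m, homOfLE hk, homOfLE hlm, ⟨w.1, hx⟩, ?_⟩
        refine (pullback.fst (𝒰.f k) (𝒰.f l)).isOpenEmbedding.injective ?_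
        rw [← Scheme.Hom.comp_apply, pullback.lift_fst]
        refine (V k).ι.isOpenEmbedding.injective ?_
        show (X.homOfLE (mono hk) ≫ (V k).ι) ⟨w.1, hx⟩ = w.1
        rw [Scheme.homOfLE_ι]
        rfl }
  let F : 𝒰.I₀ ⥤ Scheme.{u} :=
    { obj := fun k => Z k
      map := fun h => t (leOfHom h)
      map_id := fun k => ht1 k
      map_comp := fun h h' => (ht2 _ _).symm }
  let τ : F ⟶ 𝒰.functorOfLocallyDirected :=
    { app := fun k => z k
      naturality := fun k l h => (hsq (leOfHom h)).w }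
  let d : 𝒰.RelativeGluingData := ⟨F, τ, fun {k l} h => hsq (leOfHom h)⟩
  obtain ⟨G, g, e, he, hw, hdesc, hext⟩ := exists_glued_data d
  exact ⟨G, g, e, he, fun {k l} h => hw (homOfLE h), fun Q f hf => hdesc Q f fun h => hf (leOfHom h),
    fun Q F F' hF => hext Q F F' hF⟩

end Groth.L20.FBlow
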