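import Groth.Agent.L20.FBlow.Sec
import Groth.Agent.L13.BlowUp.Local
import Groth.Agent.L17.ThickSys
import Groth.Agent.S11539

/-!
# Systems cut out in a scheme by the powers of an ideal
-/

set_option autoImplicit false
set_option linter.style.haveILetI false
set_option linter.unusedSectionVars false
set_option backward.isDefEq.respectTransparency false
set_option backward.isDefEq.respectTransparency.types false

universe u

open CategoryTheory CategoryTheory.Limits AlgebraicGeometry TopologicalSpace Opposite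

noncomputable section

namespace Groth.L20.FBlow

open _root_.FBlow Groth.L17.FSheaf

/-- The levels are the closed subschemes of the powers of `𝓘`. -/
def IsThick (𝔛 : FSch.Sys.{u}) {P : Scheme.{u}} (d : ∀ n, 𝔛.X n ⟶ P) (𝓘 : P.IdealSheafData) : Prop :=
  ∀ n, IsClosedImmersion (d n) ∧ (d n).ker = 𝓘 ^ (n + 1)

variable {𝔛 : FSch.Sys.{u}} {h : 𝔛.IsFormal} {P : Scheme.{u}} {d : ∀ n, 𝔛.X n ⟶ P}
  {hd : ∀ n, 𝔛.ι n ≫ d (n + 1) = d n} {𝓘 : P.IdealSheafData}

section Sections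

variable (W : P.Opens)

/-- The map on sections to a level. -/
abbrev qd (h : 𝔛.IsFormal) (hd : ∀ n, 𝔛.ι n ≫ d (n + 1) = d n) (n : ℕ) :
    Γ(P, W) →+* Γ(𝔛.X n, 𝔛.lvU h n (d 0 ⁻¹ᵁ W)) :=
  ((d n).appLE W (𝔛.lvU h n (d 0 ⁻¹ᵁ W)) (le_preimage_p d hd h le_rfl n)).hom

theorem ker_appLE' {X Y : Scheme.{u}} (f : X ⟶ Y) {U : Y.Opens} {V : X.Opens} (e : V = f ⁻¹ᵁ U) :
    RingHom.ker (f.appLE U V e.le).hom = RingHom.ker (f.app U).hom := by
  subst e
  rw [Scheme.Hom.app_eq_appLE]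

theorem qd_spec (hI : IsThick 𝔛 d 𝓘) {W : P.Opens} (hW : IsAffineOpen W) (n : ℕ) :
    Function.Surjective (qd W h hd n) ∧ RingHom.ker (qd W h hd n) = 𝓘.ideal ⟨W, hW⟩ ^ (n + 1) := by
  haveI := (hI n).1
  have e : 𝔛.lvU h n (d 0 ⁻¹ᵁ W) = d n ⁻¹ᵁ W := (FSch.lvU_p 𝔛 h d hd n W).symm
  constructor
  · intro y
    obtain ⟨x, hx⟩ := (d n).app_surjective _ hW ((𝔛.X n).presheaf.map (eqToHom e.symm).op y)
    refine ⟨x, ?_⟩
    show ((d n).app W ≫ (𝔛.X n).presheaf.map _) x = y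
    rw [CommRingCat.comp_apply, hx, ← CommRingCat.comp_apply, ← Functor.map_comp]
    erw [CategoryTheory.Functor.map_id]
    rfl
  · rw [ker_appLE' (d n) e, ← Scheme.Hom.ker_apply (d n) ⟨W, hW⟩, (hI n).2,
      Scheme.IdealSheafData.ideal_pow, Pi.pow_apply]

theorem tR_qd (n : ℕ) (a : Γ(P, W)) :
    tR 𝔛 h n (d 0 ⁻¹ᵁ W) (qd W h hd (n + 1) a) = qd W h hd n a := by
  rw [← pR_sS d hd h le_rfl (n + 1), tR_pR, pR_sS d hd h le_rfl n]

theorem pR_sS_self (n : ℕ) (a : Γ(P, W)) :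
    pR 𝔛 h n (d 0 ⁻¹ᵁ W) (sS d hd h W (d 0 ⁻¹ᵁ W) le_rfl a) = qd W h hd n a :=
  pR_sS d hd h le_rfl n a

/-- Elements killing no section of a ring kill none of a flat algebra. -/
theorem eq_zero_of_flat {B M : Type u} [CommRing B] [AddCommGroup M] [Module B M] [Module.Flat B M]
    {κ : Type u} [Finite κ] (s : κ → B) (hs : ∀ b : B, (∀ i, b * s i = 0) → b = 0)
    {m : M} (hm : ∀ i, s i • m = 0) : m = 0 := by
  classical
  haveI := Fintype.ofFinite κ
  let φ : B →ₗ[B] (κ → B) := LinearMap.pi fun i => LinearMap.mulRight B (s i)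
  have hφ : Function.Injective φ := by
    rw [← LinearMap.ker_eq_bot, Submodule.eq_bot_iff]
    exact fun b hb => hs b fun i => congr_fun (LinearMap.mem_ker.1 hb) i
  have hinj := Module.Flat.lTensor_preserves_injective_linearMap (M := M) φ hφ
  let e₁ : TensorProduct B M B ≃ₗ[B] M := TensorProduct.rid B M
  let e₂ : TensorProduct B M (κ → B) ≃ₗ[B] (κ → M) := TensorProduct.piScalarRight B B M κ
  refine e₁.symm.injective (hinj (e₂.injective (funext fun i => ?_)))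
  rw [map_zero, map_zero, map_zero, Pi.zero_apply]
  show e₂ (φ.lTensor M (m ⊗ₜ[B] (1 : B))) i = 0
  rw [LinearMap.lTensor_tmul, TensorProduct.piScalarRight_apply, TensorProduct.piScalarRightHom_tmul]
  show ((1 : B) * s i) • m = 0
  rw [one_mul, hm]

/-- Sections over the affine pieces are killed only by what kills the functions of the scheme. -/
theorem eq_zero_of_mul (hI : IsThick 𝔛 d 𝓘) {W : P.Opens} (hW : IsAffineOpen W)
    [Module.Flat Γ(P, W) (AdicCompletion (𝓘.ideal ⟨W, hW⟩) Γ(P, W))]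
    {κ : Type u} [Finite κ] (s : κ → Γ(P, W)) (hs : ∀ b : Γ(P, W), (∀ i, b * s i = 0) → b = 0)
    (t : Sec 𝔛 h (d 0 ⁻¹ᵁ W)) (ht : ∀ i, t * sS d hd h W (d 0 ⁻¹ᵁ W) le_rfl (s i) = 0) : t = 0 := by
  let J := 𝓘.ideal ⟨W, hW⟩
  choose b hb using fun n => (qd_spec (h := h) (hd := hd) hI hW n).1 (pR 𝔛 h n _ t)
  let g : ℕ → Γ(P, W) := fun n => if n = 0 then 0 else b (n - 1)
  have hc : AdicCompletion.IsAdicCauchy J Γ(P, W) g := by
    rw [AdicCompletion.isAdicCauchy_iff]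
    intro n
    rw [smul_eq_mul, Ideal.mul_top, SModEq.sub_mem]
    cases n with
    | zero => simp
    | succ k =>
      have hk : b k - b (k + 1) ∈ RingHom.ker (qd W h hd k) := by
        rw [RingHom.mem_ker, map_sub, hb, ← tR_qd W k (b (k + 1)), hb, tR_pR, sub_self]
      rw [(qd_spec (h := h) (hd := hd) hI hW k).2] at hk
      simpa [g, J] using hk
  have h0 : AdicCompletion.mk J Γ(P, W) ⟨g, hc⟩ = 0 := by
    refine eq_zero_of_flat s hs fun i => ?_
    rw [← map_smul]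
    refine AdicCompletion.mk_zero_of _ _ _ ⟨0, fun n _ => ⟨n, le_rfl, n, le_rfl, ?_⟩⟩
    show s i • g n ∈ _
    rw [smul_eq_mul, smul_eq_mul, Ideal.mul_top]
    cases n with
    | zero => simp
    | succ k =>
      have hk : s i * b k ∈ RingHom.ker (qd W h hd k) := by
        rw [RingHom.mem_ker, map_mul, hb, ← pR_sS_self W k (s i), ← map_mul, mul_comm, ht i, map_zero]
      rw [(qd_spec (h := h) (hd := hd) hI hW k).2] at hk
      simpa [g] using hk
  refine pR_ext 𝔛 h fun n => ?_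
  rw [map_zero, ← hb n, ← RingHom.mem_ker, (qd_spec (h := h) (hd := hd) hI hW n).2]
  have h2 := congrArg (fun x => x.val (n + 1)) h0
  simp only [AdicCompletion.val_zero_apply] at h2
  have h3 : g (n + 1) ∈ (J ^ (n + 1) • ⊤ : Submodule Γ(P, W) Γ(P, W)) :=
    (Submodule.Quotient.mk_eq_zero _).1 h2
  rw [smul_eq_mul, Ideal.mul_top] at h3
  simpa [g] using h3

end Sections

/-- A closed embedding pulls a basis of opens back to a basis. -/
theorem exists_affine_preimage (hI : IsThick 𝔛 d 𝓘) {V : (𝔛.X 0).Opens} {x : 𝔛.X 0} (hx : x ∈ V)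
    {W₀ : P.Opens} (hx₀ : d 0 x ∈ W₀) :
    ∃ W : P.affineOpens, d 0 x ∈ W.1 ∧ W.1 ≤ W₀ ∧ d 0 ⁻¹ᵁ W.1 ≤ V := by
  haveI := (hI 0).1
  obtain ⟨S, hS, hSV⟩ := (d 0).isClosedEmbedding.isEmbedding.isOpen_iff.1 V.2
  obtain ⟨_, ⟨W, hW, rfl⟩, hxW, hWle⟩ := P.isBasis_affineOpens.exists_subset_of_mem_open
    (show d 0 x ∈ S ∩ W₀ from ⟨(Set.ext_iff.1 hSV x).2 hx, hx₀⟩) (hS.inter W₀.2)
  refine ⟨⟨W, hW⟩, hxW, fun y hy => (hWle hy).2, fun y hy => ?_⟩
  exact (Set.ext_iff.1 hSV y).1 (hWle hy).1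

variable (hflat : ∀ W : P.affineOpens, Module.Flat Γ(P, W.1) (AdicCompletion (𝓘.ideal W) Γ(P, W.1)))

include hflat in
/-- A function killing nothing gives a section killing nothing. -/
theorem reg_sS (hI : IsThick 𝔛 d 𝓘) (W : P.affineOpens) {s : Γ(P, W.1)}
    (hs : ∀ W' : P.affineOpens, ∀ w : W'.1 ≤ W.1,
      P.presheaf.map (homOfLE w).op s ∈ nonZeroDivisors Γ(P, W'.1)) :
    Reg (O := 𝔛.Osh h) (d 0 ⁻¹ᵁ W.1) (sS d hd h W.1 (d 0 ⁻¹ᵁ W.1) le_rfl s) := by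
  intro V i t ht
  refine eq_of_local fun x hx => ?_
  obtain ⟨W', hxW', hW'W, hW'V⟩ := exists_affine_preimage hI hx (W₀ := W.1) (i hx)
  refine ⟨d 0 ⁻¹ᵁ W'.1, hW'V, hxW', ?_⟩
  rw [map_zero]
  haveI := hflat W'
  refine eq_zero_of_mul (hd := hd) hI W'.2 (fun _ : PUnit.{u + 1} => P.presheaf.map (homOfLE hW'W).op s)
    (fun b hb => (hs W' hW'W).2 b (hb PUnit.unit)) _ fun _ => ?_
  have h1 := congrArg (resS (h := h) hW'V) ht
  rw [map_mul, map_zero] at h1
  refine Eq.trans (congrArg (resS (h := h) hW'V t * ·) ?_) h1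
  rw [sS_map d hd h hW'W]
  exact ((rO_rO i hW'V _).trans (resS_sS d hd h le_rfl (hW'V.trans i) s)).symm

include hflat in
/-- If the functions are killed only by zero then so are the sections. -/
theorem eq_zero_of_forall_mul (hI : IsThick 𝔛 d 𝓘) {κ : Type u} [Finite κ] (s : κ → Γ(P, ⊤))
    (hs : ∀ W : P.affineOpens, ∀ b : Γ(P, W.1),
      (∀ i, b * P.presheaf.map (homOfLE (le_top : W.1 ≤ ⊤)).op (s i) = 0) → b = 0)
    {V : (𝔛.X 0).Opens} (t : Sec 𝔛 h V) (ht : ∀ i, t * sS d hd h ⊤ V le_top (s i) = 0) : t = 0 := by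
  refine eq_of_local fun x hx => ?_
  obtain ⟨W', hxW', -, hW'V⟩ := exists_affine_preimage hI hx (W₀ := ⊤) trivial
  refine ⟨d 0 ⁻¹ᵁ W'.1, hW'V, hxW', ?_⟩
  rw [map_zero]
  haveI := hflat W'
  refine eq_zero_of_mul (hd := hd) hI W'.2 (fun i => P.presheaf.map (homOfLE (le_top : W'.1 ≤ ⊤)).op (s i))
    (hs W') _ fun i => ?_
  have h1 := congrArg (resS (h := h) hW'V) (ht i)
  rw [map_mul, map_zero] at h1
  refine Eq.trans (congrArg (resS (h := h) hW'V t * ·) ?_) h1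
  rw [sS_map d hd h (le_top : W'.1 ≤ ⊤)]
  exact (resS_sS d hd h le_top hW'V (s i)).symm

/-- The ideal sheaf of the affine scheme attached to an ideal. -/
theorem idealSpec_eq {A : Type u} [CommRing A] (J : Ideal A) : FSch.idealSpec A J = Groth.L13.BU.idealOf J := by
  refine Scheme.IdealSheafData.ext_of_isAffine ?_
  rw [Groth.L13.BU.idealOf_top, FSch.idealSpec]
  haveI : IsClosedImmersion (Spec.map (CommRingCat.ofHom (Ideal.Quotient.mk J))) :=
    IsClosedImmersion.spec_of_surjective _ Ideal.Quotient.mk_surjective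
  rw [Scheme.Hom.ker_apply]
  have hR : Function.Bijective (Scheme.ΓSpecIso (CommRingCat.of A)).inv.hom :=
    (Scheme.ΓSpecIso (CommRingCat.of A)).symm.commRingCatIsoToRingEquiv.bijective
  have hS : Function.Injective (Scheme.ΓSpecIso (CommRingCat.of (A ⧸ J))).inv.hom :=
    (Scheme.ΓSpecIso (CommRingCat.of (A ⧸ J))).symm.commRingCatIsoToRingEquiv.injective
  ext x
  obtain ⟨y, rfl⟩ := hR.2 x
  have e : (Spec.map (CommRingCat.ofHom (Ideal.Quotient.mk J))).appTop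
      ((Scheme.ΓSpecIso (CommRingCat.of A)).inv y) =
        (Scheme.ΓSpecIso (CommRingCat.of (A ⧸ J))).inv (Ideal.Quotient.mk J y) :=
    (ConcreteCategory.congr_hom (Scheme.ΓSpecIso_inv_naturality (CommRingCat.ofHom (Ideal.Quotient.mk J))) y).symm
  rw [RingHom.mem_ker, Ideal.mem_map_iff_of_surjective _ hR.2]
  refine ⟨fun h0 => ⟨y, ?_, rfl⟩, fun ⟨z, hz, hzy⟩ => ?_⟩
  · rw [← Ideal.Quotient.eq_zero_iff_mem, ← map_eq_zero_iff _ hS]
    exact e.symm.trans h0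
  · obtain rfl : z = y := hR.1 hzy
    refine e.trans ?_
    rw [Ideal.Quotient.eq_zero_iff_mem.2 hz, map_zero]

/-- The systems cut out over a cut system. -/
theorem isThick_of_isPullback {𝔜 : FSch.Sys.{u}} {Y : Scheme.{u}} {c : ∀ n, 𝔜.X n ⟶ Y} {𝓙 : Y.IdealSheafData}
    (hc : IsThick 𝔜 c 𝓙) (q : P ⟶ Y) {a : ∀ n, 𝔛.X n ⟶ 𝔜.X n}
    (hsq : ∀ n, IsPullback (d n) (a n) q (c n)) : IsThick 𝔛 d (𝓙.comap q) := fun n => by
  haveI := (hc n).1
  refine ⟨MorphismProperty.of_isPullback (P := @IsClosedImmersion) (hsq n).flip inferInstance, ?_⟩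
  rw [Groth.L17.Thick.ker_of_isPullback (hsq n), (hc n).2, Groth.L17.Thick.comap_pow]

end Groth.L20.FBlow
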