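import Groth.Agent.L20.FBlow.Sec
import Groth.Agent.L22.BlowUp
import Groth.Agent.L13.BlowUp.Local
import Groth.Agent.L20.FBlow.Cut

/-!
# Compatible families of morphisms of the levels to a blown-up scheme
-/

set_option autoImplicit false
set_option linter.style.haveILetI false
set_option linter.unusedSectionVars false
set_option backward.isDefEq.respectTransparency false
set_option backward.isDefEq.respectTransparency.types false

universe u

open CategoryTheory CategoryTheory.Limits AlgebraicGeometry TopologicalSpace Opposite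

noncomputable section

namespace Groth.L20.FBlow

open _root_.FBlow Groth.L17.FSheaf

/-- Morphisms out of a scheme may be compared on an open cover. -/
theorem hom_ext_opens {Y Q : Scheme.{u}} {κ : Type u} (V : κ → Y.Opens) (hV : ∀ y, ∃ k, y ∈ V k) {g g' : Y ⟶ Q}
    (hg : ∀ k, (V k).ι ≫ g = (V k).ι ≫ g') : g = g' :=
  (Y.openCoverOfIsOpenCover V (TopologicalSpace.IsOpenCover.mk (eq_top_iff.2 fun y _ => Opens.mem_iSup.2 (hV y)))).hom_ext
    g g' hg

/-- Morphisms on the members of an open cover that agree on overlaps glue. -/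
theorem exists_glue_opens {Y Q : Scheme.{u}} {κ : Type u} (V : κ → Y.Opens) (hV : ∀ y, ∃ k, y ∈ V k)
    (f : ∀ k, (V k).toScheme ⟶ Q)
    (hf : ∀ k l, Y.homOfLE (inf_le_left : V k ⊓ V l ≤ V k) ≫ f k = Y.homOfLE inf_le_right ≫ f l) :
    ∃ g : Y ⟶ Q, ∀ k, (V k).ι ≫ g = f k := by
  let 𝒰 := Y.openCoverOfIsOpenCover V
    (TopologicalSpace.IsOpenCover.mk (eq_top_iff.2 fun y _ => Opens.mem_iSup.2 (hV y)))
  refine ⟨𝒰.glueMorphisms f fun k l => ?_, fun k => 𝒰.ι_glueMorphisms _ _ k⟩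
  have hpb := (isPullback_opens_inf (V k) (V l))
  show pullback.fst (V k).ι (V l).ι ≫ f k = pullback.snd (V k).ι (V l).ι ≫ f l
  rw [← cancel_epi hpb.isoPullback.hom, hpb.isoPullback_hom_fst_assoc, hpb.isoPullback_hom_snd_assoc]
  exact hf k l

/-- A morphism to an affine scheme through the functions. -/
theorem toSpec_eq {X : Scheme.{u}} {A : CommRingCat.{u}} (f : X ⟶ Spec A) :
    X.toSpecΓ ≫ Spec.map ((Scheme.ΓSpecIso A).inv ≫ f.appTop) = f := by
  rw [Spec.map_comp, ← Category.assoc, ← Scheme.toSpecΓ_naturality, Category.assoc, toSpecΓ_SpecMap_ΓSpecIso_inv,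
    Category.comp_id]

variable {𝔜 : FSch.Sys.{u}} {hY : 𝔜.IsFormal}

/-- Ring homomorphisms to the sections are compatible families of homomorphisms to the levels. -/
theorem exists_ringHom_pR {C : Type u} [CommRing C] (V : (𝔜.X 0).Opens)
    (ψ : ∀ n, C →+* Γ(𝔜.X n, 𝔜.lvU hY n V)) (hψ : ∀ n, (tR 𝔜 hY n V).comp (ψ (n + 1)) = ψ n) :
    ∃ Ψ : C →+* Sec 𝔜 hY V, ∀ n, (pR 𝔜 hY n V).comp Ψ = ψ n := by
  choose g hg using fun c => exists_pR 𝔜 hY V (fun n => ψ n c) fun n => RingHom.congr_fun (hψ n) c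
  refine ⟨{ toFun := g
            map_one' := pR_ext 𝔜 hY fun n => by rw [hg, map_one, map_one]
            map_mul' := fun a b => pR_ext 𝔜 hY fun n => by rw [hg, map_mul, map_mul, hg, hg]
            map_zero' := pR_ext 𝔜 hY fun n => by rw [hg, map_zero, map_zero]
            map_add' := fun a b => pR_ext 𝔜 hY fun n => by rw [hg, map_add, map_add, hg, hg] },
    fun n => RingHom.ext fun c => hg c n⟩

variable (hY) in
/-- The morphism of a level over an open to the spectrum of the sections. -/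
def jS (V : (𝔜.X 0).Opens) (n : ℕ) : (𝔜.lvU hY n V).toScheme ⟶ Spec (CommRingCat.of (Sec 𝔜 hY V)) :=
  (𝔜.lvU hY n V).toSpecΓ ≫ Spec.map (CommRingCat.ofHom (pR 𝔜 hY n V))

theorem resLE_toSpecΓ' {X Y : Scheme.{u}} (f : X ⟶ Y) (U : Y.Opens) (V : X.Opens) (e : V ≤ f ⁻¹ᵁ U) :
    f.resLE U V e ≫ U.toSpecΓ = V.toSpecΓ ≫ Spec.map (f.appLE U V e) := by
  rw [Scheme.Hom.appLE, Spec.map_comp, ← Category.assoc, Scheme.Opens.toSpecΓ_SpecMap_presheaf_map,
    Category.assoc, Scheme.Opens.toSpecΓ_naturality, Scheme.Hom.resLE]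
  simp only [Category.assoc]

theorem resLE_jS (V : (𝔜.X 0).Opens) (n : ℕ) :
    (𝔜.ι n).resLE (𝔜.lvU hY (n + 1) V) (𝔜.lvU hY n V) (𝔜.lvU_le hY n V) ≫ jS hY V (n + 1) = jS hY V n := by
  rw [jS, jS, ← Category.assoc, resLE_toSpecΓ', Category.assoc, ← Spec.map_comp]
  exact congrArg (fun φ => _ ≫ Spec.map φ) (CommRingCat.hom_ext (RingHom.ext fun x => tR_pR 𝔜 hY n V x))

/-- The range of a compatible family is controlled by the smallest level. -/
theorem range_fam {Q : Scheme.{u}} {V : (𝔜.X 0).Opens} (m : ∀ n, (𝔜.lvU hY n V).toScheme ⟶ Q)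
    (hm : ∀ n, (𝔜.ι n).resLE (𝔜.lvU hY (n + 1) V) (𝔜.lvU hY n V) (𝔜.lvU_le hY n V) ≫ m (n + 1) = m n)
    (W : Q.Opens) (h0 : ∀ y, m 0 y ∈ W) : ∀ n y, m n y ∈ W := by
  intro n
  induction n with
  | zero => exact h0
  | succ k ih =>
    intro y
    obtain ⟨z, hz⟩ := (hY k).2 y.1
    have hzV : z ∈ 𝔜.lvU hY k V := (𝔜.lvU_succ hY k V).le (show 𝔜.ι k z ∈ 𝔜.lvU hY (k + 1) V from hz ▸ y.2)
    have e : ((𝔜.ι k).resLE (𝔜.lvU hY (k + 1) V) (𝔜.lvU hY k V) (𝔜.lvU_le hY k V)) ⟨z, hzV⟩ = y := by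
      refine (𝔜.lvU hY (k + 1) V).ι.isOpenEmbedding.injective ?_
      refine Eq.trans ?_ hz
      exact ((Scheme.Hom.comp_apply _ _ _).symm.trans
        (congrArg (fun f => f ⟨z, hzV⟩) (Scheme.Hom.resLE_comp_ι (𝔜.ι k) (𝔜.lvU_le hY k V))))
    rw [← e, ← Scheme.Hom.comp_apply, hm]
    exact ih _

section Blow

variable {A : Type u} [CommRing A] {𝔞 : Ideal A} {P : Scheme.{u}} (q : P ⟶ Spec (CommRingCat.of A))
  (e : ∀ n, 𝔜.X n ⟶ Spec (CommRingCat.of A)) (he : ∀ n, 𝔜.ι n ≫ e (n + 1) = e n)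

variable (hY) in
/-- The functions of the base as sections. -/
def scal (V : (𝔜.X 0).Opens) : A →+* Sec 𝔜 hY V :=
  (sS e he hY ⊤ V le_top).comp (Scheme.ΓSpecIso (CommRingCat.of A)).inv.hom

theorem resS_scal {V V' : (𝔜.X 0).Opens} (i : V' ≤ V) (a : A) :
    resS i (scal hY e he V a) = scal hY e he V' a :=
  resS_sS e he hY le_top i _

theorem map_resS_scal {V V' : (𝔜.X 0).Opens} (i : V' ≤ V) (N : Ideal A) :
    (N.map (scal hY e he V)).map (resS i) = N.map (scal hY e he V') := by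
  rw [Ideal.map_map]
  exact congrArg (Ideal.map · N) (RingHom.ext fun a => resS_scal e he i a)

theorem jS_scal (V : (𝔜.X 0).Opens) (n : ℕ) :
    jS hY V n ≫ Spec.map (CommRingCat.ofHom (scal hY e he V)) = (𝔜.lvU hY n V).ι ≫ e n := by
  rw [jS, Category.assoc, ← Spec.map_comp]
  have hφ : CommRingCat.ofHom (scal hY e he V) ≫ CommRingCat.ofHom (pR 𝔜 hY n V) =
      (Scheme.ΓSpecIso (CommRingCat.of A)).inv ≫ (e n).appLE ⊤ (𝔜.lvU hY n V) le_top := by
    refine CommRingCat.hom_ext (RingHom.ext fun a => ?_)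
    exact pR_sS e he hY le_top n _
  rw [hφ]
  refine Eq.trans ?_ (toSpec_eq ((𝔜.lvU hY n V).ι ≫ e n))
  rw [Scheme.Opens.toSpecΓ, Category.assoc, ← Spec.map_comp, Category.assoc]
  refine congrArg (fun φ => _ ≫ Spec.map (_ ≫ φ)) ?_
  rw [Scheme.Hom.comp_appTop, Scheme.Hom.appTop, Scheme.Hom.appTop, Scheme.Opens.ι_app, Scheme.Hom.appLE,
    Scheme.Opens.topIso_inv, Category.assoc, ← Functor.map_comp]
  rfl

variable (hY) (𝔞) in
/-- Over the affine open `V` the ideal is generated by a regular section. -/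
def InvAff (V : (𝔜.X 0).Opens) : Prop :=
  IsAffineOpen V ∧ ∃ s : Sec 𝔜 hY V, Reg (O := 𝔜.Osh hY) V s ∧ 𝔞.map (scal hY e he V) = Ideal.span {s}

theorem InvAff.mono {V V' : (𝔜.X 0).Opens} (hV : InvAff hY 𝔞 e he V) (hV' : IsAffineOpen V') (i : V' ≤ V) :
    InvAff hY 𝔞 e he V' := by
  obtain ⟨-, s, hs, hsp⟩ := hV
  refine ⟨hV', resS i s, hs.mono i, ?_⟩
  rw [← map_resS_scal e he i, hsp, Ideal.map_span, Set.image_singleton]

theorem InvAff.effCartier {V : (𝔜.X 0).Opens} (hV : InvAff hY 𝔞 e he V) :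
    BlowUp.IsEffCartierIdeal ((FSch.idealSpec A 𝔞).comap (Spec.map (CommRingCat.ofHom (scal hY e he V)))) := by
  obtain ⟨-, s, hs, hsp⟩ := hV
  intro x
  refine ⟨⟨⊤, isAffineOpen_top _⟩, trivial, (Scheme.ΓSpecIso (CommRingCat.of (Sec 𝔜 hY V))).inv s, ?_, ?_⟩
  · rw [mem_nonZeroDivisors_iff_right]
    intro z hz
    let ee := (Scheme.ΓSpecIso (CommRingCat.of (Sec 𝔜 hY V))).commRingCatIsoToRingEquiv
    refine ee.map_eq_zero_iff.1 (hs V le_rfl _ ?_)
    rw [rO_self]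
    have h1 := congrArg ee hz
    rw [map_mul, map_zero] at h1
    have e' : ee ((Scheme.ΓSpecIso (CommRingCat.of (Sec 𝔜 hY V))).inv s) = s := ee.apply_symm_apply s
    rwa [e'] at h1
  · rw [idealSpec_eq, Groth.L13.BU.comap_SpecMap, hsp, Ideal.map_span, Set.image_singleton]

variable {q}

/-- A compatible family over a good open is the canonical lift. -/
theorem fam_eq (hq : BlowUp.IsBlowUp q (FSch.idealSpec A 𝔞)) {V : (𝔜.X 0).Opens} (hV : InvAff hY 𝔞 e he V)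
    (ν : Spec (CommRingCat.of (Sec 𝔜 hY V)) ⟶ P) (hν : ν ≫ q = Spec.map (CommRingCat.ofHom (scal hY e he V)))
    (m : ∀ n, (𝔜.lvU hY n V).toScheme ⟶ P)
    (hm : ∀ n, (𝔜.ι n).resLE (𝔜.lvU hY (n + 1) V) (𝔜.lvU hY n V) (𝔜.lvU_le hY n V) ≫ m (n + 1) = m n)
    (hme : ∀ n, m n ≫ q = (𝔜.lvU hY n V).ι ≫ e n)
    (W : P.affineOpens) (h0 : ∀ y, m 0 y ∈ W.1) (n : ℕ) : m n = jS hY V n ≫ ν := by
  have hW : ∀ k, Set.range (m k) ⊆ Set.range W.2.fromSpec := fun k => by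
    rw [W.2.range_fromSpec]
    rintro _ ⟨y, rfl⟩
    exact range_fam m hm W.1 h0 k y
  let l : ∀ k, (𝔜.lvU hY k V).toScheme ⟶ Spec Γ(P, W.1) := fun k =>
    IsOpenImmersion.lift W.2.fromSpec (m k) (hW k)
  haveI : ∀ k, IsIso (𝔜.lvU hY k V).toSpecΓ := fun k => by
    rw [← IsAffineOpen.isoSpec_hom (isAffineOpen_lvU 𝔜 hY hV.1 k)]
    infer_instance
  let ψ : ∀ k, Γ(P, W.1) ⟶ Γ(𝔜.X k, 𝔜.lvU hY k V) := fun k => Spec.preimage (inv (𝔜.lvU hY k V).toSpecΓ ≫ l k)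
  have hψl : ∀ k, (𝔜.lvU hY k V).toSpecΓ ≫ Spec.map (ψ k) ≫ W.2.fromSpec = m k := fun k => by
    simp only [ψ, Spec.map_preimage, Category.assoc, IsIso.hom_inv_id_assoc, l, IsOpenImmersion.lift_fac]
  have hψ : ∀ k, (tR 𝔜 hY k V).comp (ψ (k + 1)).hom = (ψ k).hom := fun k => by
    suffices ψ (k + 1) ≫ (𝔜.ι k).appLE _ _ (𝔜.lvU_le hY k V) = ψ k from congrArg CommRingCat.Hom.hom this
    refine Spec.map_injective ?_
    rw [← cancel_mono W.2.fromSpec, ← cancel_epi (𝔜.lvU hY k V).toSpecΓ, hψl k, Spec.map_comp, ← hm k, ← hψl (k + 1)]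
    simp only [← Category.assoc]
    rw [resLE_toSpecΓ']
  obtain ⟨Ψ, hΨ⟩ := exists_ringHom_pR V (fun k => (ψ k).hom) hψ
  let ν' : Spec (CommRingCat.of (Sec 𝔜 hY V)) ⟶ P := Spec.map (CommRingCat.ofHom Ψ) ≫ W.2.fromSpec
  have hj : ∀ k, jS hY V k ≫ ν' = m k := fun k => by
    rw [jS, Category.assoc]
    simp only [ν', ← Category.assoc]
    rw [Category.assoc _ (Spec.map _) (Spec.map _), ← Spec.map_comp]
    have : CommRingCat.ofHom Ψ ≫ CommRingCat.ofHom (pR 𝔜 hY k V) = ψ k := CommRingCat.hom_ext (hΨ k)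
    rw [this, Category.assoc]
    exact hψl k
  have hν' : ν' ≫ q = Spec.map (CommRingCat.ofHom (scal hY e he V)) := by
    obtain ⟨φ, hφ⟩ : ∃ φ : CommRingCat.of A ⟶ CommRingCat.of (Sec 𝔜 hY V), Spec.map φ = ν' ≫ q :=
      ⟨_, Spec.map_preimage _⟩
    rw [← hφ]
    refine congrArg Spec.map (CommRingCat.hom_ext (RingHom.ext fun a => pR_ext 𝔜 hY fun k => ?_))
    have h1 : jS hY V k ≫ Spec.map φ = jS hY V k ≫ Spec.map (CommRingCat.ofHom (scal hY e he V)) := by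
      rw [hφ, ← Category.assoc, hj, hme, jS_scal]
    rw [jS, Category.assoc, Category.assoc, cancel_epi, ← Spec.map_comp, ← Spec.map_comp] at h1
    exact ConcreteCategory.congr_hom (Spec.map_injective h1) a
  rw [← hj n]
  exact congrArg (_ ≫ ·) ((hq.2 _ _ hV.effCartier).unique hν' hν)

end Blow

end Groth.L20.FBlow
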