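import Groth.Agent.L20.FBlow.OpenImm
import Groth.Agent.L20.FBlow.Fam
import Groth.Agent.L17.FSheaf.RestrictOpen

/-!
# Admissible formal blow-ups are local on the base
-/

set_option autoImplicit false
set_option linter.style.haveILetI false
set_option linter.unusedSectionVars false
set_option backward.isDefEq.respectTransparency false
set_option backward.isDefEq.respectTransparency.types false

universe u

open CategoryTheory CategoryTheory.Limits AlgebraicGeometry TopologicalSpace Opposite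

noncomputable section

namespace Groth.L20.FBlow

open _root_.FBlow Groth.L17.FSheaf

variable {𝔛 𝔜 𝔚 : FSch.Sys.{u}} {hX : 𝔛.IsFormal} {hY : 𝔜.IsFormal} {hW : 𝔚.IsFormal}

theorem isAdicHom_comp (f : 𝔚 ⟶ 𝔜) (g : 𝔜 ⟶ 𝔛) (hf : FSch.IsAdicHom f) (hg : FSch.IsAdicHom g) :
    FSch.IsAdicHom (f ≫ g) := fun n => (hf n).paste_vert (hg n)

theorem isAdicHom_of_comp (f : 𝔚 ⟶ 𝔜) (g : 𝔜 ⟶ 𝔛) (hfg : FSch.IsAdicHom (f ≫ g)) (hg : FSch.IsAdicHom g) :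
    FSch.IsAdicHom f := fun n =>
  IsPullback.of_bot (hfg n) ((f : FSch.Hom 𝔚 𝔜).comm n).symm (hg n)

section OpenImm

variable (f : 𝔜 ⟶ 𝔛) [hop : ∀ n, IsOpenImmersion ((f : FSch.Hom 𝔜 𝔛).app n)]

/-- Generators descend along open immersions. -/
theorem genOn_of_idealMap {J : IdealSh (𝔛.Osh hX)} {V : (𝔜.X 0).Opens} {N : Ideal (Sec 𝔛 hX (img f V))}
    (hg : GenOn (FBlow.idealMap f hY hX J) V (N.map (fR f hY hX (img f V) V (le_preimage_img f V)))) :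
    GenOn J (img f V) N := by
  intro W i t
  let V' : (𝔜.X 0).Opens := V ⊓ (f : FSch.Hom 𝔜 𝔛).app 0 ⁻¹ᵁ W
  have hV' : img f V' = W := by
    refine le_antisymm ?_ fun x hx => ?_
    · rintro _ ⟨z, hz, rfl⟩
      exact hz.2
    · obtain ⟨z, hz, rfl⟩ := i hx
      exact ⟨z, ⟨hz, hx⟩, rfl⟩
  suffices key : ∀ (Z : (𝔛.X 0).Opens) (iZ : Z ≤ img f V) (t : Sec 𝔛 hX Z), img f V' = Z →
      (t ∈ J.sect Z ↔ ∀ x ∈ Z, ∃ (U : (𝔛.X 0).Opens) (j : U ≤ Z), x ∈ U ∧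
        resS j t ∈ N.map (resS (j.trans iZ))) from key W i t hV'
  intro Z iZ t hZ
  subst hZ
  have hmap : ∀ (U : (𝔜.X 0).Opens) (k : U ≤ V),
      ((N.map (fR f hY hX (img f V) V (le_preimage_img f V))).map (resS k)) =
        (N.map (resS (img_mono f k))).map (fR f hY hX (img f U) U (le_preimage_img f U)) := fun U k => by
    rw [Ideal.map_map, Ideal.map_map]
    have e : (resS k).comp (fR f hY hX (img f V) V (le_preimage_img f V)) =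
        (fR f hY hX (img f U) U (le_preimage_img f U)).comp (resS (img_mono f k)) := by
      refine RingHom.ext fun a => ?_
      rw [RingHom.comp_apply, RingHom.comp_apply]
      exact resS_fR_img (hX := hX) (hY := hY) f k a
    rw [e]
  rw [← mem_idealMap_img_iff (hY := hY) f J (V := V') t, hg V' inf_le_left]
  constructor
  · rintro hx _ ⟨y, hy, rfl⟩
    obtain ⟨U, j, hyU, hU⟩ := hx y hy
    refine ⟨img f U, img_mono f j, ⟨y, hyU, rfl⟩, ?_⟩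
    change resS j _ ∈ _ at hU
    rw [resS_fR_img, hmap U (j.trans inf_le_left)] at hU
    obtain ⟨c, hc, hc'⟩ := (Ideal.mem_map_iff_of_surjective _ (fR_bijective hX hY f U).2).1 hU
    exact (fR_bijective hX hY f U).1 hc' ▸ hc
  · intro hx y hy
    obtain ⟨U, j, hyU, hU⟩ := hx _ ⟨y, hy, rfl⟩
    refine ⟨V' ⊓ (f : FSch.Hom 𝔜 𝔛).app 0 ⁻¹ᵁ U, inf_le_left, ⟨hy, hyU⟩, ?_⟩
    show resS inf_le_left _ ∈ _
    rw [resS_fR_img, hmap _ ((inf_le_left : V' ⊓ _ ≤ V').trans inf_le_left)]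
    refine Ideal.mem_map_of_mem _ ?_
    have hU' : img f (V' ⊓ (f : FSch.Hom 𝔜 𝔛).app 0 ⁻¹ᵁ U) ≤ U := by
      rintro _ ⟨z, hz, rfl⟩
      exact hz.2
    have h2 := Ideal.mem_map_of_mem (resS hU') hU
    rw [map_rO, rO_rO] at h2
    exact h2

/-- Invertible ideals restrict along open immersions. -/
theorem isInvertible_idealMap {J : IdealSh (𝔛.Osh hX)} (hJ : J.IsInvertible) :
    (FBlow.idealMap f hY hX J).IsInvertible := by
  refine isInvertible_of_local fun y => ?_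
  obtain ⟨U, s, hyU, hg, hr⟩ := exists_genOn_of_isInvertible hJ ((f : FSch.Hom 𝔜 𝔛).app 0 y)
  refine ⟨(f : FSch.Hom 𝔜 𝔛).app 0 ⁻¹ᵁ U, fR f hY hX U _ le_rfl s, hyU, ?_, reg_fR f hr le_rfl⟩
  refine (hg.idealMap f hY hX le_rfl).congr_ideal ?_
  rw [Ideal.map_span, Set.image_singleton]

end OpenImm

/-- Invertibility may be checked on a cover by open immersions. -/
theorem isInvertible_of_cover {J : IdealSh (𝔛.Osh hX)}
    (H : ∀ x : 𝔛.X 0, ∃ (𝔘 : FSch.Sys.{u}) (hU : 𝔘.IsFormal) (j : 𝔘 ⟶ 𝔛)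
      (_ : ∀ n, IsOpenImmersion ((j : FSch.Hom 𝔘 𝔛).app n)),
      x ∈ Set.range ((j : FSch.Hom 𝔘 𝔛).app 0) ∧ (FBlow.idealMap j hU hX J).IsInvertible) :
    J.IsInvertible := by
  refine isInvertible_of_local fun x => ?_
  obtain ⟨𝔘, hU, j, hop, ⟨y, rfl⟩, hinv⟩ := H x
  obtain ⟨V, t, hyV, hg, hr⟩ := exists_genOn_of_isInvertible hinv y
  obtain ⟨s, rfl⟩ := (fR_bijective hX hU j V).2 t
  refine ⟨img j V, s, ⟨y, hyV, rfl⟩, genOn_of_idealMap (hY := hU) j ?_, reg_of_reg_fR j hr⟩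
  rw [Ideal.map_span, Set.image_singleton]
  exact hg

/-- The opens of a level corresponding to the range. -/
theorem range_app_eq (j : 𝔜 ⟶ 𝔛) [∀ n, IsOpenImmersion ((j : FSch.Hom 𝔜 𝔛).app n)] (hX : 𝔛.IsFormal)
    (hY : 𝔜.IsFormal) (n : ℕ) :
    Set.range ((j : FSch.Hom 𝔜 𝔛).app n) = (𝔛.gInv hX n) ⁻¹' Set.range ((j : FSch.Hom 𝔜 𝔛).app 0) := by
  have h1 := congrArg (fun U : (𝔛.X n).Opens => (U : Set (𝔛.X n))) (image_lvU (hX := hX) (hY := hY) j n ⊤)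
  have e : ((𝔛.lvU hX n (img j ⊤) : (𝔛.X n).Opens) : Set (𝔛.X n)) =
      (𝔛.gInv hX n) ⁻¹' (((j : FSch.Hom 𝔜 𝔛).app 0) '' Set.univ) := rfl
  have e' : (((j : FSch.Hom 𝔜 𝔛).app n ''ᵁ 𝔜.lvU hY n ⊤ : (𝔛.X n).Opens) : Set (𝔛.X n)) =
      ((j : FSch.Hom 𝔜 𝔛).app n) '' Set.univ := rfl
  rw [← Set.image_univ, ← Set.image_univ, ← e, ← e']
  exact h1

/-- A morphism of systems landing in the range of an open immersion factors through it. -/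
theorem exists_factor (hX : 𝔛.IsFormal) (hY : 𝔜.IsFormal) (hW : 𝔚.IsFormal) (j : 𝔜 ⟶ 𝔛)
    [∀ n, IsOpenImmersion ((j : FSch.Hom 𝔜 𝔛).app n)] (g : 𝔚 ⟶ 𝔛)
    (hr : ∀ w, (g : FSch.Hom 𝔚 𝔛).app 0 w ∈ Set.range ((j : FSch.Hom 𝔜 𝔛).app 0)) :
    ∃ g' : 𝔚 ⟶ 𝔜, g' ≫ j = g := by
  have hrn : ∀ n, Set.range ((g : FSch.Hom 𝔚 𝔛).app n) ⊆ Set.range ((j : FSch.Hom 𝔜 𝔛).app n) := by
    rintro n _ ⟨w, rfl⟩
    rw [range_app_eq j hX hY n, Set.mem_preimage]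
    have e : 𝔛.gInv hX n ((g : FSch.Hom 𝔚 𝔛).app n w) = (g : FSch.Hom 𝔚 𝔛).app 0 (𝔚.gInv hW n w) :=
      congrArg (fun φ => φ w) (FSch.Hom.base_gInv g hW hX n)
    exact e ▸ hr _
  let l : ∀ n, 𝔚.X n ⟶ 𝔜.X n := fun n => IsOpenImmersion.lift ((j : FSch.Hom 𝔜 𝔛).app n) _ (hrn n)
  have hl : ∀ n, l n ≫ (j : FSch.Hom 𝔜 𝔛).app n = (g : FSch.Hom 𝔚 𝔛).app n := fun n =>
    IsOpenImmersion.lift_fac _ _ _
  refine ⟨⟨l, fun n => ?_⟩, FSch.Hom.ext (funext hl)⟩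
  rw [← cancel_mono ((j : FSch.Hom 𝔜 𝔛).app (n + 1)), Category.assoc, Category.assoc, hl,
    ← (j : FSch.Hom 𝔜 𝔛).comm n, ← Category.assoc, hl, (g : FSch.Hom 𝔚 𝔛).comm n]

section BaseChange

variable {𝔛' 𝔜' : FSch.Sys.{u}} {hX' : 𝔛'.IsFormal} {hY' : 𝔜'.IsFormal}
  (b : 𝔜 ⟶ 𝔛) (j : 𝔛' ⟶ 𝔛) (b' : 𝔜' ⟶ 𝔛') (k : 𝔜' ⟶ 𝔜)

/-- The square of systems is cartesian levelwise. -/
def IsBC : Prop :=
  ∀ n, IsPullback ((k : FSch.Hom 𝔜' 𝔜).app n) ((b' : FSch.Hom 𝔜' 𝔛').app n)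
    ((b : FSch.Hom 𝔜 𝔛).app n) ((j : FSch.Hom 𝔛' 𝔛).app n)

variable {b j b' k}

theorem IsBC.w (h : IsBC b j b' k) : k ≫ b = b' ≫ j := FSch.Hom.ext (funext fun n => (h n).w)

theorem IsBC.isAdicHom (h : IsBC b j b' k) (hb : FSch.IsAdicHom b) : FSch.IsAdicHom b' := fun n => by
  refine IsPullback.of_right ?_ ((b' : FSch.Hom 𝔜' 𝔛').comm n).symm (h (n + 1))
  rw [← (k : FSch.Hom 𝔜' 𝔜).comm n, ← (j : FSch.Hom 𝔛' 𝔛).comm n]
  exact (h n).paste_horiz (hb n)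

theorem IsBC.isOpenImmersion (h : IsBC b j b' k) [∀ n, IsOpenImmersion ((j : FSch.Hom 𝔛' 𝔛).app n)] (n : ℕ) :
    IsOpenImmersion ((k : FSch.Hom 𝔜' 𝔜).app n) :=
  MorphismProperty.of_isPullback (P := @IsOpenImmersion) (h n).flip inferInstance

/-- The base change of an admissible blow-up along an open immersion. -/
theorem IsBC.isAdmBlowUp (h : IsBC b j b' k) [∀ n, IsOpenImmersion ((j : FSch.Hom 𝔛' 𝔛).app n)]
    (hj : FSch.IsAdicHom j) {J : IdealSh (𝔛.Osh hX)} (hb : FBlow.IsAdmBlowUp b hY hX J) :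
    FBlow.IsAdmBlowUp b' hY' hX' (FBlow.idealMap j hX' hX J) := by
  haveI := h.isOpenImmersion
  refine ⟨h.isAdicHom hb.1, ?_, fun 𝔚 hW g hg hinv => ?_⟩
  · rw [idealMap_comp j hX' hX b' hY', ← h.w, ← idealMap_comp b hY hX k hY']
    exact isInvertible_idealMap k hb.2.1
  · rw [idealMap_comp j hX' hX g hW] at hinv
    obtain ⟨l, hl, hu⟩ := hb.2.2 𝔚 hW (g ≫ j) (isAdicHom_comp g j hg hj) hinv
    have hln : ∀ n, (l : FSch.Hom 𝔚 𝔜).app n ≫ (b : FSch.Hom 𝔜 𝔛).app n =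
        (g : FSch.Hom 𝔚 𝔛').app n ≫ (j : FSch.Hom 𝔛' 𝔛).app n := fun n =>
      congrArg (fun φ : 𝔚 ⟶ 𝔛 => (φ : FSch.Hom 𝔚 𝔛).app n) hl
    let m : 𝔚 ⟶ 𝔜' := ⟨fun n => (h n).lift _ _ (hln n), fun n => by
      refine (h (n + 1)).hom_ext ?_ ?_
      · rw [Category.assoc, ← (k : FSch.Hom 𝔜' 𝔜).comm n, ← Category.assoc, (h n).lift_fst, Category.assoc,
          (h (n + 1)).lift_fst, (l : FSch.Hom 𝔚 𝔜).comm n]
      · rw [Category.assoc, ← (b' : FSch.Hom 𝔜' 𝔛').comm n, ← Category.assoc, (h n).lift_snd, Category.assoc,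
          (h (n + 1)).lift_snd, (g : FSch.Hom 𝔚 𝔛').comm n]⟩
    refine ⟨m, FSch.Hom.ext (funext fun n => (h n).lift_snd _ _ _), fun m' hm' => ?_⟩
    have hm'k : m' ≫ k = l := hu _ (by show (m' ≫ k) ≫ b = g ≫ j; rw [Category.assoc, h.w, ← Category.assoc, hm'])
    refine FSch.Hom.ext (funext fun n => (h n).hom_ext ?_ ?_)
    · refine Eq.trans ?_ ((h n).lift_fst _ _ (hln n)).symm
      exact congrArg (fun φ : 𝔚 ⟶ 𝔜 => (φ : FSch.Hom 𝔚 𝔜).app n) hm'k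
    · refine Eq.trans ?_ ((h n).lift_snd _ _ (hln n)).symm
      exact congrArg (fun φ : 𝔚 ⟶ 𝔛' => (φ : FSch.Hom 𝔚 𝔛').app n) hm'

end BaseChange

section Restrict

instance isOpenImmersion_restrictOpenι (V : (𝔛.X 0).Opens) (n : ℕ) :
    IsOpenImmersion ((𝔛.restrictOpenι hX V : FSch.Hom _ _).app n) :=
  inferInstanceAs (IsOpenImmersion (𝔛.lvU hX n V).ι)

theorem range_restrictOpenι (V : (𝔛.X 0).Opens) :
    Set.range ((𝔛.restrictOpenι hX V : FSch.Hom _ _).app 0) = (V : Set (𝔛.X 0)) := by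
  show Set.range (𝔛.lvU hX 0 V).ι = _
  rw [Scheme.Opens.range_ι]
  exact congrArg (fun U : (𝔛.X 0).Opens => (U : Set (𝔛.X 0))) (toX_preimage_lvU 𝔛 hX 0 V)

end Restrict

section Cover

variable (b : 𝔜 ⟶ 𝔛) {J : IdealSh (𝔛.Osh hX)} {κ : Type u} {𝔛i 𝔜i : κ → FSch.Sys.{u}}
  (hXi : ∀ i, (𝔛i i).IsFormal) (hYi : ∀ i, (𝔜i i).IsFormal)
  (j : ∀ i, 𝔛i i ⟶ 𝔛) [∀ i n, IsOpenImmersion ((j i : FSch.Hom (𝔛i i) 𝔛).app n)]
  (bi : ∀ i, 𝔜i i ⟶ 𝔛i i) (k : ∀ i, 𝔜i i ⟶ 𝔜)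

/-- A morphism that is an admissible blow-up over each member of an open cover is one. -/
theorem isAdmBlowUp_of_cover (hb : FSch.IsAdicHom b) (hj : ∀ i, FSch.IsAdicHom (j i))
    (hbc : ∀ i, IsBC b (j i) (bi i) (k i))
    (hcov : ∀ x : 𝔛.X 0, ∃ i, x ∈ Set.range ((j i : FSch.Hom (𝔛i i) 𝔛).app 0))
    (hbi : ∀ i, FBlow.IsAdmBlowUp (bi i) (hYi i) (hXi i) (FBlow.idealMap (j i) (hXi i) hX J)) :
    FBlow.IsAdmBlowUp b hY hX J := by
  haveI : ∀ i n, IsOpenImmersion ((k i : FSch.Hom (𝔜i i) 𝔜).app n) := fun i => (hbc i).isOpenImmersion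
  refine ⟨hb, ?_, fun 𝔚 hW g hg hinv => ?_⟩
  · refine isInvertible_of_cover fun y => ?_
    obtain ⟨i, z, hz⟩ := hcov ((b : FSch.Hom 𝔜 𝔛).app 0 y)
    obtain ⟨w, hw, -⟩ := Scheme.exists_preimage_of_isPullback (hbc i 0) y z hz.symm
    refine ⟨𝔜i i, hYi i, k i, inferInstance, ⟨w, hw⟩, ?_⟩
    rw [idealMap_comp b hY hX (k i) (hYi i), (hbc i).w, ← idealMap_comp (j i) (hXi i) hX (bi i) (hYi i)]
    exact (hbi i).2.1
  -- uniqueness over the members of the cover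
  have uniq : ∀ (𝔚' : FSch.Sys.{u}) (hW' : 𝔚'.IsFormal) (g' : 𝔚' ⟶ 𝔛), FSch.IsAdicHom g' →
      (FBlow.idealMap g' hW' hX J).IsInvertible → ∀ i,
      (∀ w, (g' : FSch.Hom 𝔚' 𝔛).app 0 w ∈ Set.range ((j i : FSch.Hom (𝔛i i) 𝔛).app 0)) →
      ∃! l : 𝔚' ⟶ 𝔜, l ≫ b = g' := by
    intro 𝔚' hW' g' hg' hinv' i hr
    obtain ⟨gi, hgi⟩ := exists_factor hX (hXi i) hW' (j i) g' hr
    have hgia : FSch.IsAdicHom gi := isAdicHom_of_comp gi (j i) (by rw [hgi]; exact hg') (hj i)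
    have hinvi : (FBlow.idealMap gi hW' (hXi i) (FBlow.idealMap (j i) (hXi i) hX J)).IsInvertible := by
      rw [idealMap_comp (j i) (hXi i) hX gi hW', hgi]
      exact hinv'
    obtain ⟨li, hli, hui⟩ := (hbi i).2.2 𝔚' hW' gi hgia hinvi
    refine ⟨li ≫ k i, by show (li ≫ k i) ≫ b = g'; rw [Category.assoc, (hbc i).w, ← Category.assoc, hli, hgi], fun l hl => ?_⟩
    have hln : ∀ n, (l : FSch.Hom 𝔚' 𝔜).app n ≫ (b : FSch.Hom 𝔜 𝔛).app n =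
        (gi : FSch.Hom 𝔚' (𝔛i i)).app n ≫ (j i : FSch.Hom (𝔛i i) 𝔛).app n := fun n =>
      congrArg (fun φ : 𝔚' ⟶ 𝔛 => (φ : FSch.Hom 𝔚' 𝔛).app n) (hl.trans hgi.symm)
    let m : 𝔚' ⟶ 𝔜i i := ⟨fun n => (hbc i n).lift _ _ (hln n), fun n => by
      refine (hbc i (n + 1)).hom_ext ?_ ?_
      · rw [Category.assoc, ← (k i : FSch.Hom (𝔜i i) 𝔜).comm n, ← Category.assoc, (hbc i n).lift_fst, Category.assoc,
          (hbc i (n + 1)).lift_fst, (l : FSch.Hom 𝔚' 𝔜).comm n]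
      · rw [Category.assoc, ← (bi i : FSch.Hom (𝔜i i) (𝔛i i)).comm n, ← Category.assoc, (hbc i n).lift_snd,
          Category.assoc, (hbc i (n + 1)).lift_snd, (gi : FSch.Hom 𝔚' (𝔛i i)).comm n]⟩
    have hm : m = li := hui m (FSch.Hom.ext (funext fun n => (hbc i n).lift_snd _ _ _))
    rw [← hm]
    exact FSch.Hom.ext (funext fun n => ((hbc i n).lift_fst _ _ (hln n)).symm)
  let O : κ → (𝔚.X 0).Opens := fun i =>
    (g : FSch.Hom 𝔚 𝔛).app 0 ⁻¹ᵁ ((j i : FSch.Hom (𝔛i i) 𝔛).app 0).opensRange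
  have huV : ∀ (V : (𝔚.X 0).Opens) (i : κ), V ≤ O i →
      ∃! l : 𝔚.restrictOpen hW V ⟶ 𝔜, l ≫ b = 𝔚.restrictOpenι hW V ≫ g := by
    intro V i hV
    refine uniq _ (isFormal_restrictOpen 𝔚 hW V) _ (isAdicHom_comp _ _ (isAdicHom_restrictOpenι 𝔚 hW V) hg) ?_ i
      fun w => ?_
    · rw [← idealMap_comp g hW hX (𝔚.restrictOpenι hW V) (isFormal_restrictOpen 𝔚 hW V)]
      exact isInvertible_idealMap _ hinv
    · exact hV ((range_restrictOpenι (hX := hW) V).le ⟨w, rfl⟩)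
  choose l hl hlu using fun i => huV (O i) i le_rfl
  have hcovn : ∀ (n : ℕ) (y : 𝔚.X n), ∃ i, y ∈ 𝔚.lvU hW n (O i) := fun n y =>
    (hcov ((g : FSch.Hom 𝔚 𝔛).app 0 (𝔚.gInv hW n y)))
  let res : ∀ (V : (𝔚.X 0).Opens) (i : κ), V ≤ O i → (𝔚.restrictOpen hW V ⟶ 𝔚.restrictOpen hW (O i)) :=
    fun V i hV => ⟨fun n => (𝔚.X n).homOfLE (FBlow.lvU_mono 𝔚 hW n hV), fun n => by
      rw [← cancel_mono (𝔚.lvU hW (n + 1) (O i)).ι]
      simp [FSch.Sys.restrictOpen, Category.assoc]⟩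
  have hres : ∀ V i hV, res V i hV ≫ 𝔚.restrictOpenι hW (O i) = 𝔚.restrictOpenι hW V := fun V i hV =>
    FSch.Hom.ext (funext fun n => Scheme.homOfLE_ι (𝔚.X n) (FBlow.lvU_mono 𝔚 hW n hV))
  have hagree : ∀ i i' n, (𝔚.X n).homOfLE (FBlow.lvU_mono 𝔚 hW n (inf_le_left : O i ⊓ O i' ≤ O i)) ≫
      (l i : FSch.Hom _ 𝔜).app n =
      (𝔚.X n).homOfLE (FBlow.lvU_mono 𝔚 hW n (inf_le_right : O i ⊓ O i' ≤ O i')) ≫ (l i' : FSch.Hom _ 𝔜).app n := by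
    intro i i' n
    obtain ⟨m, -, hm⟩ := huV (O i ⊓ O i') i inf_le_left
    have e1 := hm (res (O i ⊓ O i') i inf_le_left ≫ l i) (by
      show (res (O i ⊓ O i') i inf_le_left ≫ l i) ≫ b = _
      rw [Category.assoc, hl, ← Category.assoc, hres _ _ (inf_le_left : O i ⊓ O i' ≤ O i)])
    have e2 := hm (res (O i ⊓ O i') i' inf_le_right ≫ l i') (by
      show (res (O i ⊓ O i') i' inf_le_right ≫ l i') ≫ b = _
      rw [Category.assoc, hl, ← Category.assoc, hres _ _ (inf_le_right : O i ⊓ O i' ≤ O i')])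
    exact congrArg (fun φ : 𝔚.restrictOpen hW (O i ⊓ O i') ⟶ 𝔜 => (φ : FSch.Hom _ 𝔜).app n) (e1.trans e2.symm)
  have hglue : ∀ n, ∃ L : 𝔚.X n ⟶ 𝔜.X n, ∀ i, (𝔚.lvU hW n (O i)).ι ≫ L = (l i : FSch.Hom _ 𝔜).app n := fun n =>
    exists_glue_opens (fun i => 𝔚.lvU hW n (O i)) (hcovn n) _ fun i i' => hagree i i' n
  choose L hL using hglue
  let K : 𝔚 ⟶ 𝔜 := ⟨L, fun n => hom_ext_opens (fun i => 𝔚.lvU hW n (O i)) (hcovn n) fun i => by
    rw [← Category.assoc, hL, ← Category.assoc, (l i : FSch.Hom _ 𝔜).comm n]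
    show (𝔚.ι n).resLE _ _ _ ≫ _ = _
    rw [← hL (n + 1) i, ← Category.assoc, Scheme.Hom.resLE_comp_ι]⟩
  refine ⟨K, FSch.Hom.ext (funext fun n => hom_ext_opens (fun i => 𝔚.lvU hW n (O i)) (hcovn n) fun i => ?_),
    fun K' hK' => FSch.Hom.ext (funext fun n => hom_ext_opens (fun i => 𝔚.lvU hW n (O i)) (hcovn n) fun i => ?_)⟩
  · show (𝔚.lvU hW n (O i)).ι ≫ L n ≫ (b : FSch.Hom 𝔜 𝔛).app n = _
    rw [← Category.assoc, hL]
    exact congrArg (fun φ : 𝔚.restrictOpen hW (O i) ⟶ 𝔛 => (φ : FSch.Hom _ 𝔛).app n) (hl i)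
  · show _ = (𝔚.lvU hW n (O i)).ι ≫ L n
    rw [hL]
    exact congrArg (fun φ : 𝔚.restrictOpen hW (O i) ⟶ 𝔜 => (φ : FSch.Hom _ 𝔜).app n)
      (hlu i (𝔚.restrictOpenι hW (O i) ≫ K') (by
        show (𝔚.restrictOpenι hW (O i) ≫ K') ≫ b = _
        rw [Category.assoc, hK']))

/-- Adicness may be checked on a cover. -/
theorem isAdicHom_of_cover (hj : ∀ i, FSch.IsAdicHom (j i)) (hbc : ∀ i, IsBC b (j i) (bi i) (k i))
    (hcov : ∀ (n : ℕ) (x : 𝔛.X n), ∃ i, x ∈ Set.range ((j i : FSch.Hom (𝔛i i) 𝔛).app n))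
    (hbi : ∀ i, FSch.IsAdicHom (bi i)) : FSch.IsAdicHom b := by
  intro n
  have w := ((b : FSch.Hom 𝔜 𝔛).comm n).symm
  let Q := pullback ((b : FSch.Hom 𝔜 𝔛).app (n + 1)) (𝔛.ι n)
  let u : 𝔜.X n ⟶ Q := pullback.lift (𝔜.ι n) ((b : FSch.Hom 𝔜 𝔛).app n) w
  have hu2 : u ≫ pullback.snd _ _ = (b : FSch.Hom 𝔜 𝔛).app n := pullback.lift_snd _ _ _
  have hu1 : u ≫ pullback.fst _ _ = 𝔜.ι n := pullback.lift_fst _ _ _
  suffices hu : IsIso u from IsPullback.of_iso_pullback ⟨w⟩ (asIso u) hu1 hu2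
  let 𝒰 : Q.OpenCover :=
    { I₀ := κ
      X := fun i => pullback (pullback.snd ((b : FSch.Hom 𝔜 𝔛).app (n + 1)) (𝔛.ι n))
        ((j i : FSch.Hom (𝔛i i) 𝔛).app n)
      f := fun i => pullback.fst _ _
      mem₀ := by
        rw [Scheme.presieve₀_mem_precoverage_iff]
        refine ⟨fun q => ?_, fun i => inferInstance⟩
        obtain ⟨i, z, hz⟩ := hcov n (pullback.snd ((b : FSch.Hom 𝔜 𝔛).app (n + 1)) (𝔛.ι n) q)
        obtain ⟨w', hw', -⟩ := Scheme.Pullback.exists_preimage_pullback q z hz.symm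
        exact ⟨i, w', hw'⟩ }
  refine IsZariskiLocalAtTarget.of_openCover (P := MorphismProperty.isomorphisms Scheme) 𝒰 fun i => ?_
  -- both sides are the fibre product over the member
  have hright : IsPullback (pullback.fst (pullback.snd ((b : FSch.Hom 𝔜 𝔛).app (n + 1)) (𝔛.ι n))
      ((j i : FSch.Hom (𝔛i i) 𝔛).app n) ≫ pullback.fst _ _) (pullback.snd _ _)
      ((b : FSch.Hom 𝔜 𝔛).app (n + 1)) ((j i : FSch.Hom (𝔛i i) 𝔛).app n ≫ 𝔛.ι n) :=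
    (IsPullback.of_hasPullback _ _).paste_horiz (IsPullback.of_hasPullback _ _)
  have hleft : IsPullback ((k i : FSch.Hom (𝔜i i) 𝔜).app n ≫ 𝔜.ι n) ((bi i : FSch.Hom (𝔜i i) (𝔛i i)).app n)
      ((b : FSch.Hom 𝔜 𝔛).app (n + 1)) ((j i : FSch.Hom (𝔛i i) 𝔛).app n ≫ 𝔛.ι n) := by
    rw [(k i : FSch.Hom (𝔜i i) 𝔜).comm n, (j i : FSch.Hom (𝔛i i) 𝔛).comm n]
    exact (hbi i n).paste_horiz (hbc i (n + 1))
  let v : (𝔜i i).X n ⟶ 𝒰.X i := pullback.lift ((k i : FSch.Hom (𝔜i i) 𝔜).app n ≫ u)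
    ((bi i : FSch.Hom (𝔜i i) (𝔛i i)).app n) (by rw [Category.assoc, hu2]; exact (hbc i n).w)
  haveI : IsIso v := by
    have e : v = (hleft.isoIsPullback _ _ hright).hom := by
      refine hright.hom_ext ?_ ?_
      · rw [IsPullback.isoIsPullback_hom_fst]
        show v ≫ pullback.fst _ _ ≫ pullback.fst _ _ = _
        rw [← Category.assoc, pullback.lift_fst, Category.assoc, hu1]
      · rw [IsPullback.isoIsPullback_hom_snd]
        exact pullback.lift_snd _ _ _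
    rw [e]
    infer_instance
  have hsq : IsPullback ((k i : FSch.Hom (𝔜i i) 𝔜).app n) v u (𝒰.f i) := by
    refine IsPullback.of_bot ?_ (pullback.lift_fst _ _ _).symm (IsPullback.of_hasPullback _ _)
    rw [hu2, show v ≫ pullback.snd _ _ = _ from pullback.lift_snd _ _ _]
    exact hbc i n
  show MorphismProperty.isomorphisms Scheme (pullback.snd u (𝒰.f i))
  refine ((MorphismProperty.isomorphisms Scheme).cancel_left_of_respectsIso hsq.isoPullback.hom _).1 ?_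
  rw [hsq.isoPullback_hom_snd]
  exact inferInstanceAs (IsIso v)

end Cover

end Groth.L20.FBlow
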