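import Groth.Agent.L20.FBlow.Base
import Groth.Agent.L20.FBlow.Local
import Groth.Agent.L20.FBlow.Glue
import Groth.Agent.L13.BlowUp.Exists

/-!
# Existence of admissible formal blow-ups
-/

set_option autoImplicit false
set_option linter.style.haveILetI false
set_option linter.unusedSectionVars false
set_option backward.isDefEq.respectTransparency false
set_option backward.isDefEq.respectTransparency.types false

universe u

open CategoryTheory CategoryTheory.Limits AlgebraicGeometry TopologicalSpace Opposite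

noncomputable section

namespace Groth.L20.FBlow

open _root_.FBlow Groth.L17.FSheaf

theorem isBase_fg {R : Type u} [CommRing R] {I : Ideal R} (hR : AdicRing.IsBase R I) : I.FG :=
  Groth.L05.Bosch.isBase_fg hR

variable {R : Type u} [CommRing R] {I : Ideal R} {𝔛 : FSch.Sys.{u}} (p : 𝔛 ⟶ FSch.spf R I) {h : 𝔛.IsFormal}

/-- An affine open on which `J` is generated by a finitely generated open ideal. -/
def Good (J : IdealSh (𝔛.Osh h)) (U : (𝔛.X 0).Opens) : Prop :=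
  IsAffineOpen U ∧ ∃ 𝔞 : Ideal (Sec 𝔛 h U), 𝔞.FG ∧ (∃ k, (I ^ k).map (bS p h U) ≤ 𝔞) ∧ GenOn J U 𝔞

theorem Good.mono {J : IdealSh (𝔛.Osh h)} {U V : (𝔛.X 0).Opens} (hU : Good p J U) (hV : IsAffineOpen V)
    (i : V ≤ U) : Good p J V := by
  obtain ⟨-, 𝔞, hfg, ⟨k, hk⟩, hg⟩ := hU
  refine ⟨hV, 𝔞.map (resS i), hfg.map _, ⟨k, ?_⟩, hg.mono i⟩
  rw [← map_resS_scal (cb p) (cb_comm p) i]
  exact Ideal.map_mono hk

variable (hp : FSch.IsAdicHom p)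

include hp in
theorem ker_pR_eq (hI : I.FG) {V : (𝔛.X 0).Opens} (hV : IsAffineOpen V) (n : ℕ) :
    RingHom.ker (pR 𝔛 h n V) = (I ^ (n + 1)).map (bS p h V) :=
  (sec_spec p h hp hV hI).2 n

include hp in
/-- The open ideal of data on a level is generated on an affine open by its preimage. -/
theorem genOn_ofLevel (hI : I.FG) {V : (𝔛.X 0).Opens} (hV : IsAffineOpen V) (n : ℕ) (𝒜 : (𝔛.X n).IdealSheafData) :
    GenOn (FBlow.ofLevel 𝔛 h n 𝒜) V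
      ((𝒜.ideal ⟨𝔛.lvU h n V, isAffineOpen_lvU 𝔛 h hV n⟩).comap (pR 𝔛 h n V)) := by
  let Vn : (𝔛.X n).affineOpens := ⟨𝔛.lvU h n V, isAffineOpen_lvU 𝔛 h hV n⟩
  let K : Ideal Γ(𝔛.X n, Vn.1) := 𝒜.ideal Vn
  let 𝔞 : Ideal (Sec 𝔛 h V) := K.comap (pR 𝔛 h n V)
  change GenOn _ V 𝔞
  have hker : (I ^ (n + 1)).map (bS p h V) ≤ 𝔞 := by
    rw [← ker_pR_eq p hp hI hV n]
    exact Ideal.comap_mono bot_le
  intro V' i t
  rw [mem_ofLevel_iff]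
  constructor
  · intro ht y hy
    have hyn : 𝔛.toX n y ∈ 𝔛.lvU h n V' := (congrArg (y ∈ ·) (toX_preimage_lvU 𝔛 h n V')).mpr hy
    obtain ⟨W₁, j, hyW₁, hW₁⟩ := (genOn_ofData 𝒜 Vn (𝔛.lvU h n V') (FBlow.lvU_mono 𝔛 h n i) _).1 ht _ hyn
    obtain ⟨_, ⟨W, hW, rfl⟩, hyW, hWle⟩ := (𝔛.X 0).isBasis_affineOpens.exists_subset_of_mem_open
      (show y ∈ V' ⊓ 𝔛.toX n ⁻¹ᵁ W₁ from ⟨hy, hyW₁⟩) (V' ⊓ 𝔛.toX n ⁻¹ᵁ W₁).2
    have w : W ≤ V' := fun z hz => (hWle hz).1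
    refine ⟨W, w, hyW, ?_⟩
    have hWn : 𝔛.lvU h n W ≤ W₁ := by
      intro z hz
      obtain ⟨z', rfl⟩ := 𝔛.toX_surjective h n z
      exact (hWle ((congrArg (z' ∈ ·) (toX_preimage_lvU 𝔛 h n W)).mp hz)).2
    have h2 := Ideal.mem_map_of_mem (rO (𝔛.X n).sheaf hWn) hW₁
    rw [map_rO, rO_rO] at h2
    have h3 : pR 𝔛 h n W (resS w t) ∈ (𝔞.map (resS (w.trans i))).map (pR 𝔛 h n W) := by
      rw [pR_resS]
      have e : K = 𝔞.map (pR 𝔛 h n V) := (Ideal.map_comap_of_surjective _ (pR_surjective 𝔛 h hV n) K).symm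
      change rO (𝔛.X n).sheaf (hWn.trans j) (pR 𝔛 h n V' t) ∈ K.map _ at h2
      rw [e, Ideal.map_map] at h2
      rw [Ideal.map_map]
      have e2 : (pR 𝔛 h n W).comp (resS (w.trans i)) =
          (rO (𝔛.X n).sheaf (FBlow.lvU_mono 𝔛 h n (w.trans i))).comp (pR 𝔛 h n V) :=
        RingHom.ext fun a => pR_resS (w.trans i) n a
      rw [e2]
      exact h2
    obtain ⟨b, hb, hbt⟩ := (Ideal.mem_map_iff_of_surjective _ (pR_surjective 𝔛 h hW n)).1 h3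
    have hd : resS w t - b ∈ 𝔞.map (resS (w.trans i)) := by
      have h4 : resS w t - b ∈ RingHom.ker (pR 𝔛 h n W) := by
        rw [RingHom.mem_ker, map_sub, hbt, sub_self]
      rw [ker_pR_eq p hp hI hW n, ← map_resS_scal (cb p) (cb_comm p) (w.trans i)] at h4
      exact Ideal.map_mono hker h4
    have h5 := add_mem hb hd
    rwa [add_sub_cancel] at h5
  · intro ht
    refine ((FBlow.ofLevel 𝔛 h n 𝒜).mem_of_local fun y hy => ?_ :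
      t ∈ (FBlow.ofLevel 𝔛 h n 𝒜).sect V')
    obtain ⟨W, w, hyW, hW⟩ := ht y hy
    refine ⟨W, w, hyW, ?_⟩
    have hle : 𝔞.map (resS (w.trans i)) ≤ (FBlow.ofLevel 𝔛 h n 𝒜).sect W := by
      rw [Ideal.map_le_iff_le_comap]
      intro a ha
      refine Ideal.mem_comap.2 ((FBlow.ofLevel 𝔛 h n 𝒜).map_mem _ ?_)
      exact (mem_ofLevel_iff 𝔛 h n 𝒜 V a).2 ((genOn_ofData 𝒜 Vn).le ha)
    exact hle hW


include hp in
/-- Coherent open ideals are locally generated by open ideals of finite type. -/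
theorem exists_good (hI : I.FG) {J : IdealSh (𝔛.Osh h)} (hJ : FBlow.IsCohOpen 𝔛 h J) (x : 𝔛.X 0)
    (W : (𝔛.X 0).Opens) (hx : x ∈ W) : ∃ V : (𝔛.X 0).Opens, x ∈ V ∧ V ≤ W ∧ Good p J V := by
  obtain ⟨U, hxU, n, 𝒜, h𝒜, hJU⟩ := hJ x
  obtain ⟨_, ⟨V, hV, rfl⟩, hxV, hVle⟩ := (𝔛.X 0).isBasis_affineOpens.exists_subset_of_mem_open
    (show x ∈ U ⊓ W from ⟨hxU, hx⟩) (U ⊓ W).2
  have hVU : V ≤ U := fun y hy => (hVle hy).1
  refine ⟨V, hxV, fun y hy => (hVle hy).2, hV, ?_⟩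
  let Vn : (𝔛.X n).affineOpens := ⟨𝔛.lvU h n V, isAffineOpen_lvU 𝔛 h hV n⟩
  let K : Ideal Γ(𝔛.X n, Vn.1) := 𝒜.ideal Vn
  let 𝔞 : Ideal (Sec 𝔛 h V) := K.comap (pR 𝔛 h n V)
  have hker : (I ^ (n + 1)).map (bS p h V) ≤ 𝔞 := by
    rw [← ker_pR_eq p hp hI hV n]
    exact Ideal.comap_mono bot_le
  obtain ⟨S, hS⟩ := h𝒜 Vn
  choose g hg using pR_surjective 𝔛 h hV n
  have h𝔞 : 𝔞 = Ideal.span (g '' ↑S) ⊔ (I ^ (n + 1)).map (bS p h V) := by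
    refine le_antisymm (fun a ha => ?_) (sup_le (Ideal.span_le.2 ?_) hker)
    · have h1 : pR 𝔛 h n V a ∈ (Ideal.span (g '' ↑S)).map (pR 𝔛 h n V) := by
        rw [Ideal.map_span, Set.image_image]
        simp only [hg, Set.image_id']
        rw [hS]
        exact ha
      obtain ⟨b, hb, hba⟩ := (Ideal.mem_map_iff_of_surjective _ (pR_surjective 𝔛 h hV n)).1 h1
      refine Submodule.mem_sup.2 ⟨b, hb, a - b, ?_, add_sub_cancel _ _⟩
      rw [← ker_pR_eq p hp hI hV n, RingHom.mem_ker, map_sub, hba, sub_self]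
    · rintro _ ⟨s, hs, rfl⟩
      show pR 𝔛 h n V (g s) ∈ K
      rw [hg]
      have h1 : s ∈ Ideal.span (↑S : Set Γ(𝔛.X n, Vn.1)) := Ideal.subset_span hs
      rw [hS] at h1
      exact h1
  refine ⟨𝔞, ?_, ⟨n + 1, hker⟩, ?_⟩
  · rw [h𝔞]
    refine Submodule.FG.sup ?_ ((hI.pow).map _)
    exact Submodule.fg_span (S.finite_toSet.image g)
  exact (genOn_ofLevel p hp hI hV n 𝒜).congr fun V' i => (hJU V' (i.trans hVU)).symm

theorem toSpecΓ_appLE {X : Scheme.{u}} (U : X.Opens) (W : U.toScheme.Opens) (x : Γ(X, U)) :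
    (U.toSpecΓ.appLE ⊤ W le_top).hom ((Scheme.ΓSpecIso Γ(X, U)).inv x) =
      (U.ι.appLE U W (fun y _ => y.2)).hom x := by
  rw [Scheme.Hom.appLE, Scheme.Opens.ι_appLE]
  show U.toScheme.presheaf.map _ (U.toSpecΓ.app ⊤ _) = _
  rw [show U.toSpecΓ.app ⊤ = U.toSpecΓ.appTop from rfl, Scheme.Opens.toSpecΓ_appTop]
  show U.toScheme.presheaf.map _ (U.topIso.inv ((Scheme.ΓSpecIso Γ(X, U)).hom ((Scheme.ΓSpecIso Γ(X, U)).inv x))) = _
  rw [Iso.inv_hom_id_apply, Scheme.Opens.topIso_inv]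
  show (X.presheaf.map _ ≫ X.presheaf.map _) x = _
  rw [← Functor.map_comp]
  rfl

variable (hfp : ∀ n, LocallyOfFinitePresentation ((p : FSch.Hom 𝔛 (FSch.spf R I)).app n))

/-- An affine piece of a formal scheme. -/
abbrev pieceC (U : (𝔛.X 0).Opens) (n : ℕ) :
    (𝔛.restrictOpen h U).X n ⟶ Spec (CommRingCat.of (Sec 𝔛 h U)) := jS h U n

theorem pieceC_comm (U : (𝔛.X 0).Opens) (n : ℕ) :
    (𝔛.restrictOpen h U).ι n ≫ pieceC U (n + 1) = pieceC (h := h) U n := resLE_jS U n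

theorem fR_restrictOpenι (U : (𝔛.X 0).Opens)
    (e : (⊤ : ((𝔛.restrictOpen h U).X 0).Opens) ≤ (𝔛.restrictOpenι h U : FSch.Hom _ _).app 0 ⁻¹ᵁ U) :
    fR (𝔛.restrictOpenι h U) (isFormal_restrictOpen 𝔛 h U) h U ⊤ e =
      scal (isFormal_restrictOpen 𝔛 h U) (pieceC U) (pieceC_comm U) ⊤ := by
  refine RingHom.ext fun a => pR_ext _ _ fun n => ?_
  rw [pR_fR]
  refine Eq.trans ?_ (pR_sS (pieceC U) (pieceC_comm U) (isFormal_restrictOpen 𝔛 h U) le_top n _).symm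
  refine Eq.trans ?_ (ConcreteCategory.congr_hom (FSch.appLE_comp_appLE_of_eq (𝔛.lvU h n U).toSpecΓ
    (Spec.map (CommRingCat.ofHom (pR 𝔛 h n U))) (pieceC U n) rfl ⊤ ⊤
    ((𝔛.restrictOpen h U).lvU (isFormal_restrictOpen 𝔛 h U) n ⊤) le_top le_top le_top) _)
  refine Eq.trans ?_ (congrArg ((𝔛.lvU h n U).toSpecΓ.appLE ⊤
      ((𝔛.restrictOpen h U).lvU (isFormal_restrictOpen 𝔛 h U) n ⊤) le_top).hom
    (specMap_appLE (A := CommRingCat.of (Sec 𝔛 h U)) (B := Γ(𝔛.X n, 𝔛.lvU h n U))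
      (CommRingCat.ofHom (pR 𝔛 h n U)) a)).symm
  exact (toSpecΓ_appLE (𝔛.lvU h n U) _ _).symm

include hp hfp in
/-- The blow-up over an affine open on which `J` is generated by `𝔞`. -/
theorem exists_local_of_gen (hR : AdicRing.IsBase R I) {J : IdealSh (𝔛.Osh h)} {U : (𝔛.X 0).Opens}
    (hUa : IsAffineOpen U) {𝔞 : Ideal (Sec 𝔛 h U)} (hfg : 𝔞.FG) (hg : GenOn J U 𝔞) :
    ∃ (𝔅 : FSch.Sys.{u}) (hB : 𝔅.IsFormal) (b : 𝔅 ⟶ 𝔛.restrictOpen h U)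
      (P : Scheme.{u}) (q : P ⟶ Spec (CommRingCat.of (Sec 𝔛 h U))) (d : ∀ n, 𝔅.X n ⟶ P),
      FBlow.IsAdmBlowUp b hB (isFormal_restrictOpen 𝔛 h U)
        (FBlow.idealMap (𝔛.restrictOpenι h U) (isFormal_restrictOpen 𝔛 h U) h J) ∧
      LocallyOfFiniteType q ∧
      BlowUp.IsBlowUp q (FSch.idealSpec (Sec 𝔛 h U) 𝔞) ∧ (∀ n, 𝔅.ι n ≫ d (n + 1) = d n) ∧
      ∀ n, IsPullback (d n) ((b : FSch.Hom 𝔅 (𝔛.restrictOpen h U)).app n) q (pieceC U n) := by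
  have hI := isBase_fg hR
  letI := (bS p h U).toAlgebra
  obtain ⟨P, q, hq⟩ := Groth.L13.BU.exists_isBlowUp (FSch.idealSpec (Sec 𝔛 h U) 𝔞)
  haveI := lft_of_isBlowUp hfg hq
  let 𝔅 : FSch.Sys.{u} :=
    { X := fun n => pullback q (pieceC (h := h) U n)
      ι := fun n => pullback.lift (pullback.fst _ _) (pullback.snd _ _ ≫ (𝔛.restrictOpen h U).ι n)
        (by rw [Category.assoc, pieceC_comm]; exact pullback.condition) }
  let b : 𝔅 ⟶ 𝔛.restrictOpen h U := ⟨fun n => pullback.snd _ _, fun n => (pullback.lift_snd _ _ _).symm⟩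
  let d : ∀ n, 𝔅.X n ⟶ P := fun n => pullback.fst _ _
  have hd : ∀ n, 𝔅.ι n ≫ d (n + 1) = d n := fun n => pullback.lift_fst _ _ _
  have hsq : ∀ n, IsPullback (d n) ((b : FSch.Hom 𝔅 (𝔛.restrictOpen h U)).app n) q (pieceC U n) :=
    fun n => IsPullback.of_hasPullback _ _
  have hb : FSch.IsAdicHom b := fun n => by
    refine IsPullback.of_right ?_ ((b : FSch.Hom 𝔅 (𝔛.restrictOpen h U)).comm n).symm (hsq (n + 1))
    rw [hd, pieceC_comm]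
    exact hsq n
  have hB : 𝔅.IsFormal := Groth.L17.Thick.isFormal_of_isAdicHom b (isFormal_restrictOpen 𝔛 h U) hb
  refine ⟨𝔅, hB, b, P, q, d, ?_, inferInstance, hq, hd, hsq⟩
  have hA : AdicRing.TopFiniteType R I (Sec 𝔛 h U) := by
    obtain ⟨n, φ, hφ, -⟩ := sec_tfp p h hp hUa hfp hR hI
    exact ⟨n, φ, hφ⟩
  refine isAdmBlowUp_of_scheme hR hA (pieceC_comm U) (fun n => isThick_jS p h hp hUa hI n) hq hd hsq ?_
  have hle : (⊤ : ((𝔛.restrictOpen h U).X 0).Opens) ≤ (𝔛.restrictOpenι h U : FSch.Hom _ _).app 0 ⁻¹ᵁ U :=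
    fun y _ => (range_restrictOpenι (hX := h) U).le ⟨y, rfl⟩
  refine (hg.idealMap (𝔛.restrictOpenι h U) (isFormal_restrictOpen 𝔛 h U) h hle).congr_ideal ?_
  rw [fR_restrictOpenι U hle]

include hp hfp in
/-- The blow-up over a good affine open. -/
theorem exists_local (hR : AdicRing.IsBase R I) {J : IdealSh (𝔛.Osh h)} {U : (𝔛.X 0).Opens} (hU : Good p J U) :
    ∃ (𝔅 : FSch.Sys.{u}) (hB : 𝔅.IsFormal) (b : 𝔅 ⟶ 𝔛.restrictOpen h U)
      (𝔞 : Ideal (Sec 𝔛 h U)) (P : Scheme.{u}) (q : P ⟶ Spec (CommRingCat.of (Sec 𝔛 h U))) (d : ∀ n, 𝔅.X n ⟶ P),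
      FBlow.IsAdmBlowUp b hB (isFormal_restrictOpen 𝔛 h U)
        (FBlow.idealMap (𝔛.restrictOpenι h U) (isFormal_restrictOpen 𝔛 h U) h J) ∧
      𝔞.FG ∧ (∃ k, (I ^ k).map (bS p h U) ≤ 𝔞) ∧ LocallyOfFiniteType q ∧
      BlowUp.IsBlowUp q (FSch.idealSpec (Sec 𝔛 h U) 𝔞) ∧ (∀ n, 𝔅.ι n ≫ d (n + 1) = d n) ∧
      ∀ n, IsPullback (d n) ((b : FSch.Hom 𝔅 (𝔛.restrictOpen h U)).app n) q (pieceC U n) := by
  obtain ⟨hUa, 𝔞, hfg, hk, hg⟩ := hU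
  obtain ⟨𝔅, hB, b, P, q, d, hb, hrest⟩ := exists_local_of_gen p hp hfp hR hUa hfg hg
  exact ⟨𝔅, hB, b, 𝔞, P, q, d, hb, hfg, hk, hrest⟩

end Groth.L20.FBlow
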