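import Groth.Agent.L20.FBlow.Adjoin
import Groth.Agent.L20.FBlow.Exists

/-!
# Systems over a formal spectrum and their maps into a chart
-/

set_option autoImplicit false
set_option linter.style.haveILetI false
set_option linter.unusedSectionVars false
set_option backward.isDefEq.respectTransparency false
set_option backward.isDefEq.respectTransparency.types false

universe u

open CategoryTheory CategoryTheory.Limits AlgebraicGeometry TopologicalSpace Opposite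

noncomputable section

namespace Groth.L20.FBlow

open _root_.FBlow Groth.L17.FSheaf

section Unit

variable {𝔛 𝔜 : FSch.Sys.{u}} {hX : 𝔛.IsFormal} {hY : 𝔜.IsFormal}

/-- A section is invertible near a point where it is invertible after pulling back. -/
theorem exists_isUnit_of_fR (f : 𝔜 ⟶ 𝔛) {U : (𝔛.X 0).Opens} {V : (𝔜.X 0).Opens}
    (e : V ≤ (f : FSch.Hom 𝔜 𝔛).app 0 ⁻¹ᵁ U) {c : Sec 𝔛 hX U} (hc : IsUnit (fR f hY hX U V e c))
    {y : 𝔜.X 0} (hy : y ∈ V) :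
    ∃ (U' : (𝔛.X 0).Opens) (i : U' ≤ U), (f : FSch.Hom 𝔜 𝔛).app 0 y ∈ U' ∧ IsUnit (resS i c) := by
  have h1 := hc.map (pR 𝔜 hY 0 V)
  rw [pR_fR] at h1
  have h2 : y ∈ (𝔜.X 0).basicOpen ((((f : FSch.Hom 𝔜 𝔛).app 0).appLE (𝔛.lvU hX 0 U) (𝔜.lvU hY 0 V)
      (le_preimage_f f hY hX e 0)).hom (pR 𝔛 hX 0 U c)) := by
    rw [Scheme.basicOpen_of_isUnit _ h1]
    exact (toX_preimage_lvU 𝔜 hY 0 V).ge hy
  rw [Scheme.basicOpen_appLE] at h2
  refine ⟨(𝔛.X 0).basicOpen (pR 𝔛 hX 0 U c), fun z hz =>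
    (toX_preimage_lvU 𝔛 hX 0 U).le ((𝔛.X 0).basicOpen_le _ hz), h2.2, isUnit_of_pR_zero ?_⟩
  rw [pR_resS]
  refine isUnit_of_le_basicOpen ?_
  rw [Scheme.basicOpen_res]
  exact le_inf le_rfl fun z hz => (toX_preimage_lvU 𝔛 hX 0 _).le hz

/-- A single generator of an invertible ideal is regular, and near every point it is a unit times any other. -/
theorem reg_of_genOn {K : IdealSh (𝔛.Osh hX)} (hinv : K.IsInvertible) {U : (𝔛.X 0).Opens} {a : Sec 𝔛 hX U}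
    (hg : GenOn K U (Ideal.span {a})) : Reg (O := 𝔛.Osh hX) U a := by
  refine reg_of_local fun x hx => ?_
  obtain ⟨U', s, hxU', hs, rs⟩ := exists_genOn_of_isInvertible hinv x
  let V : (𝔛.X 0).Opens := U ⊓ U'
  have hgV := hg.mono (inf_le_left : V ≤ U)
  have hsV := hs.mono (inf_le_right : V ≤ U')
  rw [Ideal.map_span, Set.image_singleton] at hgV hsV
  obtain ⟨W, j, hxW, hsW⟩ := (hgV V le_rfl (rO (𝔛.Osh hX) inf_le_right s)).1
    (hsV.le (Ideal.mem_span_singleton_self _)) x ⟨hx, hxU'⟩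
  rw [Ideal.map_span, Set.image_singleton, Ideal.mem_span_singleton', rO_rO] at hsW
  obtain ⟨d, hd⟩ := hsW
  obtain ⟨W', j', hxW', haW⟩ := (hsV W j (rO (𝔛.Osh hX) j (rO (𝔛.Osh hX) inf_le_left a))).1
    (K.map_mem j (hgV.le (Ideal.mem_span_singleton_self _))) x hxW
  rw [Ideal.map_span, Set.image_singleton, Ideal.mem_span_singleton', rO_rO, rO_rO, rO_rO] at haW
  obtain ⟨c, hc⟩ := haW
  rw [rO_rO] at hd
  have hd' := congrArg (rO (𝔛.Osh hX) j') hd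
  rw [map_mul, rO_rO, rO_rO] at hd'
  refine ⟨W', (j'.trans j).trans inf_le_left, hxW', fun W'' i t ht => ?_⟩
  refine (rs.mono ((j'.trans j).trans inf_le_right)) W'' i t ?_
  rw [rO_rO] at ht ⊢
  have hd'' := congrArg (rO (𝔛.Osh hX) i) hd'
  simp only [map_mul, rO_rO] at hd''
  rw [← hd'', mul_left_comm, ht, mul_zero]

end Unit

section Base

variable {A : Type u} [CommRing A] {I : Ideal A}

/-- The inverse image of an ideal of the ring along a morphism to the formal spectrum. -/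
theorem genOn_idealMap_spec {𝔜 : FSch.Sys.{u}} (hY : 𝔜.IsFormal) (hX : (FSch.spf A I).IsFormal)
    (g : 𝔜 ⟶ FSch.spf A I) (𝔟 : Ideal A) :
    GenOn (FBlow.idealMap g hY hX (FBlow.schIdealMap (FSch.spf A I) hX (FSch.spfToSpec A I)
      (FSch.spfToSpec_comm A I) (IdealSh.ofData (FSch.idealSpec A 𝔟)))) ⊤ (𝔟.map (bS g hY ⊤)) := by
  have h0 := genOn_schIdealMap hX (FSch.spfToSpec A I) (FSch.spfToSpec_comm A I) 𝔟
  refine (h0.idealMap g hY hX (U := ⊤) (V := ⊤) (fun _ _ => trivial)).congr_ideal ?_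
  rw [Ideal.map_map]
  exact congrArg (Ideal.map · 𝔟) (RingHom.ext fun a =>
    fR_sS g hY hX (FSch.spfToSpec A I) (FSch.spfToSpec_comm A I) (cb g) (cb_comm g) (fun _ => rfl) (W := ⊤)
      (U := ⊤) (V := ⊤) le_top (fun _ _ => trivial) le_top ((Scheme.ΓSpecIso (CommRingCat.of A)).inv a))

/-- The ideal is generated by the element `a` near every point, which stays regular. -/
def GenBy {𝔜 : FSch.Sys.{u}} (hY : 𝔜.IsFormal) (hX : (FSch.spf A I).IsFormal) (𝔞 : Ideal A) (a : A)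
    (g : 𝔜 ⟶ FSch.spf A I) : Prop :=
  GenOn (FBlow.idealMap g hY hX (FBlow.schIdealMap (FSch.spf A I) hX (FSch.spfToSpec A I)
    (FSch.spfToSpec_comm A I) (IdealSh.ofData (FSch.idealSpec A 𝔞)))) ⊤ (Ideal.span {bS g hY ⊤ a}) ∧
  Reg (O := 𝔜.Osh hY) ⊤ (bS g hY ⊤ a)

theorem GenBy.isInvertible {𝔜 : FSch.Sys.{u}} {hY : 𝔜.IsFormal} {hX : (FSch.spf A I).IsFormal} {𝔞 : Ideal A} {a : A}
    {g : 𝔜 ⟶ FSch.spf A I} (h : GenBy hY hX 𝔞 a g) :
    (FBlow.idealMap g hY hX (FBlow.schIdealMap (FSch.spf A I) hX (FSch.spfToSpec A I)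
      (FSch.spfToSpec_comm A I) (IdealSh.ofData (FSch.idealSpec A 𝔞)))).IsInvertible :=
  isInvertible_of_local fun _ => ⟨⊤, _, trivial, h.1, h.2⟩

end Base

section Chart

variable {A B : Type u} [CommRing A] [CommRing B] (ι : A →+* B) {I : Ideal A} (K : Ideal B) (𝔞 : Ideal A) (a : A)

/-- The universal property of a chart: the unique extension of homomorphisms to complete rings in which `a` is a
regular generator of `𝔞`. -/
def IsChart : Prop :=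
  ∀ (C : Type u) [CommRing C] (φ : A →+* C), IsAdicComplete (I.map φ) C → φ a ∈ nonZeroDivisors C →
    𝔞.map φ = Ideal.span {φ a} → ∃! ψ : B →+* C, ψ.comp ι = φ

variable {ι} {K} {𝔞} {a} {hX : (FSch.spf A I).IsFormal} {𝔜 : FSch.Sys.{u}} {hY : 𝔜.IsFormal} {g : 𝔜 ⟶ FSch.spf A I}

theorem GenBy.existsUnique_hom (hI : I.FG) (ha : a ∈ 𝔞) (hB : IsChart ι (I := I) 𝔞 a) (hg : FSch.IsAdicHom g)
    (hgen : GenBy hY hX 𝔞 a g) {V : (𝔜.X 0).Opens} (hV : IsAffineOpen V) :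
    ∃! ψ : B →+* Sec 𝔜 hY V, ψ.comp ι = bS g hY V := by
  have hres : ∀ x : A, resS (le_top : V ≤ ⊤) (bS g hY ⊤ x) = bS g hY V x := fun x => resS_scal (cb g) (cb_comm g) le_top x
  have hreg : Reg (O := 𝔜.Osh hY) V (bS g hY V a) := hres a ▸ hgen.2.mono le_top
  refine hB (Sec 𝔜 hY V) (bS g hY V) (sec_spec g hY hg hV hI).1 (mem_nonZeroDivisors_iff_right.2 fun t ht => ?_) ?_
  · refine hreg V le_rfl t ?_
    rw [rO_self]
    exact ht
  refine le_antisymm (Ideal.map_le_iff_le_comap.2 fun x hx => Ideal.mem_comap.2 ?_) (Ideal.span_le.2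
    (Set.singleton_subset_iff.2 ?_))
  · have hx' := ((genOn_idealMap_spec hY hX g 𝔞).mono (le_top : V ≤ ⊤)).le
      (Ideal.mem_map_of_mem _ (Ideal.mem_map_of_mem _ hx))
    change resS (le_top : V ≤ ⊤) (bS g hY ⊤ x) ∈ _ at hx'
    rw [hres] at hx'
    have h2 := hgen.1.mono (le_top : V ≤ ⊤)
    rw [Ideal.map_span, Set.image_singleton] at h2
    change GenOn _ V (Ideal.span {resS (le_top : V ≤ ⊤) (bS g hY ⊤ a)}) at h2
    rw [hres] at h2
    obtain ⟨q, hq⟩ := exists_eq_mul_of_local hreg le_rfl (bS g hY V x) fun y hy => by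
      obtain ⟨W, j, hyW, hW⟩ := (h2 V le_rfl _).1 hx' y hy
      rw [Ideal.map_span, Set.image_singleton, Ideal.mem_span_singleton'] at hW
      obtain ⟨c, hc⟩ := hW
      exact ⟨W, j, c, hyW, hc.symm⟩
    rw [rO_self] at hq
    exact Ideal.mem_span_singleton'.2 ⟨q, hq.symm⟩
  · exact Ideal.mem_map_of_mem _ ha

include hY in
/-- A compatible family into the chart over an affine open comes from the sections. -/
theorem fam_chart_eq {V : (𝔜.X 0).Opens} (hV : IsAffineOpen V)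
    (m : ∀ k, (𝔜.lvU hY k V).toScheme ⟶ Spec (CommRingCat.of B))
    (hm : ∀ k, (𝔜.ι k).resLE (𝔜.lvU hY (k + 1) V) (𝔜.lvU hY k V) (𝔜.lvU_le hY k V) ≫ m (k + 1) = m k)
    (hme : ∀ k, m k ≫ Spec.map (CommRingCat.ofHom ι) = (𝔜.lvU hY k V).ι ≫ cb g k) :
    ∃ Ψ : B →+* Sec 𝔜 hY V, Ψ.comp ι = bS g hY V ∧ ∀ k, m k = jS hY V k ≫ Spec.map (CommRingCat.ofHom Ψ) := by
  haveI : ∀ k, IsIso (𝔜.lvU hY k V).toSpecΓ := fun k => by
    rw [← IsAffineOpen.isoSpec_hom (isAffineOpen_lvU 𝔜 hY hV k)]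
    infer_instance
  let ψ : ∀ k, CommRingCat.of B ⟶ Γ(𝔜.X k, 𝔜.lvU hY k V) := fun k =>
    Spec.preimage (inv (𝔜.lvU hY k V).toSpecΓ ≫ m k)
  have hψl : ∀ k, (𝔜.lvU hY k V).toSpecΓ ≫ Spec.map (ψ k) = m k := fun k => by
    simp only [ψ, Spec.map_preimage, IsIso.hom_inv_id_assoc]
  have hψ : ∀ k, (tR 𝔜 hY k V).comp (ψ (k + 1)).hom = (ψ k).hom := fun k => by
    suffices ψ (k + 1) ≫ (𝔜.ι k).appLE _ _ (𝔜.lvU_le hY k V) = ψ k from congrArg CommRingCat.Hom.hom this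
    refine Spec.map_injective ?_
    rw [← cancel_epi (𝔜.lvU hY k V).toSpecΓ, hψl k, Spec.map_comp, ← hm k, ← hψl (k + 1)]
    simp only [← Category.assoc]
    rw [resLE_toSpecΓ']
  obtain ⟨Ψ, hΨ⟩ := exists_ringHom_pR V (fun k => (ψ k).hom) hψ
  have hj : ∀ k, jS hY V k ≫ Spec.map (CommRingCat.ofHom Ψ) = m k := fun k => by
    rw [jS, Category.assoc, ← Spec.map_comp]
    have : CommRingCat.ofHom Ψ ≫ CommRingCat.ofHom (pR 𝔜 hY k V) = ψ k := CommRingCat.hom_ext (hΨ k)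
    rw [this]
    exact hψl k
  refine ⟨Ψ, RingHom.ext fun x => pR_ext 𝔜 hY fun k => ?_, fun k => (hj k).symm⟩
  have h1 : jS hY V k ≫ Spec.map (CommRingCat.ofHom (Ψ.comp ι)) =
      jS hY V k ≫ Spec.map (CommRingCat.ofHom (bS g hY V)) := by
    rw [CommRingCat.ofHom_comp, Spec.map_comp, ← Category.assoc, hj, hme, bS, jS_scal]
  rw [jS, Category.assoc, Category.assoc, cancel_epi, ← Spec.map_comp, ← Spec.map_comp] at h1
  exact ConcreteCategory.congr_hom (Spec.map_injective h1) x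

variable (hI : I.FG) (ha : a ∈ 𝔞) (hB : IsChart ι (I := I) 𝔞 a) (hg : FSch.IsAdicHom g)
  (hgen : GenBy hY hX 𝔞 a g)

include hI ha hB hg hgen in
theorem fam_chart_ext {V : (𝔜.X 0).Opens} (m m' : ∀ k, (𝔜.lvU hY k V).toScheme ⟶ Spec (CommRingCat.of B))
    (hm : ∀ k, (𝔜.ι k).resLE (𝔜.lvU hY (k + 1) V) (𝔜.lvU hY k V) (𝔜.lvU_le hY k V) ≫ m (k + 1) = m k)
    (hm' : ∀ k, (𝔜.ι k).resLE (𝔜.lvU hY (k + 1) V) (𝔜.lvU hY k V) (𝔜.lvU_le hY k V) ≫ m' (k + 1) = m' k)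
    (hme : ∀ k, m k ≫ Spec.map (CommRingCat.ofHom ι) = (𝔜.lvU hY k V).ι ≫ cb g k)
    (hme' : ∀ k, m' k ≫ Spec.map (CommRingCat.ofHom ι) = (𝔜.lvU hY k V).ι ≫ cb g k) (n : ℕ) :
    m n = m' n := by
  let κ := {V' : (𝔜.X 0).Opens // IsAffineOpen V' ∧ V' ≤ V}
  have hloc : ∀ V' : κ, (𝔜.X n).homOfLE (FBlow.lvU_mono 𝔜 hY n V'.2.2) ≫ m n =
      (𝔜.X n).homOfLE (FBlow.lvU_mono 𝔜 hY n V'.2.2) ≫ m' n := fun V' => by
    obtain ⟨Ψ₁, e₁, h₁⟩ := fam_chart_eq (ι := ι) (g := g) V'.2.1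
      (fun k => (𝔜.X k).homOfLE (FBlow.lvU_mono 𝔜 hY k V'.2.2) ≫ m k)
      (fun k => by rw [← Category.assoc, resLE_homOfLE k V'.2.2, Category.assoc, hm])
      (fun k => by rw [Category.assoc, hme, ← Category.assoc, Scheme.homOfLE_ι])
    obtain ⟨Ψ₂, e₂, h₂⟩ := fam_chart_eq (ι := ι) (g := g) V'.2.1
      (fun k => (𝔜.X k).homOfLE (FBlow.lvU_mono 𝔜 hY k V'.2.2) ≫ m' k)
      (fun k => by rw [← Category.assoc, resLE_homOfLE k V'.2.2, Category.assoc, hm'])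
      (fun k => by rw [Category.assoc, hme', ← Category.assoc, Scheme.homOfLE_ι])
    rw [h₁ n, h₂ n, (hgen.existsUnique_hom hI ha hB hg V'.2.1).unique e₁ e₂]
  refine hom_ext_opens (fun V' : κ => (𝔜.lvU hY n V).ι ⁻¹ᵁ 𝔜.lvU hY n V'.1) (fun y => ?_) fun V' => ?_
  · obtain ⟨_, ⟨W, hW, rfl⟩, hyW, hle⟩ := (𝔜.X 0).isBasis_affineOpens.exists_subset_of_mem_open
      (cover_lvU y) V.2
    exact ⟨⟨W, hW, hle⟩, hyW⟩
  have hcov : ∀ z : ((𝔜.lvU hY n V).ι ⁻¹ᵁ 𝔜.lvU hY n V'.1 : (𝔜.lvU hY n V).toScheme.Opens).toScheme,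
      (((𝔜.lvU hY n V).ι ⁻¹ᵁ 𝔜.lvU hY n V'.1).ι ≫ (𝔜.lvU hY n V).ι) z ∈ 𝔜.lvU hY n V'.1 := fun z => z.2
  let l := IsOpenImmersion.lift (𝔜.lvU hY n V'.1).ι
    (((𝔜.lvU hY n V).ι ⁻¹ᵁ 𝔜.lvU hY n V'.1).ι ≫ (𝔜.lvU hY n V).ι) (by
      rw [Scheme.Opens.range_ι]
      rintro _ ⟨z, rfl⟩
      exact hcov z)
  have hl : l ≫ (𝔜.X n).homOfLE (FBlow.lvU_mono 𝔜 hY n V'.2.2) = ((𝔜.lvU hY n V).ι ⁻¹ᵁ 𝔜.lvU hY n V'.1).ι := by
    rw [← cancel_mono (𝔜.lvU hY n V).ι, Category.assoc, Scheme.homOfLE_ι]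
    exact IsOpenImmersion.lift_fac _ _ _
  rw [← hl, Category.assoc, Category.assoc, hloc V']

include hI ha hB hg hgen in
/-- Systems in which `a` generates regularly map uniquely to the chart. -/
theorem existsUnique_lift_chart (hK : I.map ι = K) (hle : I ≤ K.comap ι) :
    ∃! m : 𝔜 ⟶ FSch.spf B K, m ≫ FSch.spfMap K I ι hle = g := by
  have hsq := isPullback_spfMap ι hK hle
  let κ := {V : (𝔜.X 0).Opens // IsAffineOpen V}
  choose ψ hψ using fun V : κ => (hgen.existsUnique_hom hI ha hB hg V.2).exists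
  have hcov : ∀ (k : ℕ) (y : 𝔜.X k), ∃ V : κ, y ∈ 𝔜.lvU hY k V.1 := fun k y => by
    obtain ⟨_, ⟨V, hV, rfl⟩, hyV, -⟩ := (𝔜.X 0).isBasis_affineOpens.exists_subset_of_mem_open
      (Set.mem_univ (𝔜.gInv hY k y)) isOpen_univ
    exact ⟨⟨V, hV⟩, hyV⟩
  have hglue : ∀ k, ∃ M : 𝔜.X k ⟶ Spec (CommRingCat.of B), ∀ V : κ,
      (𝔜.lvU hY k V.1).ι ≫ M = jS hY V.1 k ≫ Spec.map (CommRingCat.ofHom (ψ V)) := by
    intro k
    refine exists_glue_opens (fun V : κ => 𝔜.lvU hY k V.1) (hcov k) _ fun V V' => ?_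
    refine fam_chart_ext hI ha hB hg hgen
      (fun j => (𝔜.X j).homOfLE (FBlow.lvU_mono 𝔜 hY j (inf_le_left : V.1 ⊓ V'.1 ≤ V.1)) ≫
        jS hY V.1 j ≫ Spec.map (CommRingCat.ofHom (ψ V)))
      (fun j => (𝔜.X j).homOfLE (FBlow.lvU_mono 𝔜 hY j (inf_le_right : V.1 ⊓ V'.1 ≤ V'.1)) ≫
        jS hY V'.1 j ≫ Spec.map (CommRingCat.ofHom (ψ V'))) (fun j => ?_) (fun j => ?_) (fun j => ?_) (fun j => ?_) k
    · rw [← Category.assoc, resLE_homOfLE j (inf_le_left : V.1 ⊓ V'.1 ≤ V.1), Category.assoc, ← Category.assoc _ (jS hY V.1 (j + 1)), resLE_jS]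
    · rw [← Category.assoc, resLE_homOfLE j (inf_le_right : V.1 ⊓ V'.1 ≤ V'.1), Category.assoc, ← Category.assoc _ (jS hY V'.1 (j + 1)), resLE_jS]
    · rw [Category.assoc, Category.assoc, ← Spec.map_comp, ← CommRingCat.ofHom_comp, hψ, bS, jS_scal,
        ← Category.assoc, Scheme.homOfLE_ι]
    · rw [Category.assoc, Category.assoc, ← Spec.map_comp, ← CommRingCat.ofHom_comp, hψ, bS, jS_scal,
        ← Category.assoc, Scheme.homOfLE_ι]
  choose M hM using hglue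
  have hMι : ∀ k, 𝔜.ι k ≫ M (k + 1) = M k := fun k =>
    hom_ext_opens (fun V : κ => 𝔜.lvU hY k V.1) (hcov k) fun V => by
      rw [hM, ← Category.assoc, ← Scheme.Hom.resLE_comp_ι (𝔜.ι k) (𝔜.lvU_le hY k V.1), Category.assoc, hM,
        ← Category.assoc, resLE_jS]
  have hMe : ∀ k, M k ≫ Spec.map (CommRingCat.ofHom ι) = cb g k := fun k =>
    hom_ext_opens (fun V : κ => 𝔜.lvU hY k V.1) (hcov k) fun V => by
      rw [← Category.assoc, hM, Category.assoc, ← Spec.map_comp, ← CommRingCat.ofHom_comp, hψ, bS, jS_scal]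
  let m : 𝔜 ⟶ FSch.spf B K := ⟨fun k => (hsq k).lift (M k) ((g : FSch.Hom 𝔜 _).app k) (hMe k), fun k => by
    refine (hsq (k + 1)).hom_ext ?_ ?_
    · rw [Category.assoc, FSch.spfToSpec_comm, (hsq k).lift_fst, Category.assoc, (hsq (k + 1)).lift_fst, hMι]
    · rw [Category.assoc, ← (FSch.spfMap K I ι hle : FSch.Hom _ _).comm k, ← Category.assoc, (hsq k).lift_snd,
        Category.assoc, (hsq (k + 1)).lift_snd, (g : FSch.Hom 𝔜 _).comm k]⟩
  refine ⟨m, FSch.Hom.ext (funext fun k => (hsq k).lift_snd _ _ _), fun m' hm' => ?_⟩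
  refine FSch.Hom.ext (funext fun k => (hsq k).hom_ext ?_ ?_)
  · rw [show (m : FSch.Hom 𝔜 _).app k = (hsq k).lift (M k) _ (hMe k) from rfl, (hsq k).lift_fst]
    have hw : ∀ j, (m' : FSch.Hom 𝔜 _).app j ≫ (FSch.spfMap K I ι hle : FSch.Hom _ _).app j = (g : FSch.Hom 𝔜 _).app j :=
      fun j => congrArg (fun φ : 𝔜 ⟶ FSch.spf A I => (φ : FSch.Hom 𝔜 _).app j) hm'
    refine hom_ext_opens (fun _ : PUnit.{u + 1} => 𝔜.lvU hY k ⊤) (fun y => ⟨PUnit.unit, trivial⟩) fun _ => ?_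
    refine fam_chart_ext hI ha hB hg hgen
      (fun j => (𝔜.lvU hY j ⊤).ι ≫ (m' : FSch.Hom 𝔜 _).app j ≫ FSch.spfToSpec B K j)
      (fun j => (𝔜.lvU hY j ⊤).ι ≫ M j) (fun j => ?_) (fun j => ?_) (fun j => ?_) (fun j => ?_) k
    · rw [← Category.assoc, Scheme.Hom.resLE_comp_ι, Category.assoc, ← Category.assoc (𝔜.ι j),
        ← (m' : FSch.Hom 𝔜 _).comm j, Category.assoc, FSch.spfToSpec_comm]
    · rw [← Category.assoc, Scheme.Hom.resLE_comp_ι, Category.assoc, hMι]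
    · rw [Category.assoc, Category.assoc, (hsq j).w, ← Category.assoc ((m' : FSch.Hom 𝔜 _).app j), hw]
      rfl
    · rw [Category.assoc, hMe]
  · rw [show (m : FSch.Hom 𝔜 _).app k = (hsq k).lift (M k) _ (hMe k) from rfl, (hsq k).lift_snd]
    exact congrArg (fun φ : 𝔜 ⟶ FSch.spf A I => (φ : FSch.Hom 𝔜 _).app k) hm'

/-- The chart itself: `a` generates regularly. -/
theorem genBy_spfMap (hX : (FSch.spf A I).IsFormal) (hB' : (FSch.spf B K).IsFormal) (hK : I.map ι = K) (hle : I ≤ K.comap ι)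
    (hflat : ∀ W : (Spec (CommRingCat.of B)).affineOpens,
      Module.Flat Γ(Spec (CommRingCat.of B), W.1)
        (AdicCompletion ((FSch.idealSpec B K).ideal W) Γ(Spec (CommRingCat.of B), W.1)))
    (hnzd : ι a ∈ nonZeroDivisors B) (hgen : 𝔞.map ι = Ideal.span {ι a}) :
    GenBy hB' hX 𝔞 a (FSch.spfMap K I ι hle) := by
  have hsq := isPullback_spfMap ι hK hle
  have hbS : ∀ x : A, bS (FSch.spfMap K I ι hle) hB' ⊤ x =
      scal hB' (FSch.spfToSpec B K) (FSch.spfToSpec_comm B K) ⊤ (ι x) := fun x => by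
    have e := sS_comp (hY := hB') (FSch.spfToSpec B K) (FSch.spfToSpec_comm B K) (Spec.map (CommRingCat.ofHom ι))
      (cb (FSch.spfMap K I ι hle)) (cb_comm (FSch.spfMap K I ι hle)) (fun k => (hsq k).w) (W := ⊤) (W' := ⊤)
      (V := ⊤) le_top le_top le_top ((Scheme.ΓSpecIso (CommRingCat.of A)).inv x)
    rw [specMap_appLE (A := CommRingCat.of A) (B := CommRingCat.of B) (CommRingCat.ofHom ι)] at e
    exact e
  refine ⟨(genOn_idealMap_spec hB' hX _ 𝔞).congr_ideal ?_, ?_⟩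
  · have e : bS (FSch.spfMap K I ι hle) hB' ⊤ =
        (scal hB' (FSch.spfToSpec B K) (FSch.spfToSpec_comm B K) ⊤).comp ι := RingHom.ext hbS
    rw [e, ← Ideal.map_map, hgen, Ideal.map_span, Set.image_singleton]
    rfl
  rw [hbS]
  refine reg_sS (hd := FSch.spfToSpec_comm B K) (h := hB') hflat (isThick_spf B K) ⟨⊤, isAffineOpen_top _⟩
    fun W' w => Groth.L22.Ideals.map_mem_nonZeroDivisors (U := ⟨⊤, isAffineOpen_top _⟩) w ?_
  refine mem_nonZeroDivisors_iff_right.2 fun t ht => ?_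
  let ee := (Scheme.ΓSpecIso (CommRingCat.of B)).commRingCatIsoToRingEquiv
  refine ee.injective ?_
  rw [map_zero]
  refine (mem_nonZeroDivisors_iff_right.1 hnzd) _ ?_
  have h1 := congrArg ee ht
  rw [map_mul, map_zero] at h1
  rwa [show ee ((Scheme.ΓSpecIso (CommRingCat.of B)).inv (ι a)) = ι a from ee.apply_symm_apply _] at h1

end Chart

end Groth.L20.FBlow
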