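import Groth.Agent.L20.FBlow.Exists
import Mathlib.RingTheory.LocalProperties.Submodule

/-!
# Locally finitely generated ideal sheaves are quasi-coherent; recognising coherent open ideals
-/

set_option autoImplicit false
set_option linter.style.haveILetI false
set_option linter.unusedSectionVars false
set_option backward.isDefEq.respectTransparency false
set_option backward.isDefEq.respectTransparency.types false

universe u

open CategoryTheory CategoryTheory.Limits AlgebraicGeometry TopologicalSpace Opposite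

noncomputable section

namespace Groth.L20.FBlow

open _root_.FBlow Groth.L17.FSheaf

section Scheme

variable {X : Scheme.{u}} {K : IdealSh X.sheaf}

/-- On an affine open local membership in an ideal is membership. -/
theorem mem_of_local_affine {U : X.Opens} (hU : IsAffineOpen U) {N : Ideal Γ(X, U)} (t : Γ(X, U))
    (ht : ∀ x ∈ U, ∃ (W : X.Opens) (j : W ≤ U), x ∈ W ∧ rO X.sheaf j t ∈ N.map (rO X.sheaf j)) : t ∈ N := by
  classical
  let Q : Ideal Γ(X, U) :=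
    { carrier := {g | g * t ∈ N}
      add_mem' := fun {a b} ha hb => by show (a + b) * t ∈ N; rw [add_mul]; exact N.add_mem ha hb
      zero_mem' := by show (0 : Γ(X, U)) * t ∈ N; rw [zero_mul]; exact N.zero_mem
      smul_mem' := fun c a ha => by show c * a * t ∈ N; rw [mul_assoc]; exact N.mul_mem_left c ha }
  suffices h : Q = ⊤ by
    have h1 : (1 : Γ(X, U)) ∈ Q := h ▸ Submodule.mem_top
    simpa [Q] using h1
  rw [← Ideal.span_eq Q]
  refine hU.iSup_basicOpen_eq_self_iff.1 (le_antisymm (iSup_le fun f => X.basicOpen_le _) fun x hx => ?_)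
  obtain ⟨W, j, hxW, hW⟩ := ht x hx
  obtain ⟨g, hgW, hxg⟩ := hU.exists_basicOpen_le ⟨x, hxW⟩ hx
  haveI := hU.isLocalization_basicOpen g
  have h2 := Ideal.mem_map_of_mem (rO X.sheaf hgW) hW
  rw [map_rO, rO_rO] at h2
  obtain ⟨⟨⟨a, ha⟩, ⟨_, m, rfl⟩⟩, he⟩ :=
    (IsLocalization.mem_map_algebraMap_iff (Submonoid.powers g) Γ(X, X.basicOpen g)).1 h2
  have he' : algebraMap Γ(X, U) Γ(X, X.basicOpen g) (t * g ^ m) = algebraMap Γ(X, U) Γ(X, X.basicOpen g) a := by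
    rw [map_mul]
    exact he
  obtain ⟨⟨_, l, rfl⟩, hl⟩ := (IsLocalization.eq_iff_exists (Submonoid.powers g) Γ(X, X.basicOpen g)).1 he'
  have hmem : g ^ (l + m + 1) ∈ Q := by
    show g ^ (l + m + 1) * t ∈ N
    have e : g ^ (l + m + 1) * t = g * (g ^ l * (t * g ^ m)) := by ring
    rw [e]
    refine N.mul_mem_left g ?_
    change g ^ l * (t * g ^ m) = g ^ l * a at hl
    rw [hl]
    exact N.mul_mem_left _ ha
  refine Opens.mem_iSup.2 ⟨⟨g ^ (l + m + 1), hmem⟩, ?_⟩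
  show x ∈ X.basicOpen (g ^ (l + m + 1))
  rwa [Scheme.basicOpen_pow _ _ (by omega)]

theorem sect_eq_of_genOn {U : X.Opens} (hU : IsAffineOpen U) {N : Ideal Γ(X, U)}
    (hg : GenOn (O := X.sheaf) K U N) : K.sect U = N :=
  le_antisymm (fun t ht => mem_of_local_affine hU t ((hg U le_rfl t).1 ht)) hg.le

/-- Locally finitely generated ideal sheaves. -/
def LocFG (K : IdealSh X.sheaf) : Prop :=
  ∀ x : X, ∃ (U : X.Opens) (N : Ideal Γ(X, U)), x ∈ U ∧ IsAffineOpen U ∧ N.FG ∧ GenOn (O := X.sheaf) K U N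

theorem exists_basic_cover (hK : LocFG K) {W : X.Opens} (hW : IsAffineOpen W) :
    ∃ S : Finset Γ(X, W), Ideal.span (↑S : Set Γ(X, W)) = ⊤ ∧ ∀ g ∈ S, ∃ N : Ideal Γ(X, X.basicOpen g),
      N.FG ∧ GenOn (O := X.sheaf) K (X.basicOpen g) N := by
  let T : Set Γ(X, W) := {g | ∃ N : Ideal Γ(X, X.basicOpen g), N.FG ∧ GenOn (O := X.sheaf) K (X.basicOpen g) N}
  have hT : Ideal.span T = ⊤ := by
    refine hW.iSup_basicOpen_eq_self_iff.1 (le_antisymm (iSup_le fun f => X.basicOpen_le _) fun x hx => ?_)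
    obtain ⟨U, N, hxU, hU, hN, hg⟩ := hK x
    obtain ⟨g, hgle, hxg⟩ := hW.exists_basicOpen_le (V := W ⊓ U) ⟨x, ⟨hx, hxU⟩⟩ hx
    have hgU : X.basicOpen g ≤ U := fun y hy => (hgle hy).2
    exact Opens.mem_iSup.2 ⟨⟨g, N.map (rO X.sheaf hgU), hN.map _, hg.mono hgU⟩, hxg⟩
  obtain ⟨S, hS, hS'⟩ := Submodule.mem_span_finite_of_mem_span (hT ▸ Submodule.mem_top : (1 : Γ(X, W)) ∈ Ideal.span T)
  exact ⟨S, (Ideal.eq_top_iff_one _).2 hS', fun g hg => hS hg⟩

theorem map_sect_basicOpen (hK : LocFG K) {W : X.Opens} (hW : IsAffineOpen W) (f : Γ(X, W)) :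
    (K.sect W).map (rO X.sheaf (X.basicOpen_le f)) = K.sect (X.basicOpen f) := by
  classical
  refine le_antisymm (Ideal.map_le_iff_le_comap.2 fun a ha => K.map_mem _ ha) fun (s : Γ(X, X.basicOpen f)) hs => ?_
  haveI := hW.isLocalization_basicOpen f
  obtain ⟨S, hS, hN⟩ := exists_basic_cover hK hW
  obtain ⟨⟨a, ⟨_, k, rfl⟩⟩, hak⟩ := IsLocalization.surj (Submonoid.powers f) (S := Γ(X, X.basicOpen f)) s
  have hloc : ∀ g ∈ S, ∃ m : ℕ, ∀ m' ≥ m, rO X.sheaf (X.basicOpen_le g) (f ^ m' * a) ∈ K.sect (X.basicOpen g) := by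
    intro g hg
    obtain ⟨N, -, hgen⟩ := hN g hg
    have hDaff : IsAffineOpen (X.basicOpen g) := hW.basicOpen g
    let D' := X.basicOpen (rO X.sheaf (X.basicOpen_le g) f)
    have hD'g : D' ≤ X.basicOpen g := X.basicOpen_le _
    have hD'f : D' ≤ X.basicOpen f := (X.basicOpen_res f (homOfLE (X.basicOpen_le g)).op).le.trans inf_le_right
    haveI := hDaff.isLocalization_basicOpen (rO X.sheaf (X.basicOpen_le g) f)
    have h1 : rO X.sheaf (hD'f.trans (X.basicOpen_le f)) a ∈ K.sect D' := by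
      have h0 : rO X.sheaf (X.basicOpen_le f) a ∈ K.sect (X.basicOpen f) := by
        change s * algebraMap Γ(X, W) Γ(X, X.basicOpen f) (f ^ k) = algebraMap Γ(X, W) Γ(X, X.basicOpen f) a at hak
        show algebraMap Γ(X, W) Γ(X, X.basicOpen f) a ∈ _
        rw [← hak]
        exact Ideal.mul_mem_right _ _ hs
      have := K.map_mem hD'f h0
      change rO X.sheaf hD'f _ ∈ _ at this
      rwa [rO_rO] at this
    rw [sect_eq_of_genOn (hDaff.basicOpen _) (hgen.mono hD'g)] at h1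
    rw [← rO_rO (O := X.sheaf) (X.basicOpen_le g) hD'g a] at h1
    obtain ⟨⟨⟨b, hb⟩, ⟨_, m, rfl⟩⟩, hbm⟩ :=
      (IsLocalization.mem_map_algebraMap_iff (R := Γ(X, X.basicOpen g))
        (Submonoid.powers (rO X.sheaf (X.basicOpen_le g) f : Γ(X, X.basicOpen g))) Γ(X, D') (I := N)).1 h1
    have he' : algebraMap Γ(X, X.basicOpen g) Γ(X, D') (rO X.sheaf (X.basicOpen_le g) a *
        rO X.sheaf (X.basicOpen_le g) f ^ m) = algebraMap Γ(X, X.basicOpen g) Γ(X, D') b := by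
      rw [map_mul]
      exact hbm
    obtain ⟨⟨_, l, rfl⟩, hl⟩ :=
      (IsLocalization.eq_iff_exists (R := Γ(X, X.basicOpen g))
        (Submonoid.powers (rO X.sheaf (X.basicOpen_le g) f : Γ(X, X.basicOpen g))) Γ(X, D')).1 he'
    refine ⟨l + m, fun m' hm' => ?_⟩
    rw [sect_eq_of_genOn hDaff hgen, map_mul, map_pow, ← Nat.sub_add_cancel hm', pow_add, mul_assoc]
    refine N.mul_mem_left _ ?_
    change _ ^ l * (_ * _ ^ m) = _ ^ l * b at hl
    rw [pow_add, mul_assoc, mul_comm (_ ^ m), hl]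
    exact N.mul_mem_left _ hb
  choose! m hm using hloc
  let M := S.sup m
  have hMa : f ^ M * a ∈ K.sect W := by
    refine K.mem_of_local fun x hx => ?_
    obtain ⟨g, hg⟩ := Opens.mem_iSup.1 ((hW.iSup_basicOpen_eq_self_iff.2 hS).ge hx)
    exact ⟨X.basicOpen g.1, X.basicOpen_le _, hg, hm g.1 g.2 M (Finset.le_sup g.2)⟩
  refine (IsLocalization.mem_map_algebraMap_iff (Submonoid.powers f) Γ(X, X.basicOpen f)).2
    ⟨⟨⟨f ^ M * a, hMa⟩, ⟨f ^ (M + k), M + k, rfl⟩⟩, ?_⟩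
  change s * algebraMap Γ(X, W) Γ(X, X.basicOpen f) (f ^ k) = algebraMap Γ(X, W) Γ(X, X.basicOpen f) a at hak
  show s * algebraMap Γ(X, W) Γ(X, X.basicOpen f) (f ^ (M + k)) =
    algebraMap Γ(X, W) Γ(X, X.basicOpen f) (f ^ M * a)
  rw [pow_add, map_mul, map_mul, ← hak, mul_left_comm]

/-- A locally finitely generated ideal sheaf is given by quasi-coherent data of finite type. -/
theorem exists_ofData (hK : LocFG K) :
    ∃ 𝒜 : X.IdealSheafData, FSch.IdealFT 𝒜 ∧ IdealSh.ofData 𝒜 = K := by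
  classical
  let 𝒜 : X.IdealSheafData :=
    { ideal := fun W => K.sect W.1
      map_ideal_basicOpen := fun W f => map_sect_basicOpen hK W.2 f }
  refine ⟨𝒜, fun W => ?_, IdealSh.ext (funext fun U => Ideal.ext fun t => ⟨fun ht => ?_, fun ht => ?_⟩)⟩
  · obtain ⟨S, hS, hN⟩ := exists_basic_cover hK W.2
    refine Ideal.fg_of_localizationSpan (↑S : Set Γ(X, W.1)) ?_ fun g => ?_
    · exact hS
    · obtain ⟨N, hNfg, hgen⟩ := hN g.1 g.2
      haveI := W.2.isLocalization_basicOpen g.1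
      let e := IsLocalization.algEquiv (Submonoid.powers g.1) (Localization.Away g.1) Γ(X, X.basicOpen g.1)
      have h1 : ((𝒜.ideal W).map (algebraMap Γ(X, W.1) (Localization.Away g.1))) =
          N.map (e.symm : Γ(X, X.basicOpen g.1) →+* Localization.Away g.1) := by
        rw [← sect_eq_of_genOn (W.2.basicOpen g.1) hgen, ← map_sect_basicOpen hK W.2 g.1, Ideal.map_map]
        exact congrArg (Ideal.map · (K.sect W.1)) (RingHom.ext fun a => (e.symm.commutes a).symm)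
      rw [h1]
      exact hNfg.map _
  · refine K.mem_of_local fun x hx => ?_
    obtain ⟨V, i, hxV, hV⟩ := ht x hx
    exact ⟨V.1, i, hxV, hV⟩
  · intro x hx
    obtain ⟨_, ⟨V, hV, rfl⟩, hxV, hVU⟩ := X.isBasis_affineOpens.exists_subset_of_mem_open hx U.2
    exact ⟨⟨V, hV⟩, hVU, hxV, K.map_mem hVU ht⟩

end Scheme

variable {R : Type u} [CommRing R] {I : Ideal R} {𝔛 : FSch.Sys.{u}} {p : 𝔛 ⟶ FSch.spf R I} {h : 𝔛.IsFormal}

/-- Ideals with good opens everywhere are coherent open ideals. -/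
theorem isCohOpen_of_good (hR : AdicRing.IsBase R I) (hp : FSch.IsAdicHom p) {J : IdealSh (𝔛.Osh h)}
    (hJ : ∀ x : 𝔛.X 0, ∃ U : (𝔛.X 0).Opens, x ∈ U ∧ Good p J U) : FBlow.IsCohOpen 𝔛 h J := by
  intro x
  obtain ⟨U, hxU, hUa, 𝔞, hfg, ⟨n, hn⟩, hg⟩ := hJ x
  let S : ∀ W : (𝔛.X n).Opens, Set Γ(𝔛.X n, W) := fun W =>
    {t | ∃ (V : (𝔛.X 0).Opens) (j : W ≤ 𝔛.lvU h n V) (a : Sec 𝔛 h V), a ∈ J.sect V ∧
      t = rO (𝔛.X n).sheaf j (pR 𝔛 h n V a)}
  have hgen : ∀ (V : (𝔛.X 0).Opens) (N : Ideal (Sec 𝔛 h V)), GenOn J V N →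
      GenOn (O := (𝔛.X n).sheaf) (IdealSh.gen (O := (𝔛.X n).sheaf) S) (𝔛.lvU h n V) (N.map (pR 𝔛 h n V)) := by
    intro V N hN
    refine genOn_gen (Ideal.map_le_iff_le_comap.2 fun a ha => ?_) ?_
    · exact IdealSh.subset_gen (O := (𝔛.X n).sheaf) S _ ⟨V, le_rfl, a, hN.le ha, (rO_self (O := (𝔛.X n).sheaf) le_rfl _).symm⟩
    · rintro W _ ⟨V₀, j, a, ha, rfl⟩ y hyV hyW
      obtain ⟨V₁, j₁, hy₁, e₁⟩ := (hN (V₀ ⊓ V) inf_le_right _).1 (J.map_mem inf_le_left ha) (𝔛.gInv h n y)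
        ⟨j hyW, hyV⟩
      refine ⟨W ⊓ 𝔛.lvU h n V₁, inf_le_right.trans fun z hz => (j₁ hz).2, inf_le_left, ⟨hyW, hy₁⟩, ?_⟩
      have e2 := Ideal.mem_map_of_mem (pR 𝔛 h n V₁) e₁
      rw [Ideal.map_map] at e2
      have e3 := Ideal.mem_map_of_mem (rO (𝔛.X n).sheaf (inf_le_right : W ⊓ 𝔛.lvU h n V₁ ≤ 𝔛.lvU h n V₁)) e2
      rw [Ideal.map_map] at e3
      change rO (𝔛.X n).sheaf _ (pR 𝔛 h n V₁ (rO (𝔛.Osh h) j₁ (rO (𝔛.Osh h) inf_le_left a))) ∈ _ at e3
      rw [rO_rO, pR_resS] at e3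
      change rO (𝔛.X n).sheaf _ (rO (𝔛.X n).sheaf _ _) ∈ _ at e3
      rw [rO_rO] at e3
      show rO (𝔛.X n).sheaf inf_le_left (rO (𝔛.X n).sheaf j _) ∈ _
      rw [rO_rO, Ideal.map_map]
      refine Eq.mp (congrArg (_ ∈ ·) (congrArg (Ideal.map · N) (RingHom.ext fun b => ?_))) e3
      show rO (𝔛.X n).sheaf _ (pR 𝔛 h n V₁ (rO (𝔛.Osh h) _ b)) = rO (𝔛.X n).sheaf _ (pR 𝔛 h n V b)
      rw [pR_resS]
      exact rO_rO (O := (𝔛.X n).sheaf) _ _ _
  have hLF : LocFG (IdealSh.gen (O := (𝔛.X n).sheaf) S) := fun y => by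
    obtain ⟨V, hyV, hVa, 𝔟, h𝔟, -, hV⟩ := hJ (𝔛.gInv h n y)
    exact ⟨_, _, hyV, isAffineOpen_lvU 𝔛 h hVa n, h𝔟.map _, hgen V 𝔟 hV⟩
  obtain ⟨𝒜, hFT, h𝒜⟩ := exists_ofData hLF
  refine ⟨U, hxU, n, 𝒜, hFT, fun V hV => ?_⟩
  have hideal : 𝒜.ideal ⟨𝔛.lvU h n U, isAffineOpen_lvU 𝔛 h hUa n⟩ = 𝔞.map (pR 𝔛 h n U) := by
    rw [← sect_eq_of_genOn (isAffineOpen_lvU 𝔛 h hUa n) (hgen U 𝔞 hg), ← h𝒜]
    exact (sect_eq_of_genOn (isAffineOpen_lvU 𝔛 h hUa n)
      (genOn_ofData 𝒜 ⟨_, isAffineOpen_lvU 𝔛 h hUa n⟩)).symm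
  refine hg.sect_eq ((genOn_ofLevel p hp (isBase_fg hR) hUa n 𝒜).congr_ideal ?_) hV
  rw [hideal, Ideal.comap_map_of_surjective _ (pR_surjective 𝔛 h hUa n)]
  refine sup_eq_left.2 ?_
  rw [← RingHom.ker_eq_comap_bot, ker_pR_eq p hp (isBase_fg hR) hUa n]
  exact (Ideal.map_mono (Ideal.pow_le_pow_right (Nat.le_succ n))).trans hn

end Groth.L20.FBlow
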