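import Groth.Agent.L20.FBlow.CompPiece

/-!
# A composite of admissible formal blow-ups of a quasi-compact quasi-separated system is one
-/

set_option autoImplicit false
set_option linter.style.haveILetI false
set_option linter.unusedSectionVars false
set_option backward.isDefEq.respectTransparency false
set_option backward.isDefEq.respectTransparency.types false

universe u

open CategoryTheory CategoryTheory.Limits AlgebraicGeometry TopologicalSpace Opposite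

noncomputable section

namespace Groth.L20.FBlow

open _root_.FBlow Groth.L17.FSheaf

/-- A section lands in a push forward when it does on affine opens covering the inverse image. -/
theorem mem_ideal_map {X Y : Scheme.{u}} (f : Y ⟶ X) [QuasiCompact f] (M : Y.IdealSheafData) (U : X.affineOpens)
    (y : Γ(X, U.1)) (H : ∀ z ∈ f ⁻¹ᵁ U.1, ∃ (V : Y.affineOpens) (e : V.1 ≤ f ⁻¹ᵁ U.1),
      z ∈ V.1 ∧ (f.appLE U.1 V.1 e).hom y ∈ M.ideal V) :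
    y ∈ (M.map f).ideal U := by
  show y ∈ (M.subschemeι ≫ f).ker.ideal U
  rw [Scheme.Hom.ker_apply, RingHom.mem_ker]
  apply M.subscheme.IsSheaf.section_ext
  intro t ht
  obtain ⟨V, e, hzV, hV⟩ := H (M.subschemeι t) ht
  refine ⟨M.subschemeι ⁻¹ᵁ V.1, fun x hx => e hx, hzV, ?_⟩
  rw [← M.ker_subschemeι_app V, RingHom.mem_ker] at hV
  rw [map_zero]
  refine Eq.trans ?_ hV
  show ((M.subschemeι ≫ f).app U.1 ≫ M.subscheme.presheaf.map _) y =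
    (f.appLE U.1 V.1 e ≫ M.subschemeι.app V.1) y
  congr 2
  simp only [Scheme.Hom.comp_app, Scheme.Hom.appLE, Category.assoc, Scheme.Hom.naturality]
  rfl

variable {R : Type u} [CommRing R] {I : Ideal R} {𝔛 : FSch.Sys.{u}} {p : 𝔛 ⟶ FSch.spf R I} {h : 𝔛.IsFormal}
  {𝔛' : FSch.Sys.{u}} {h' : 𝔛'.IsFormal} {b : 𝔛' ⟶ 𝔛}

theorem isCohOpen_twist (hR : AdicRing.IsBase R I) (hp : FSch.IsAdicHom p) {K L : IdealSh (𝔛.Osh h)}
    (hK : FBlow.IsCohOpen 𝔛 h K) (hL : FBlow.IsCohOpen 𝔛 h L) : ∀ n, FBlow.IsCohOpen 𝔛 h (twist K L n)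
  | 0 => hK
  | n + 1 => isCohOpen_mul hR hp (isCohOpen_twist hR hp hK hL n) hL

/-- Blow-ups of good opens are quasi-compact on every level. -/
theorem quasiCompact_app (hR : AdicRing.IsBase R I) (hp : FSch.IsAdicHom p)
    (hfp : ∀ n, LocallyOfFinitePresentation ((p : FSch.Hom 𝔛 (FSch.spf R I)).app n))
    {J : IdealSh (𝔛.Osh h)} (hJ : FBlow.IsCohOpen 𝔛 h J) (hb : FBlow.IsAdmBlowUp b h' h J) (n : ℕ) :
    QuasiCompact ((b : FSch.Hom 𝔛' 𝔛).app n) := by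
  refine (IsZariskiLocalAtTarget.iff_of_iSup_eq_top (P := @QuasiCompact)
    (fun U : {U : (𝔛.X 0).Opens // Good p J U} => 𝔛.lvU h n U.1) (eq_top_iff.2 fun x _ => ?_)).2 fun U => ?_
  · obtain ⟨U, hxU, -, hU⟩ := exists_good p hp (isBase_fg hR) hJ (𝔛.gInv h n x) ⊤ trivial
    exact Opens.mem_iSup.2 ⟨⟨U, hU⟩, hxU⟩
  · obtain ⟨𝔅, hB, bU, k, 𝔞, P, q, d, hbc, -, hfg, -, hq, hd, hsq⟩ := exists_bc_piece hR hp hfp hb U.2
    haveI := Groth.L13.BU.isProper_blowUp hq (isFiniteType_idealSpec hfg)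
    haveI : QuasiCompact ((bU : FSch.Hom 𝔅 _).app n) :=
      MorphismProperty.of_isPullback (P := @QuasiCompact) (hsq n) inferInstance
    have h1 : IsPullback ((k : FSch.Hom 𝔅 𝔛').app n) ((bU : FSch.Hom 𝔅 _).app n)
        ((b : FSch.Hom 𝔛' 𝔛).app n) (𝔛.lvU h n U.1).ι := hbc n
    refine (MorphismProperty.cancel_left_of_respectsIso (@QuasiCompact)
      (h1.isoIsPullback _ _ (isPullback_morphismRestrict _ _).flip).hom _).1 ?_
    exact (h1.isoIsPullback_hom_snd _ _ (isPullback_morphismRestrict _ _).flip).symm ▸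
      (inferInstance : QuasiCompact ((bU : FSch.Hom 𝔅 _).app n))

/-- On a quasi-compact quasi-separated system an open ideal of a blow-up, twisted by a power of the exceptional
ideal, is the inverse image of an open ideal. -/
theorem exists_descend (hR : AdicRing.IsBase R I) (hp : FSch.IsAdicHom p)
    (hfp : ∀ n, LocallyOfFinitePresentation ((p : FSch.Hom 𝔛 (FSch.spf R I)).app n))
    [CompactSpace (𝔛.X 0)] [QuasiSeparatedSpace (𝔛.X 0)]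
    {J : IdealSh (𝔛.Osh h)} (hJ : FBlow.IsCohOpen 𝔛 h J) (hb : FBlow.IsAdmBlowUp b h' h J)
    {J' : IdealSh (𝔛'.Osh h')} (hJ' : FBlow.IsCohOpen 𝔛' h' J') :
    ∃ (N : ℕ) (K : IdealSh (𝔛.Osh h)), FBlow.IsCohOpen 𝔛 h K ∧
      FBlow.idealMap b h' h K = twist J' (FBlow.idealMap b h' h J) N := by
  classical
  have hI := isBase_fg hR
  have hp' := isAdicHom_comp b p hb.1 hp
  haveI : CompactSpace (𝔛'.X 0) := by
    haveI := quasiCompact_app hR hp hfp hJ hb 0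
    exact QuasiCompact.compactSpace_of_compactSpace ((b : FSch.Hom 𝔛' 𝔛).app 0)
  obtain ⟨n, 𝒜, h𝒜, hJ𝒜⟩ := exists_level (p := b ≫ p) hR hp' hJ'
  subst hJ𝒜
  have hgood := fun x : 𝔛.X 0 => exists_good p hp hI hJ x ⊤ trivial
  choose U hxU _ hU using hgood
  obtain ⟨t, ht⟩ := isCompact_univ.elim_finite_subcover (fun x => (U x : Set (𝔛.X 0))) (fun x => (U x).2)
    fun x _ => Set.mem_iUnion.2 ⟨x, hxU x⟩
  choose N₀ hN₀ using fun x => exists_twist_piece hR hp hfp hb n 𝒜 h𝒜 (hU x)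
  let N := t.sup N₀
  let K' := twist (FBlow.ofLevel 𝔛' h' n 𝒜) (FBlow.idealMap b h' h J) N
  have hK' : FBlow.IsCohOpen 𝔛' h' K' := isCohOpen_twist (p := b ≫ p) hR hp' hJ' (isCohOpen_idealMap b p hR hp hp' hJ) N
  choose 𝔠 h𝔠 hgen using fun x : t => hN₀ x.1 N (Finset.le_sup x.2)
  choose S hS using h𝔠
  obtain ⟨M, 𝒞, -, hK'𝒞⟩ := exists_level (p := b ≫ p) hR hp' hK'
  haveI : QuasiSeparatedSpace (𝔛.X M) := (quasiSeparatedSpace_congr (𝔛.levelHomeo h M)).1 inferInstance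
  haveI : CompactSpace (𝔛.X M) := (𝔛.levelHomeo h M).compactSpace
  haveI := quasiCompact_app hR hp hfp hJ hb M
  let UM : t → (𝔛.X M).affineOpens := fun x => ⟨𝔛.lvU h M (U x.1), isAffineOpen_lvU 𝔛 h (hU x.1).1 M⟩
  have hmem : ∀ e : Σ x : t, (↑(S x) : Set (Sec 𝔛 h (U x.1))),
      pR 𝔛 h M (U e.1.1) e.2.1 ∈ (𝒞.map ((b : FSch.Hom 𝔛' 𝔛).app M)).ideal (UM e.1) := by
    rintro ⟨x, a, ha⟩
    refine mem_ideal_map _ _ _ _ fun z hz => ?_
    have hz0 : 𝔛'.gInv h' M z ∈ (b : FSch.Hom 𝔛' 𝔛).app 0 ⁻¹ᵁ U x.1 :=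
      (FSch.Hom.lvU_preimage b h' h M (U x.1)).le hz
    obtain ⟨_, ⟨V, hV, rfl⟩, hzV, hVle⟩ := (𝔛'.X 0).isBasis_affineOpens.exists_subset_of_mem_open hz0
      ((b : FSch.Hom 𝔛' 𝔛).app 0 ⁻¹ᵁ U x.1).2
    have hVle' : V ≤ (b : FSch.Hom 𝔛' 𝔛).app 0 ⁻¹ᵁ U x.1 := hVle
    refine ⟨⟨𝔛'.lvU h' M V, isAffineOpen_lvU 𝔛' h' hV M⟩, le_preimage_f b h' h hVle' M, hzV, ?_⟩
    have h1 : fR b h' h (U x.1) V hVle' a ∈ K'.sect V := by
      rw [← resS_fR b h' h (le_refl _) hVle' a]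
      exact K'.map_mem hVle' ((hgen x).le (Ideal.mem_map_of_mem _ ((hS x).le (Ideal.subset_span ha))))
    rw [← hK'𝒞, ofLevel_sect hV, Ideal.mem_comap, pR_fR] at h1
    exact h1
  choose Ki hKle hKfg hKmem using fun e => Groth.L19.Approx.exists_fgOn_mem
    (𝒞.map ((b : FSch.Hom 𝔛' 𝔛).app M)) (UM (Sigma.fst e)) (hmem e)
  let 𝒦 := Finset.univ.sup Ki
  have h𝒦 : FSch.IdealFT 𝒦 := fun W => (Finset.sup_induction (p := fun K => Groth.L19.Approx.FGOn K ⊤)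
    (Groth.L19.Approx.fgOn_bot ⊤) (fun _ h _ h' => Groth.L19.Approx.FGOn.sup h h') (fun e _ => hKfg e)) W le_top
  have hle : 𝒦.comap ((b : FSch.Hom 𝔛' 𝔛).app M) ≤ 𝒞 :=
    Scheme.IdealSheafData.le_map_iff_comap_le.1 (Finset.sup_le fun e _ => hKle e)
  refine ⟨N, FBlow.ofLevel 𝔛 h M 𝒦, fun _ => ⟨⊤, trivial, M, 𝒦, h𝒦, fun _ _ => rfl⟩,
    IdealSh.ext (funext fun V => le_antisymm ?_ ?_)⟩
  · show (FBlow.idealMap b h' h _).sect V ≤ K'.sect V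
    refine idealMap_le_iff b h' h (fun W a ha V' e => ?_) V
    rw [← hK'𝒞, mem_ofLevel_iff]
    rw [mem_ofLevel_iff] at ha
    change pR 𝔛' h' M V' _ ∈ _
    rw [pR_fR]
    intro z hz
    have hz' := le_preimage_f b h' h e M hz
    obtain ⟨O, iO, hzO, hO⟩ := ha _ hz'
    obtain ⟨_, ⟨O', hO', rfl⟩, hzO', hle'⟩ := (𝔛'.X M).isBasis_affineOpens.exists_subset_of_mem_open
      (show z ∈ 𝔛'.lvU h' M V' ⊓ (b : FSch.Hom 𝔛' 𝔛).app M ⁻¹ᵁ O.1 from ⟨hz, hzO⟩)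
      (𝔛'.lvU h' M V' ⊓ (b : FSch.Hom 𝔛' 𝔛).app M ⁻¹ᵁ O.1).2
    have iO' : O' ≤ (b : FSch.Hom 𝔛' 𝔛).app M ⁻¹ᵁ O.1 := fun w hw => (hle' hw).2
    refine ⟨⟨O', hO'⟩, fun w hw => (hle' hw).1, hzO', hle _ ?_⟩
    rw [Groth.L22.Ideals.comap_ideal _ 𝒦 O ⟨O', hO'⟩ iO']
    refine Eq.mp (congrArg (· ∈ _) ?_) (Ideal.mem_map_of_mem _ hO)
    show ((𝔛.X M).presheaf.map _ ≫ Scheme.Hom.appLE _ _ _ _) _ =
      (Scheme.Hom.appLE _ _ _ _ ≫ (𝔛'.X M).presheaf.map _) _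
    rw [Scheme.Hom.map_appLE, Scheme.Hom.appLE_map]
    rfl
  · intro s hs
    refine (FBlow.idealMap b h' h _).mem_of_local fun z hz => ?_
    obtain ⟨x, hx, hxU'⟩ := Set.mem_iUnion₂.1 (ht (Set.mem_univ ((b : FSch.Hom 𝔛' 𝔛).app 0 z)))
    let pre : (𝔛'.X 0).Opens := (b : FSch.Hom 𝔛' 𝔛).app 0 ⁻¹ᵁ U x
    obtain ⟨W, j, hzW, hW⟩ :=
      (hgen ⟨x, hx⟩ (V ⊓ pre) inf_le_right _).1 (K'.map_mem (inf_le_left : V ⊓ pre ≤ V) hs) z ⟨hz, hxU'⟩
    refine ⟨W, j.trans inf_le_left, hzW, ?_⟩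
    change rO (𝔛'.Osh h') j (rO (𝔛'.Osh h') inf_le_left s) ∈ _ at hW
    rw [rO_rO] at hW
    refine (Ideal.map_le_iff_le_comap.2 ?_) hW
    refine Ideal.map_le_iff_le_comap.2 fun a ha => ?_
    rw [← hS ⟨x, hx⟩] at ha
    induction ha using Submodule.span_induction with
    | mem a ha =>
      refine Ideal.mem_comap.2 (Ideal.mem_comap.2 ((FBlow.idealMap b h' h _).map_mem _
        (fR_mem_idealMap _ _ _ ?_ _)))
      rw [mem_ofLevel_iff]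
      have h1 : pR 𝔛 h M (U x) a ∈ 𝒦.ideal (UM ⟨x, hx⟩) :=
        (Finset.le_sup (f := Ki) (Finset.mem_univ ⟨⟨x, hx⟩, a, ha⟩) : Ki _ ≤ 𝒦) _ (hKmem ⟨⟨x, hx⟩, a, ha⟩)
      exact (genOn_ofData 𝒦 (UM ⟨x, hx⟩)).le h1
    | zero => exact Submodule.zero_mem _
    | add a c _ _ iha ihc => exact add_mem iha ihc
    | smul c a _ iha => exact Ideal.mul_mem_left _ c iha

/-- Twisting the centre by an invertible ideal does not change a blow-up. -/
theorem isAdmBlowUp_mul_invertible (hR : AdicRing.IsBase R I) (hp : FSch.IsAdicHom p)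
    (hfp : ∀ n, LocallyOfFinitePresentation ((p : FSch.Hom 𝔛 (FSch.spf R I)).app n)) (htf : NoTors h)
    {K L : IdealSh (𝔛.Osh h)} (hK : FBlow.IsCohOpen 𝔛 h K) (hL : FBlow.IsCohOpen 𝔛 h L) (hLi : L.IsInvertible)
    (hb : FBlow.IsAdmBlowUp b h' h K) : FBlow.IsAdmBlowUp b h' h (IdealSh.mul K L) := by
  refine ⟨hb.1, ?_, fun 𝔜 hY g hg hinv => hb.2.2 𝔜 hY g hg ?_⟩
  · rw [idealMap_mul b p hR hp hK hL]
    exact isInvertible_mul hb.2.1 (isInvertible_idealMap_of_baseTF b p hLi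
      (fun x W hx => exists_good p hp (isBase_fg hR) hL x W hx) (baseTF_lfp_of_isAdmBlowUp hR hp hfp htf hK hb).1)
  · rw [idealMap_mul g p hR hp hK hL] at hinv
    refine isInvertible_of_mul hinv fun y => ?_
    obtain ⟨U, hyU, -, -, N, hN, -, gN⟩ :=
      exists_good p hp (isBase_fg hR) hK ((g : FSch.Hom 𝔜 𝔛).app 0 y) ⊤ trivial
    obtain ⟨U', hyU', hle, -, M, hM, -, gM⟩ := exists_good p hp (isBase_fg hR) hL _ U hyU
    exact ⟨_, _, _, hyU', (hN.map _).map _, hM.map _, (gN.mono hle).idealMap g hY h le_rfl,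
      gM.idealMap g hY h le_rfl⟩

/-- A composite of admissible formal blow-ups of a quasi-compact quasi-separated system is one. -/
theorem exists_isAdmBlowUp_comp (hR : AdicRing.IsBase R I) (hp : FSch.IsAdicHom p)
    (hfp : ∀ n, LocallyOfFinitePresentation ((p : FSch.Hom 𝔛 (FSch.spf R I)).app n)) (htf : NoTors h)
    [CompactSpace (𝔛.X 0)] [QuasiSeparatedSpace (𝔛.X 0)]
    {J : IdealSh (𝔛.Osh h)} (hJ : FBlow.IsCohOpen 𝔛 h J) (hb : FBlow.IsAdmBlowUp b h' h J)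
    {J' : IdealSh (𝔛'.Osh h')} (hJ' : FBlow.IsCohOpen 𝔛' h' J') {𝔛'' : FSch.Sys.{u}} {h'' : 𝔛''.IsFormal}
    {b' : 𝔛'' ⟶ 𝔛'} (hb' : FBlow.IsAdmBlowUp b' h'' h' J') :
    ∃ J'' : IdealSh (𝔛.Osh h), FBlow.IsCohOpen 𝔛 h J'' ∧ FBlow.IsAdmBlowUp (b' ≫ b) h'' h J'' := by
  obtain ⟨N, K, hK, hKeq⟩ := exists_descend hR hp hfp hJ hb hJ'
  obtain ⟨htf', hfp'⟩ := baseTF_lfp_of_isAdmBlowUp hR hp hfp htf hJ hb
  have hp' := isAdicHom_comp b p hb.1 hp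
  have hL := isCohOpen_idealMap b p hR hp hp' hJ (hY := h')
  have htw : ∀ m, FBlow.IsAdmBlowUp b' h'' h' (twist J' (FBlow.idealMap b h' h J) m) := fun m => by
    induction m with
    | zero => exact hb'
    | succ m ih =>
      exact isAdmBlowUp_mul_invertible (p := b ≫ p) hR hp' hfp' (noTors_of_baseTF htf')
        (isCohOpen_twist (p := b ≫ p) hR hp' hJ' hL m) hL hb.2.1 ih
  exact ⟨_, isCohOpen_mul hR hp hJ hK, isAdmBlowUp_comp_mul hR hp hfp htf hJ hK hb (hKeq ▸ htw N)⟩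

end Groth.L20.FBlow
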