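import Groth.Agent.L20.FBlow.Coh
import Groth.Agent.L20.FBlow.Mul
import Groth.Agent.L05.Bosch.RigPoint

/-!
# One level carrying an open ideal; the space of the smallest level is locally Noetherian
-/

set_option autoImplicit false
set_option linter.style.haveILetI false
set_option linter.unusedSectionVars false
set_option backward.isDefEq.respectTransparency false
set_option backward.isDefEq.respectTransparency.types false

universe u

open CategoryTheory CategoryTheory.Limits AlgebraicGeometry TopologicalSpace Opposite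

noncomputable section

namespace Groth.L20.FBlow

open _root_.FBlow Groth.L17.FSheaf

variable {R : Type u} [CommRing R] {I : Ideal R} {𝔛 : FSch.Sys.{u}} {p : 𝔛 ⟶ FSch.spf R I} {h : 𝔛.IsFormal}

/-- An ideal with good opens up to a fixed power comes from finite type data on that level. -/
theorem exists_data_of_good (hR : AdicRing.IsBase R I) (hp : FSch.IsAdicHom p) {J : IdealSh (𝔛.Osh h)} (n : ℕ)
    (hJ : ∀ x : 𝔛.X 0, ∃ U : (𝔛.X 0).Opens, x ∈ U ∧ IsAffineOpen U ∧ ∃ 𝔞 : Ideal (Sec 𝔛 h U),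
      𝔞.FG ∧ (I ^ (n + 1)).map (bS p h U) ≤ 𝔞 ∧ GenOn J U 𝔞) :
    ∃ 𝒜 : (𝔛.X n).IdealSheafData, FSch.IdealFT 𝒜 ∧ FBlow.ofLevel 𝔛 h n 𝒜 = J := by
  let S : ∀ W : (𝔛.X n).Opens, Set Γ(𝔛.X n, W) := fun W =>
    {t | ∃ (V : (𝔛.X 0).Opens) (j : W ≤ 𝔛.lvU h n V) (a : Sec 𝔛 h V), a ∈ J.sect V ∧
      t = rO (𝔛.X n).sheaf j (pR 𝔛 h n V a)}
  have hgen : ∀ (V : (𝔛.X 0).Opens) (N : Ideal (Sec 𝔛 h V)), GenOn J V N →
      GenOn (O := (𝔛.X n).sheaf) (IdealSh.gen (O := (𝔛.X n).sheaf) S) (𝔛.lvU h n V) (N.map (pR 𝔛 h n V)) := by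
    intro V N hN
    refine genOn_gen (Ideal.map_le_iff_le_comap.2 fun a ha => ?_) ?_
    · exact IdealSh.subset_gen (O := (𝔛.X n).sheaf) S _ ⟨V, le_rfl, a, hN.le ha, (rO_self (O := (𝔛.X n).sheaf) le_rfl _).symm⟩
    · rintro W _ ⟨V₀, j, a, ha, rfl⟩ y hyV hyW
      obtain ⟨V₁, j₁, hy₁, e₁⟩ := (hN (V₀ ⊓ V) inf_le_right _).1 (J.map_mem inf_le_left ha) (𝔛.gInv h n y)
        ⟨j hyW, hyV⟩
      refine ⟨W ⊓ 𝔛.lvU h n V₁, inf_le_right.trans fun z hz => (j₁ hz).2, inf_le_left, ⟨hyW, hy₁⟩, ?_⟩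
      have e2 := Ideal.mem_map_of_mem (pR 𝔛 h n V₁) e₁
      rw [Ideal.map_map] at e2
      have e3 := Ideal.mem_map_of_mem (rO (𝔛.X n).sheaf (inf_le_right : W ⊓ 𝔛.lvU h n V₁ ≤ 𝔛.lvU h n V₁)) e2
      rw [Ideal.map_map] at e3
      change rO (𝔛.X n).sheaf _ (pR 𝔛 h n V₁ (rO (𝔛.Osh h) j₁ (rO (𝔛.Osh h) inf_le_left a))) ∈ _ at e3
      rw [rO_rO, pR_resS] at e3
      change rO (𝔛.X n).sheaf _ (rO (𝔛.X n).sheaf _ _) ∈ _ at e3
      rw [rO_rO] at e3
      show rO (𝔛.X n).sheaf inf_le_left (rO (𝔛.X n).sheaf j _) ∈ _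
      rw [rO_rO, Ideal.map_map]
      refine Eq.mp (congrArg (_ ∈ ·) (congrArg (Ideal.map · N) (RingHom.ext fun b => ?_))) e3
      show rO (𝔛.X n).sheaf _ (pR 𝔛 h n V₁ (rO (𝔛.Osh h) _ b)) = rO (𝔛.X n).sheaf _ (pR 𝔛 h n V b)
      rw [pR_resS]
      exact rO_rO (O := (𝔛.X n).sheaf) _ _ _
  have hLF : LocFG (IdealSh.gen (O := (𝔛.X n).sheaf) S) := fun y => by
    obtain ⟨V, hyV, hVa, 𝔟, h𝔟, -, hV⟩ := hJ (𝔛.gInv h n y)
    exact ⟨_, _, hyV, isAffineOpen_lvU 𝔛 h hVa n, h𝔟.map _, hgen V 𝔟 hV⟩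
  obtain ⟨𝒜, hFT, h𝒜⟩ := exists_ofData hLF
  refine ⟨𝒜, hFT, eq_of_genOn_local fun x => ?_⟩
  obtain ⟨U, hxU, hUa, 𝔞, -, hn, hg⟩ := hJ x
  refine ⟨U, 𝔞, hxU, (genOn_ofLevel p hp (isBase_fg hR) hUa n 𝒜).congr_ideal ?_, hg⟩
  have hideal : 𝒜.ideal ⟨𝔛.lvU h n U, isAffineOpen_lvU 𝔛 h hUa n⟩ = 𝔞.map (pR 𝔛 h n U) := by
    rw [← sect_eq_of_genOn (isAffineOpen_lvU 𝔛 h hUa n) (hgen U 𝔞 hg), ← h𝒜]
    exact (sect_eq_of_genOn (isAffineOpen_lvU 𝔛 h hUa n)
      (genOn_ofData 𝒜 ⟨_, isAffineOpen_lvU 𝔛 h hUa n⟩)).symm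
  rw [hideal, Ideal.comap_map_of_surjective _ (pR_surjective 𝔛 h hUa n)]
  refine sup_eq_left.2 ?_
  rw [← RingHom.ker_eq_comap_bot, ker_pR_eq p hp (isBase_fg hR) hUa n]
  exact hn

/-- On a quasi-compact space one level carries an open coherent ideal. -/
theorem exists_level (hR : AdicRing.IsBase R I) (hp : FSch.IsAdicHom p) [CompactSpace (𝔛.X 0)]
    {J : IdealSh (𝔛.Osh h)} (hJ : FBlow.IsCohOpen 𝔛 h J) :
    ∃ (n : ℕ) (𝒜 : (𝔛.X n).IdealSheafData), FSch.IdealFT 𝒜 ∧ FBlow.ofLevel 𝔛 h n 𝒜 = J := by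
  classical
  have hg := fun x : 𝔛.X 0 => exists_good p hp (isBase_fg hR) hJ x ⊤ trivial
  choose U hxU _ hUa 𝔞 hfg hk hgen using hg
  choose k hk using hk
  obtain ⟨s, hs⟩ := isCompact_univ.elim_finite_subcover (fun x => (U x : Set (𝔛.X 0))) (fun x => (U x).2)
    fun x _ => Set.mem_iUnion.2 ⟨x, hxU x⟩
  refine ⟨s.sup k, exists_data_of_good hR hp _ fun x => ?_⟩
  obtain ⟨y, hy, hxy⟩ := Set.mem_iUnion₂.1 (hs (Set.mem_univ x))
  exact ⟨U y, hxy, hUa y, 𝔞 y, hfg y,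
    (Ideal.map_mono (Ideal.pow_le_pow_right ((Finset.le_sup (f := k) hy).trans (Nat.le_succ _)))).trans (hk y), hgen y⟩

theorem isNoetherianRing_quotient_radical (hR : AdicRing.IsBase R I) : IsNoetherianRing (R ⧸ I.radical) := by
  rcases hR.2 with ⟨hN, -⟩ | ⟨hd, hv, hdim, t, ht, rfl⟩
  · exact Ideal.Quotient.isNoetherianRing _
  · haveI := hd; haveI := hv; haveI := hdim; haveI := hR.1
    haveI : ValuationRing R := {}
    have e : (Ideal.span {t}).radical = IsLocalRing.maximalIdeal R := by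
      refine le_antisymm (IsLocalRing.le_maximalIdeal fun h => ?_) (Groth.L05.Bosch.maximalIdeal_le_radical (R := R) (t := t) hR.1 ht)
      exact Groth.L05.Bosch.not_isUnit_of_isAdicComplete hR.1 (Ideal.span_singleton_eq_top.1 (Ideal.radical_eq_top.1 h))
    rw [e]
    letI := Ideal.Quotient.field (IsLocalRing.maximalIdeal R)
    infer_instance

/-- Affine opens of the smallest level have Noetherian spaces. -/
theorem isCompact_inter_of_affine (hR : AdicRing.IsBase R I)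
    [LocallyOfFiniteType ((p : FSch.Hom 𝔛 (FSch.spf R I)).app 0)] {O : (𝔛.X 0).Opens} (hO : IsAffineOpen O)
    (S : Set (𝔛.X 0)) : IsCompact ((O : Set (𝔛.X 0)) ∩ S) := by
  let C : Type u := Γ(𝔛.X 0, O)
  let f : 𝔛.X 0 ⟶ Spec (CommRingCat.of (R ⧸ I ^ (0 + 1))) := (p : FSch.Hom 𝔛 (FSch.spf R I)).app 0
  haveI : LocallyOfFiniteType f := ‹_›
  let φ : R →+* C := ((f.appLE ⊤ O le_top).hom.comp (Scheme.ΓSpecIso (CommRingCat.of (R ⧸ I ^ (0 + 1)))).inv.hom).comp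
    (Ideal.Quotient.mk (I ^ (0 + 1)))
  have hφ : φ.FiniteType := by
    refine RingHom.FiniteType.comp ?_ (RingHom.FiniteType.of_surjective _ Ideal.Quotient.mk_surjective)
    exact RingHom.FiniteType.comp
      (HasRingHomProperty.appLE @LocallyOfFiniteType f inferInstance ⟨⊤, isAffineOpen_top _⟩ ⟨O, hO⟩ le_top)
      (RingHom.FiniteType.of_surjective _ (Scheme.ΓSpecIso (CommRingCat.of (R ⧸ I ^ (0 + 1)))).symm.commRingCatIsoToRingEquiv.surjective)
  letI : Algebra R C := φ.toAlgebra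
  haveI : Algebra.FiniteType R C := hφ
  let C' : Type u := C ⧸ nilradical C
  have hker : ∀ r ∈ I.radical, algebraMap R C' r = 0 := by
    rintro r ⟨m, hm⟩
    have h1 : φ r ^ m = 0 := by
      rw [← map_pow]
      show ((f.appLE ⊤ O le_top).hom.comp _) (Ideal.Quotient.mk (I ^ (0 + 1)) (r ^ m)) = 0
      rw [Ideal.Quotient.eq_zero_iff_mem.2 (by rwa [zero_add, pow_one]), map_zero]
    exact Ideal.Quotient.eq_zero_iff_mem.2 (mem_nilradical.2 ⟨m, h1⟩)
  letI : Algebra (R ⧸ I.radical) C' := (Ideal.Quotient.lift I.radical (algebraMap R C') hker).toAlgebra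
  haveI : IsScalarTower R (R ⧸ I.radical) C' := IsScalarTower.of_algebraMap_eq fun _ => rfl
  haveI : Algebra.FiniteType R C' :=
    Algebra.FiniteType.of_surjective (Ideal.Quotient.mkₐ R (nilradical C)) (Ideal.Quotient.mkₐ_surjective R _)
  haveI := isNoetherianRing_quotient_radical hR
  haveI : Algebra.FiniteType (R ⧸ I.radical) C' := Algebra.FiniteType.of_restrictScalars_finiteType R _ _
  haveI : IsNoetherianRing C' := Algebra.FiniteType.isNoetherianRing (R ⧸ I.radical) C'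
  haveI : NoetherianSpace (PrimeSpectrum C) :=
    noetherianSpace_of_surjective (PrimeSpectrum.comap (Ideal.Quotient.mk (nilradical C))) (by fun_prop) fun P => by
      have hP : P ∈ PrimeSpectrum.zeroLocus (nilradical C : Set C) := fun x hx => nilradical_le_prime P.asIdeal hx
      rw [← Ideal.mk_ker (I := nilradical C),
        ← range_comap_of_surjective _ (Ideal.Quotient.mk (nilradical C)) Ideal.Quotient.mk_surjective] at hP
      exact hP
  have h1 := (NoetherianSpace.isCompact (hO.fromSpec ⁻¹' S : Set (PrimeSpectrum C))).image hO.fromSpec.continuous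
  rwa [Set.image_preimage_eq_inter_range, hO.range_fromSpec, Set.inter_comm] at h1

end Groth.L20.FBlow
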