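import Groth.Agent.L20.FBlow.DataExt
import Groth.Agent.L20.FBlow.LevelData
import Groth.Agent.L20.FBlow.Global

/-!
# Extension of coherent open ideals of quasi-compact opens
-/

set_option autoImplicit false
set_option linter.style.haveILetI false
set_option linter.unusedSectionVars false
set_option backward.isDefEq.respectTransparency false
set_option backward.isDefEq.respectTransparency.types false

universe u

open CategoryTheory CategoryTheory.Limits AlgebraicGeometry TopologicalSpace Opposite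

noncomputable section

namespace Groth.L20.FBlow

open _root_.FBlow Groth.L17.FSheaf

variable {R : Type u} [CommRing R] {I : Ideal R} {𝔛 : FSch.Sys.{u}} {p : 𝔛 ⟶ FSch.spf R I} {h : 𝔛.IsFormal}

theorem isCompact_lvU {U : (𝔛.X 0).Opens} (hU : IsCompact (U : Set (𝔛.X 0))) (n : ℕ) :
    IsCompact ((𝔛.lvU h n U : (𝔛.X n).Opens) : Set (𝔛.X n)) := by
  have h1 := hU.image (𝔛.levelHomeo h n).continuous
  rwa [(𝔛.levelHomeo h n).image_eq_preimage_symm] at h1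

/-- A coherent open ideal of a quasi-compact open extends, trivially on the opens disjoint from it. -/
theorem exists_extension (hR : AdicRing.IsBase R I) (hp : FSch.IsAdicHom p)
    (hfp : ∀ n, LocallyOfFinitePresentation ((p : FSch.Hom 𝔛 (FSch.spf R I)).app n))
    [QuasiSeparatedSpace (𝔛.X 0)] {U W : (𝔛.X 0).Opens} (hUc : IsCompact (U : Set (𝔛.X 0)))
    (hWc : IsCompact (W : Set (𝔛.X 0))) (hW : closure (U : Set (𝔛.X 0)) ⊆ W)
    (hU : (𝔛.restrictOpen h U).IsFormal) {JU : IdealSh ((𝔛.restrictOpen h U).Osh hU)}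
    (hJU : FBlow.IsCohOpen (𝔛.restrictOpen h U) hU JU) :
    ∃ J : IdealSh (𝔛.Osh h), FBlow.IsCohOpen 𝔛 h J ∧
      FBlow.idealMap (𝔛.restrictOpenι h U) hU h J = JU ∧
      ∀ V : (𝔛.X 0).Opens, V ⊓ U = ⊥ → J.sect V = ⊤ := by
  let ιU := 𝔛.restrictOpenι h U
  haveI : LocallyOfFiniteType ((p : FSch.Hom 𝔛 (FSch.spf R I)).app 0) := by
    haveI := hfp 0
    infer_instance
  haveI : CompactSpace ((𝔛.restrictOpen h U).X 0) :=
    isCompact_iff_compactSpace.1 (isCompact_lvU (h := h) hUc 0)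
  obtain ⟨n, 𝒜, h𝒜, hJ𝒜⟩ := exists_level (p := ιU ≫ p) hR
    (isAdicHom_comp _ _ (isAdicHom_restrictOpenι 𝔛 h U) hp) hJU
  haveI : QuasiSeparatedSpace (𝔛.X n) := (quasiSeparatedSpace_congr (𝔛.levelHomeo h n)).1 inferInstance
  let U' : (𝔛.X 0).Opens := ⟨(closure (U : Set (𝔛.X 0)))ᶜ, isClosed_closure.isOpen_compl⟩
  have hW' : IsCompact ((W : Set (𝔛.X 0)) ∩ U') := by
    obtain ⟨s, hs, e⟩ := Groth.L19.Approx.exists_finite_affineOpens hWc
    have hW₂ : (W : Set (𝔛.X 0)) ∩ U' = ⋃ O ∈ s, ((O.1 : Set (𝔛.X 0)) ∩ ((W : Set (𝔛.X 0)) ∩ U')) := by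
      ext x
      simp only [Set.mem_iUnion, Set.mem_inter_iff, exists_prop]
      refine ⟨fun hx => ?_, fun ⟨_, _, _, hx⟩ => hx⟩
      obtain ⟨O, hO⟩ := Opens.mem_iSup.1 (e ▸ hx.1 : x ∈ ⨆ O : s, O.1.1)
      exact ⟨O.1, O.2, hO, hx⟩
    rw [hW₂]
    exact hs.isCompact_biUnion fun O _ => isCompact_inter_of_affine (p := p) hR O.2 _
  obtain ⟨L, hL, hLU, hLtop⟩ := exists_data_extend (𝔛.lvU h n U) (𝔛.lvU h n W) (𝔛.lvU h n U')
    (isCompact_lvU hUc n) (isCompact_lvU hWc n) (FBlow.lvU_mono 𝔛 h n fun x hx => hW (subset_closure hx))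
    (le_bot_iff.1 fun x hx => (hx.2 (subset_closure hx.1)).elim)
    (fun x => by
      by_cases hx : 𝔛.gInv h n x ∈ closure (U : Set (𝔛.X 0))
      · exact Or.inl (hW hx)
      · exact Or.inr hx)
    (by
      have h1 := hW'.image (𝔛.levelHomeo h n).continuous
      rwa [(𝔛.levelHomeo h n).image_eq_preimage_symm, Set.preimage_inter] at h1)
    𝒜 h𝒜
  refine ⟨FBlow.ofLevel 𝔛 h n L, fun x => ⟨⊤, trivial, n, L, hL, fun _ _ => rfl⟩, ?_, fun V hV => ?_⟩
  · refine IdealSh.ext (funext fun V => Ideal.ext fun t => ?_)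
    obtain ⟨s, rfl⟩ := (fR_bijective h hU ιU V).2 t
    rw [mem_idealMap_img_iff, ← hJ𝒜, mem_ofLevel_iff, mem_ofLevel_iff]
    have e := pR_fR ιU hU h (le_preimage_img ιU V) n s
    change pR 𝔛 h n (img ιU V) s ∈ _ ↔ pR (𝔛.restrictOpen h U) hU n V _ ∈ _
    rw [e, ← hLU]
    exact mem_ofData_comap_iff (𝔛.lvU h n U).ι L (image_lvU (hX := h) (hY := hU) ιU n V) _ _
  · refine eq_top_iff.2 fun t _ => ?_
    rw [mem_ofLevel_iff, ofData_sect_eq_top hLtop (FBlow.lvU_mono 𝔛 h n ?_)]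
    · trivial
    · intro x hx hcl
      obtain ⟨y, hyV, hyU⟩ := mem_closure_iff.1 hcl (V : Set (𝔛.X 0)) V.2 hx
      exact (hV ▸ (⟨hyV, hyU⟩ : y ∈ V ⊓ U) : y ∈ (⊥ : (𝔛.X 0).Opens))

/-- Quasi-compact opens of a quasi-paracompact space have closures in quasi-compact opens. -/
theorem exists_compact_nhd_closure {T : Type u} [TopologicalSpace T] {ι : Type u} (V : ι → Opens T)
    (hcov : (⨆ i, V i) = ⊤) (hc : ∀ i, IsCompact (V i : Set T)) (hf : ∀ i, Set.Finite {j : ι | V i ⊓ V j ≠ ⊥})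
    (U : Opens T) (hU : IsCompact (U : Set T)) :
    ∃ W : Opens T, IsCompact (W : Set T) ∧ closure (U : Set T) ⊆ W := by
  classical
  have hmem : ∀ x, ∃ i, x ∈ V i := fun x => Opens.mem_iSup.1 (hcov.ge (Set.mem_univ x))
  obtain ⟨s, hs⟩ := hU.elim_finite_subcover (fun i => (V i : Set T)) (fun i => (V i).2)
    fun x _ => Set.mem_iUnion.2 (hmem x)
  let J := {i : ι | ∃ j ∈ s, V j ⊓ V i ≠ ⊥}
  have hJ : J.Finite := by
    have e : J = ⋃ j ∈ (s : Set ι), {i : ι | V j ⊓ V i ≠ ⊥} := by ext i; simp [J]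
    rw [e]
    exact s.finite_toSet.biUnion fun j _ => hf j
  refine ⟨⨆ i : J, V i, ?_, fun x hx => ?_⟩
  · rw [Opens.coe_iSup]
    haveI := hJ.to_subtype
    exact isCompact_iUnion fun i => hc i
  · obtain ⟨i, hi⟩ := hmem x
    obtain ⟨y, hyi, hyU⟩ := mem_closure_iff.1 hx (V i : Set T) (V i).2 hi
    obtain ⟨j, hj, hyj⟩ := Set.mem_iUnion₂.1 (hs hyU)
    refine Opens.mem_iSup.2 ⟨⟨i, j, hj, fun he => ?_⟩, hi⟩
    exact (he ▸ (⟨hyj, hyi⟩ : y ∈ V j ⊓ V i) : y ∈ (⊥ : Opens T))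

end Groth.L20.FBlow
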