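import Groth.Agent.L20.FBlow.CompGlobal
import Groth.Agent.L20.FBlow.Extend

/-!
# Successive blow-ups of a quasi-paracompact system are dominated by one blow-up
-/

set_option autoImplicit false
set_option linter.style.haveILetI false
set_option linter.unusedSectionVars false
set_option backward.isDefEq.respectTransparency false
set_option backward.isDefEq.respectTransparency.types false

universe u

open CategoryTheory CategoryTheory.Limits AlgebraicGeometry TopologicalSpace Opposite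

noncomputable section

namespace Groth.L20.FBlow

open _root_.FBlow Groth.L17.FSheaf

variable {R : Type u} [CommRing R] {I : Ideal R} {𝔛 : FSch.Sys.{u}} {p : 𝔛 ⟶ FSch.spf R I} {h : 𝔛.IsFormal}

/-- Torsion-freeness passes to opens. -/
theorem baseTF_restrict (ht : BaseTF h p) (V : (𝔛.X 0).Opens) :
    BaseTF (isFormal_restrictOpen 𝔛 h V) (𝔛.restrictOpenι h V ≫ p) := fun W t hk => by
  let j := 𝔛.restrictOpenι h V
  let hV := isFormal_restrictOpen 𝔛 h V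
  obtain ⟨s, rfl⟩ := (fR_bijective h hV j W).2 t
  rw [ht (img j W) s fun r hr => (fR_bijective h hV j W).1 ?_, map_zero]
  rw [map_mul, fR_bS j p (le_preimage_img j W) r, hk r hr, map_zero]

/-- No torsion for the ideal of definition is no torsion for the ideal of the base. -/
theorem baseTF_of_noTors (hR : AdicRing.IsBase R I) (hp : FSch.IsAdicHom p) (htf : NoTors h) : BaseTF h p := by
  intro V t ht
  refine eq_of_local fun x hx => ?_
  obtain ⟨_, ⟨W, hW, rfl⟩, hxW, hWV⟩ := (𝔛.X 0).isBasis_affineOpens.exists_subset_of_mem_open hx V.2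
  refine ⟨W, hWV, hxW, ?_⟩
  rw [map_zero]
  refine noPowTorsion_sec p h hp hW (isBase_fg hR) htf _ 1 fun r hr => ?_
  rw [pow_one] at hr
  show bS p h W r * _ = 0
  have h1 := congrArg (resS (h := h) (show W ≤ V from hWV)) (ht r hr)
  rw [map_mul, map_zero, resS_scal] at h1
  exact h1

/-- The restriction of a morphism of systems is a base change. -/
theorem isBC_restrictOpen {𝔜 : FSch.Sys.{u}} (f : 𝔜 ⟶ 𝔛) (hY : 𝔜.IsFormal) (hX : 𝔛.IsFormal) (V : (𝔛.X 0).Opens) :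
    IsBC f (𝔛.restrictOpenι hX V) (FSch.Hom.restrictOpen f hY hX V)
      (𝔜.restrictOpenι hY ((f : FSch.Hom 𝔜 𝔛).app 0 ⁻¹ᵁ V)) := fun n =>
  (isPullback_resLE ((f : FSch.Hom 𝔜 𝔛).app n) (FSch.Hom.lvU_preimage f hY hX n V).symm).flip

variable {𝔛' 𝔛'' : FSch.Sys.{u}} {h' : 𝔛'.IsFormal} {h'' : 𝔛''.IsFormal} {b : 𝔛' ⟶ 𝔛} {b' : 𝔛'' ⟶ 𝔛'}

/-- Morphisms from torsion-free systems to successive blow-ups are determined over the base. -/
theorem comp_hom_ext (hR : AdicRing.IsBase R I) (hp : FSch.IsAdicHom p)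
    {J : IdealSh (𝔛.Osh h)} (hJ : FBlow.IsCohOpen 𝔛 h J) (hb : FBlow.IsAdmBlowUp b h' h J)
    {J' : IdealSh (𝔛'.Osh h')} (hJ' : FBlow.IsCohOpen 𝔛' h' J') (hb' : FBlow.IsAdmBlowUp b' h'' h' J')
    {𝔚 : FSch.Sys.{u}} (hW : 𝔚.IsFormal) {g : 𝔚 ⟶ 𝔛} (hg : FSch.IsAdicHom g) (hWtf : BaseTF hW (g ≫ p))
    {k k' : 𝔚 ⟶ 𝔛''} (hk : k ≫ b' ≫ b = g) (hk' : k' ≫ b' ≫ b = g) : k = k' := by
  have hp' := isAdicHom_comp b p hb.1 hp
  have ea : ∀ l : 𝔚 ⟶ 𝔛'', l ≫ b' ≫ b = g → (l ≫ b') ≫ b = g := fun l hl => (Category.assoc l b' b).trans hl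
  have htfk : ∀ l : 𝔚 ⟶ 𝔛'', l ≫ b' ≫ b = g → BaseTF hW ((l ≫ b') ≫ b ≫ p) := fun l hl => by
    rw [← Category.assoc (l ≫ b') b p, ea l hl]
    exact hWtf
  have hJW : (FBlow.idealMap g hW h J).IsInvertible := by
    rw [← ea k hk, ← idealMap_comp b h' h (k ≫ b') hW]
    exact isInvertible_idealMap_of_baseTF (k ≫ b') (b ≫ p) hb.2.1
      (fun x W hx => exists_good_idealMap b p hR hp hJ x W hx) (htfk k hk)
  obtain ⟨m, -, hm⟩ := hb.2.2 𝔚 hW g hg hJW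
  have e : k ≫ b' = k' ≫ b' := (hm _ (ea k hk)).trans (hm _ (ea k' hk')).symm
  have hl : FSch.IsAdicHom (k ≫ b') := isAdicHom_of_comp _ b (by rw [ea k hk]; exact hg) hb.1
  have hinv : (FBlow.idealMap (k ≫ b') hW h' J').IsInvertible := by
    rw [← idealMap_comp b' h'' h' k hW]
    refine isInvertible_idealMap_of_baseTF k (b' ≫ b ≫ p) hb'.2.1
      (fun x W hx => exists_good_idealMap b' (b ≫ p) hR hp' hJ' x W hx) ?_
    rw [← Category.assoc k b' (b ≫ p)]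
    exact htfk k hk
  obtain ⟨l, -, hl'⟩ := hb'.2.2 𝔚 hW (k ≫ b') hl hinv
  exact (hl' _ rfl).trans (hl' _ e.symm).symm

/-- Successive blow-ups of a quasi-paracompact system are dominated by one blow-up. -/
theorem exists_dominating_comp (hR : AdicRing.IsBase R I) (hp : FSch.IsAdicHom p)
    (hfp : ∀ n, LocallyOfFinitePresentation ((p : FSch.Hom 𝔛 (FSch.spf R I)).app n)) (htf : NoTors h)
    [QuasiSeparatedSpace (𝔛.X 0)] {ι : Type u} (V : ι → (𝔛.X 0).Opens) (hV : (⨆ i, V i) = ⊤)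
    (hVc : ∀ i, IsCompact (V i : Set (𝔛.X 0))) (hVf : ∀ i, Set.Finite {j : ι | V i ⊓ V j ≠ ⊥})
    {J : IdealSh (𝔛.Osh h)} (hJ : FBlow.IsCohOpen 𝔛 h J) (hb : FBlow.IsAdmBlowUp b h' h J)
    {J' : IdealSh (𝔛'.Osh h')} (hJ' : FBlow.IsCohOpen 𝔛' h' J') (hb' : FBlow.IsAdmBlowUp b' h'' h' J') :
    ∃ (J''' : IdealSh (𝔛.Osh h)) (𝔛''' : FSch.Sys.{u}) (h''' : 𝔛'''.IsFormal) (c : 𝔛''' ⟶ 𝔛),
      FBlow.IsCohOpen 𝔛 h J''' ∧ FBlow.IsAdmBlowUp c h''' h J''' ∧ ∃ s : 𝔛''' ⟶ 𝔛'', s ≫ b' ≫ b = c := by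
  have hI := isBase_fg hR
  have hp' := isAdicHom_comp b p hb.1 hp
  let hVi : ∀ i, (𝔛.restrictOpen h (V i)).IsFormal := fun i => isFormal_restrictOpen 𝔛 h (V i)
  let pre : ι → (𝔛'.X 0).Opens := fun i => (b : FSch.Hom 𝔛' 𝔛).app 0 ⁻¹ᵁ V i
  let pre' : ι → (𝔛''.X 0).Opens := fun i => (b' : FSch.Hom 𝔛'' 𝔛').app 0 ⁻¹ᵁ pre i
  let bi : ∀ i, 𝔛'.restrictOpen h' (pre i) ⟶ 𝔛.restrictOpen h (V i) := fun i => FSch.Hom.restrictOpen b h' h (V i)
  let bi' : ∀ i, 𝔛''.restrictOpen h'' (pre' i) ⟶ 𝔛'.restrictOpen h' (pre i) := fun i =>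
    FSch.Hom.restrictOpen b' h'' h' (pre i)
  have hcomp : ∀ i, ∃ K : IdealSh ((𝔛.restrictOpen h (V i)).Osh (hVi i)),
      FBlow.IsCohOpen (𝔛.restrictOpen h (V i)) (hVi i) K ∧
      FBlow.IsAdmBlowUp (bi' i ≫ bi i) (isFormal_restrictOpen 𝔛'' h'' (pre' i)) (hVi i) K := fun i => by
    let j := 𝔛.restrictOpenι h (V i)
    let j' := 𝔛'.restrictOpenι h' (pre i)
    haveI : CompactSpace ((𝔛.restrictOpen h (V i)).X 0) :=
      isCompact_iff_compactSpace.1 (isCompact_lvU (h := h) (hVc i) 0)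
    haveI : QuasiSeparatedSpace ((𝔛.restrictOpen h (V i)).X 0) :=
      (isQuasiSeparated_iff_quasiSeparatedSpace _ (𝔛.lvU h 0 (V i)).2).1
        ((isQuasiSeparated_univ_iff.2 inferInstance).of_subset (Set.subset_univ _))
    have hj := isAdicHom_restrictOpenι 𝔛 h (V i)
    have hj' := isAdicHom_restrictOpenι 𝔛' h' (pre i)
    have hpi := isAdicHom_comp j p hj hp
    have hfpi : ∀ n, LocallyOfFinitePresentation ((j ≫ p : FSch.Hom _ (FSch.spf R I)).app n) := fun n => by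
      haveI := hfp n
      haveI := isOpenImmersion_restrictOpenι (hX := h) (V i) n
      rw [FSch.comp_app]
      infer_instance
    have hbi : FBlow.IsAdmBlowUp (bi i) (isFormal_restrictOpen 𝔛' h' (pre i)) (hVi i)
        (FBlow.idealMap j (hVi i) h J) :=
      (isBC_restrictOpen b h' h (V i)).isAdmBlowUp hj hb
    have hbi' : FBlow.IsAdmBlowUp (bi' i) (isFormal_restrictOpen 𝔛'' h'' (pre' i))
        (isFormal_restrictOpen 𝔛' h' (pre i)) (FBlow.idealMap j' (isFormal_restrictOpen 𝔛' h' (pre i)) h' J') :=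
      (isBC_restrictOpen b' h'' h' (pre i)).isAdmBlowUp hj' hb'
    exact exists_isAdmBlowUp_comp (p := j ≫ p) hR hpi hfpi
      (noTors_of_baseTF (baseTF_restrict (baseTF_of_noTors hR hp htf) (V i)))
      (isCohOpen_idealMap j p hR hp hpi hJ) hbi
      (isCohOpen_idealMap j' (b ≫ p) hR hp' (isAdicHom_comp _ _ hj' hp') hJ') hbi'
  choose K hK hKb using hcomp
  obtain ⟨J3, 𝔛3, h3, c, hJ3, hc, hk⟩ := exists_dominating hR hp hfp V hV hVc hVf hVi K hK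
    (fun i => 𝔛''.restrictOpen h'' (pre' i)) (fun i => isFormal_restrictOpen 𝔛'' h'' (pre' i))
    (fun i => bi' i ≫ bi i) hKb
  choose k hk _ using hk
  refine ⟨J3, 𝔛3, h3, c, hJ3, hc, ?_⟩
  have htf3 : BaseTF h3 (c ≫ p) := (baseTF_lfp_of_isAdmBlowUp hR hp hfp htf hJ3 hc).1
  let O : ι → (𝔛3.X 0).Opens := fun i => (c : FSch.Hom 𝔛3 𝔛).app 0 ⁻¹ᵁ V i
  let f : ∀ i, 𝔛3.restrictOpen h3 (O i) ⟶ 𝔛'' := fun i => k i ≫ 𝔛''.restrictOpenι h'' (pre' i)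
  have hf : ∀ i, f i ≫ b' ≫ b = 𝔛3.restrictOpenι h3 (O i) ≫ c := fun i => by
    have e1 : 𝔛''.restrictOpenι h'' (pre' i) ≫ b' = bi' i ≫ 𝔛'.restrictOpenι h' (pre i) :=
      (FSch.Hom.restrictOpen_ι b' h'' h' (pre i)).symm
    have e2 : 𝔛'.restrictOpenι h' (pre i) ≫ b = bi i ≫ 𝔛.restrictOpenι h (V i) :=
      (FSch.Hom.restrictOpen_ι b h' h (V i)).symm
    calc f i ≫ b' ≫ b = (k i ≫ bi' i ≫ bi i) ≫ 𝔛.restrictOpenι h (V i) := by
          show (k i ≫ _) ≫ _ = _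
          rw [Category.assoc, ← Category.assoc _ b' b, e1, Category.assoc, e2, Category.assoc, Category.assoc]
      _ = _ := by rw [hk i]; exact FSch.Hom.restrictOpen_ι c h3 h (V i)
  have hcovn : ∀ (n : ℕ) (y : 𝔛3.X n), ∃ i, y ∈ 𝔛3.lvU h3 n (O i) := fun n y => by
    obtain ⟨i, hi⟩ := Opens.mem_iSup.1 (hV.ge (Set.mem_univ ((c : FSch.Hom 𝔛3 𝔛).app 0 (𝔛3.gInv h3 n y))))
    exact ⟨i, hi⟩
  have hagree : ∀ i i' n, (𝔛3.X n).homOfLE (FBlow.lvU_mono 𝔛3 h3 n (inf_le_left : O i ⊓ O i' ≤ O i)) ≫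
      (f i : FSch.Hom _ 𝔛'').app n =
      (𝔛3.X n).homOfLE (FBlow.lvU_mono 𝔛3 h3 n (inf_le_right : O i ⊓ O i' ≤ O i')) ≫
      (f i' : FSch.Hom _ 𝔛'').app n := by
    intro i i' n
    let W := O i ⊓ O i'
    let r := resR h3 (inf_le_left : O i ⊓ O i' ≤ O i)
    let r' := resR h3 (inf_le_right : O i ⊓ O i' ≤ O i')
    have htfW : BaseTF (isFormal_restrictOpen 𝔛3 h3 W) ((𝔛3.restrictOpenι h3 W ≫ c) ≫ p) := by
      rw [Category.assoc]
      exact baseTF_restrict htf3 W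
    have e := comp_hom_ext hR hp hJ hb hJ' hb' (isFormal_restrictOpen 𝔛3 h3 W)
      (isAdicHom_comp _ _ (isAdicHom_restrictOpenι 𝔛3 h3 W) hc.1) htfW (k := r ≫ f i) (k' := r' ≫ f i')
      (by rw [Category.assoc, hf i, ← Category.assoc, resR_ι])
      (by rw [Category.assoc, hf i', ← Category.assoc, resR_ι])
    exact congrArg (fun φ : 𝔛3.restrictOpen h3 W ⟶ 𝔛'' => (φ : FSch.Hom _ 𝔛'').app n) e
  have hglue : ∀ n, ∃ L : 𝔛3.X n ⟶ 𝔛''.X n, ∀ i, (𝔛3.lvU h3 n (O i)).ι ≫ L = (f i : FSch.Hom _ 𝔛'').app n :=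
    fun n => exists_glue_opens (fun i => 𝔛3.lvU h3 n (O i)) (hcovn n) _ fun i i' => hagree i i' n
  choose L hL using hglue
  let s : 𝔛3 ⟶ 𝔛'' := ⟨L, fun n => hom_ext_opens (fun i => 𝔛3.lvU h3 n (O i)) (hcovn n) fun i => by
    rw [← Category.assoc, hL, ← Category.assoc, (f i : FSch.Hom _ 𝔛'').comm n]
    show (𝔛3.ι n).resLE _ _ _ ≫ _ = _
    rw [← hL (n + 1) i, ← Category.assoc, Scheme.Hom.resLE_comp_ι]⟩
  refine ⟨s, FSch.Hom.ext (funext fun n => hom_ext_opens (fun i => 𝔛3.lvU h3 n (O i)) (hcovn n) fun i => ?_)⟩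
  show (𝔛3.lvU h3 n (O i)).ι ≫ L n ≫ ((b' ≫ b : 𝔛'' ⟶ 𝔛) : FSch.Hom 𝔛'' 𝔛).app n = _
  rw [← Category.assoc, hL]
  exact congrArg (fun φ : 𝔛3.restrictOpen h3 (O i) ⟶ 𝔛 => (φ : FSch.Hom _ 𝔛).app n) (hf i)

end Groth.L20.FBlow
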