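import Groth.Agent.L20.FBlow.Extend
import Groth.Agent.L20.FBlow.Mul

/-!
# Locally finite products of open ideals; blow-ups dominating a family
-/

set_option autoImplicit false
set_option linter.style.haveILetI false
set_option linter.unusedSectionVars false
set_option backward.isDefEq.respectTransparency false
set_option backward.isDefEq.respectTransparency.types false

universe u

open CategoryTheory CategoryTheory.Limits AlgebraicGeometry TopologicalSpace Opposite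

noncomputable section

namespace Groth.L20.FBlow

open _root_.FBlow Groth.L17.FSheaf

section Generic

variable {T : TopCat.{u}} {O : Sheaf (Opens.grothendieckTopology T) CommRingCat.{u}} {ι : Type*}

/-- The product of a finite list of ideal sheaves. -/
def prodL (K : ι → IdealSh O) : List ι → IdealSh O
  | [] => IdealSh.top O
  | i :: l => IdealSh.mul (K i) (prodL K l)

theorem genOn_top (U : Opens T) : GenOn (IdealSh.top O) U ⊤ := fun V i t =>
  ⟨fun _ x hx => ⟨V, le_rfl, hx, by rw [Ideal.map_top]; exact Submodule.mem_top⟩, fun _ => Submodule.mem_top⟩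

theorem genOn_top_of_forall {J : IdealSh O} {U : Opens T} (h : ∀ V ≤ U, J.sect V = ⊤) : GenOn J U ⊤ :=
  (genOn_top U).congr fun V i => (h V i).symm

theorem genOn_prodL {K : ι → IdealSh O} {U : Opens T} {N : ι → Ideal (O.obj.obj (op U))} :
    ∀ l : List ι, (∀ i ∈ l, GenOn (K i) U (N i)) → GenOn (prodL K l) U (l.map N).prod
  | [], _ => by simpa [prodL, Ideal.one_eq_top] using genOn_top (O := O) U
  | i :: l, h => by
    rw [List.map_cons, List.prod_cons]
    exact genOn_mul (h i (List.mem_cons_self ..)) (genOn_prodL l fun j hj => h j (List.mem_cons_of_mem i hj))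

theorem genOn_prodS {K : ι → IdealSh O} {U : Opens T} {N : ι → Ideal (O.obj.obj (op U))} (S : Finset ι)
    (h : ∀ i ∈ S, GenOn (K i) U (N i)) : GenOn (prodL K S.toList) U (∏ i ∈ S, N i) := by
  rw [← Finset.prod_map_toList]
  exact genOn_prodL S.toList fun i hi => h i (Finset.mem_toList.1 hi)

/-- Data of a locally finite family that is trivial off its supports. -/
structure LFFam (ι : Type*) where
  K : ι → IdealSh O
  V : ι → Opens T
  nhd : ι → Finset ι
  cov : ∀ x, ∃ i, x ∈ V i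
  triv : ∀ i j, j ∉ nhd i → ∀ U ≤ V i, (K j).sect U = ⊤
  gen : ∀ i x, ∀ W : Opens T, x ∈ W → ∃ (U : Opens T) (N : Ideal (O.obj.obj (op U))), x ∈ U ∧ U ≤ W ∧ GenOn (K i) U N

variable (F : LFFam (O := O) ι)

theorem LFFam.agree {x : T} {j l : ι} (hxj : x ∈ F.V j) (hxl : x ∈ F.V l) {S S' : Finset ι}
    (hS : F.nhd j ⊆ S) (hS' : F.nhd l ⊆ S') :
    ∃ U : Opens T, x ∈ U ∧ ∀ U' ≤ U, (prodL F.K S.toList).sect U' = (prodL F.K S'.toList).sect U' := by
  classical
  choose U N hxU hUW hg using fun i => F.gen i x (F.V j ⊓ F.V l) ⟨hxj, hxl⟩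
  let T₀ := S ∩ S'
  let U₀ : Opens T := (F.V j ⊓ F.V l) ⊓ T₀.inf U
  have hU₀ : x ∈ U₀ := by
    refine ⟨⟨hxj, hxl⟩, ?_⟩
    show x ∈ ((T₀.inf U : Opens T) : Set T)
    rw [Opens.coe_finset_inf, Finset.inf_eq_iInf, Set.iInf_eq_iInter]
    exact Set.mem_iInter₂.2 fun i _ => hxU i
  let M : ι → Ideal (O.obj.obj (op U₀)) := fun i =>
    if hi : i ∈ T₀ then (N i).map (rO O (inf_le_right.trans (Finset.inf_le hi) : U₀ ≤ U i)) else ⊤
  have hM : ∀ i ∈ S ∪ S', GenOn (F.K i) U₀ (M i) := fun i hi => by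
    by_cases hi' : i ∈ T₀
    · simp only [M, dif_pos hi']
      exact (hg i).mono _
    · simp only [M, dif_neg hi']
      refine genOn_top_of_forall fun U' hU' => ?_
      rcases Finset.mem_union.1 hi with h | h
      · exact F.triv l i (fun hl => hi' (Finset.mem_inter.2 ⟨h, hS' hl⟩)) U' (hU'.trans (inf_le_left.trans inf_le_right))
      · exact F.triv j i (fun hj => hi' (Finset.mem_inter.2 ⟨hS hj, h⟩)) U' (hU'.trans (inf_le_left.trans inf_le_left))
  have h1 : ∀ i, i ∉ T₀ → M i = 1 := fun i hi => by simp only [M, dif_neg hi, Ideal.one_eq_top]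
  have e : ∏ i ∈ S, M i = ∏ i ∈ S', M i := by
    rw [← Finset.prod_subset (Finset.inter_subset_left : T₀ ⊆ S) fun i _ hi => h1 i hi,
      ← Finset.prod_subset (Finset.inter_subset_right : T₀ ⊆ S') fun i _ hi => h1 i hi]
  refine ⟨U₀, hU₀, fun U' hU' => ?_⟩
  exact ((genOn_prodS S fun i hi => hM i (Finset.mem_union_left _ hi)).congr_ideal e).sect_eq
    (genOn_prodS S' fun i hi => hM i (Finset.mem_union_right _ hi)) hU'

/-- The product of the family. -/
def LFFam.prod : IdealSh O :=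
  IdealSh.gen fun W => {t | ∃ l, W ≤ F.V l ∧ t ∈ (prodL F.K (F.nhd l).toList).sect W}

/-- Near every point of a member the product is the finite product. -/
theorem LFFam.genOn_prod {j : ι} {U : Opens T} (hU : U ≤ F.V j) {S : Finset ι} (hS : F.nhd j ⊆ S)
    {N : Ideal (O.obj.obj (op U))} (hN : GenOn (prodL F.K S.toList) U N) : GenOn F.prod U N := by
  refine genOn_gen (fun a ha => ?_) ?_
  · refine F.prod.mem_of_local fun x hx => ?_
    obtain ⟨U', hxU', e⟩ := F.agree (hU hx) (hU hx) hS (subset_refl (F.nhd j))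
    refine ⟨U ⊓ U', inf_le_left, ⟨hx, hxU'⟩, IdealSh.subset_gen _ _ ⟨j, inf_le_left.trans hU, ?_⟩⟩
    rw [← e _ inf_le_right]
    exact IdealSh.map_mem _ _ (hN.le ha)
  · rintro W a ⟨l, hWl, ha⟩ x hxU hxW
    obtain ⟨U', hxU', e⟩ := F.agree (hU hxU) (hWl hxW) hS (subset_refl (F.nhd l))
    let Z : Opens T := U ⊓ W ⊓ U'
    have hZ : x ∈ Z := ⟨⟨hxU, hxW⟩, hxU'⟩
    have h1 : rO O (inf_le_left.trans inf_le_right : Z ≤ W) a ∈ (prodL F.K S.toList).sect Z := by
      rw [e Z inf_le_right]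
      exact IdealSh.map_mem _ _ ha
    obtain ⟨Z', k, hxZ', hZ'⟩ := (hN Z (inf_le_left.trans inf_le_left) _).1 h1 x hZ
    refine ⟨Z', k.trans (inf_le_left.trans inf_le_left), k.trans (inf_le_left.trans inf_le_right), hxZ', ?_⟩
    rw [rO_rO] at hZ'
    exact hZ'

end Generic

variable {R : Type u} [CommRing R] {I : Ideal R} {𝔛 : FSch.Sys.{u}} {p : 𝔛 ⟶ FSch.spf R I} {h : 𝔛.IsFormal}

theorem good_top {U : (𝔛.X 0).Opens} (hU : IsAffineOpen U) : Good p (IdealSh.top (𝔛.Osh h)) U :=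
  ⟨hU, ⊤, Module.Finite.fg_top, ⟨0, le_top⟩, genOn_top U⟩

theorem good_prodL {ι : Type*} {K : ι → IdealSh (𝔛.Osh h)} {U : (𝔛.X 0).Opens} (hU : IsAffineOpen U) :
    ∀ l : List ι, (∀ i ∈ l, Good p (K i) U) → Good p (prodL K l) U
  | [], _ => good_top hU
  | i :: l, hl => (hl i (List.mem_cons_self ..)).mul (good_prodL hU l fun j hj => hl j (List.mem_cons_of_mem i hj))

theorem exists_good_family (hI : I.FG) (hp : FSch.IsAdicHom p) {ι : Type*} (K : ι → IdealSh (𝔛.Osh h))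
    (hK : ∀ i, FBlow.IsCohOpen 𝔛 h (K i)) (x : 𝔛.X 0) :
    ∀ (l : List ι) (W : (𝔛.X 0).Opens), x ∈ W →
      ∃ U : (𝔛.X 0).Opens, x ∈ U ∧ U ≤ W ∧ IsAffineOpen U ∧ ∀ i ∈ l, Good p (K i) U
  | [], W, hx => by
    obtain ⟨_, ⟨U, hU, rfl⟩, hxU, hle⟩ := (𝔛.X 0).isBasis_affineOpens.exists_subset_of_mem_open hx W.2
    exact ⟨U, hxU, hle, hU, fun i hi => absurd hi (List.not_mem_nil)⟩
  | i :: l, W, hx => by
    obtain ⟨U, hxU, hUW, -, hl⟩ := exists_good_family hI hp K hK x l W hx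
    obtain ⟨U', hxU', hU'U, hi⟩ := exists_good p hp hI (hK i) x U hxU
    refine ⟨U', hxU', hU'U.trans hUW, hi.1, fun j hj => ?_⟩
    rcases List.mem_cons.1 hj with rfl | hj
    · exact hi
    · exact (hl j hj).mono p hi.1 hU'U

theorem LFFam.isCohOpen {ι : Type*} (F : LFFam (O := 𝔛.Osh h) ι) (hR : AdicRing.IsBase R I) (hp : FSch.IsAdicHom p)
    (hK : ∀ i, FBlow.IsCohOpen 𝔛 h (F.K i)) : FBlow.IsCohOpen 𝔛 h F.prod :=
  isCohOpen_of_good hR hp fun x => by
    obtain ⟨j, hxj⟩ := F.cov x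
    obtain ⟨U, hxU, hUj, hUa, hU⟩ := exists_good_family (isBase_fg hR) hp F.K hK x (F.nhd j).toList (F.V j) hxj
    obtain ⟨-, N, hfg, hk, hg⟩ := good_prodL hUa _ hU
    exact ⟨U, hxU, hUa, N, hfg, hk, F.genOn_prod hUj (subset_refl _) hg⟩

theorem LFFam.exists_eq_mul {ι : Type*} (F : LFFam (O := 𝔛.Osh h) ι) (hR : AdicRing.IsBase R I)
    (hp : FSch.IsAdicHom p) (hK : ∀ i, FBlow.IsCohOpen 𝔛 h (F.K i)) (i : ι) :
    ∃ J' : IdealSh (𝔛.Osh h), FBlow.IsCohOpen 𝔛 h J' ∧ F.prod = IdealSh.mul (F.K i) J' := by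
  classical
  let G : LFFam (O := 𝔛.Osh h) ι :=
    { K := Function.update F.K i (IdealSh.top _)
      V := F.V
      nhd := F.nhd
      cov := F.cov
      triv := fun a b hb U hU => by
        by_cases hbi : b = i
        · subst hbi; rw [Function.update_self]; rfl
        · rw [Function.update_of_ne hbi]; exact F.triv a b hb U hU
      gen := fun a x W hx => by
        by_cases ha : a = i
        · subst ha; exact ⟨W, ⊤, hx, le_rfl, by rw [Function.update_self]; exact genOn_top W⟩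
        · rw [Function.update_of_ne ha]; exact F.gen a x W hx }
  have hG : ∀ k, FBlow.IsCohOpen 𝔛 h (G.K k) := fun k => by
    by_cases hk : k = i
    · subst hk
      show FBlow.IsCohOpen 𝔛 h (Function.update F.K k _ k)
      rw [Function.update_self]
      exact isCohOpen_of_good hR hp fun x => by
        obtain ⟨_, ⟨U, hU, rfl⟩, hxU, -⟩ :=
          (𝔛.X 0).isBasis_affineOpens.exists_subset_of_mem_open (Set.mem_univ x) isOpen_univ
        exact ⟨U, hxU, good_top hU⟩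
    · show FBlow.IsCohOpen 𝔛 h (Function.update F.K i _ k)
      rw [Function.update_of_ne hk]
      exact hK k
  refine ⟨G.prod, G.isCohOpen hR hp hG, eq_of_genOn_local fun x => ?_⟩
  obtain ⟨j, hxj⟩ := F.cov x
  let S : Finset ι := insert i (F.nhd j)
  obtain ⟨U, hxU, hUj, -, hU⟩ := exists_good_family (isBase_fg hR) hp F.K hK x S.toList (F.V j) hxj
  choose! N hN using fun k (hk : k ∈ S) => (hU k (Finset.mem_toList.2 hk)).2
  have hFg : ∀ k ∈ S, GenOn (F.K k) U (N k) := fun k hk => (hN k hk).2.2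
  refine ⟨U, _, hxU, F.genOn_prod hUj (Finset.subset_insert i _) (genOn_prodS S hFg), ?_⟩
  have hGg : ∀ k ∈ S, GenOn (G.K k) U (Function.update N i ⊤ k) := fun k hk => by
    show GenOn (Function.update F.K i _ k) U _
    by_cases hki : k = i
    · subst hki
      rw [Function.update_self, Function.update_self]
      exact genOn_top U
    · rw [Function.update_of_ne hki, Function.update_of_ne hki]
      exact hFg k hk
  refine (genOn_mul (hFg i (Finset.mem_insert_self i _))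
    (G.genOn_prod hUj (Finset.subset_insert i _) (genOn_prodS S hGg))).congr_ideal ?_
  rw [← Finset.mul_prod_erase S N (Finset.mem_insert_self i _),
    ← Finset.mul_prod_erase S (Function.update N i ⊤) (Finset.mem_insert_self i _), Function.update_self,
    ← Ideal.one_eq_top, one_mul]
  exact congrArg (N i * ·) (Finset.prod_congr rfl fun k hk => Function.update_of_ne (Finset.ne_of_mem_erase hk) _ _)

/-- An admissible blow-up dominates a locally finite family of admissible blow-ups of quasi-compact opens. -/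
theorem exists_dominating (hR : AdicRing.IsBase R I) (hp : FSch.IsAdicHom p)
    (hfp : ∀ n, LocallyOfFinitePresentation ((p : FSch.Hom 𝔛 (FSch.spf R I)).app n))
    [QuasiSeparatedSpace (𝔛.X 0)] {ι : Type u} (V : ι → (𝔛.X 0).Opens) (hV : (⨆ i, V i) = ⊤)
    (hVc : ∀ i, IsCompact (V i : Set (𝔛.X 0))) (hVf : ∀ i, Set.Finite {j : ι | V i ⊓ V j ≠ ⊥})
    (hVi : ∀ i, (𝔛.restrictOpen h (V i)).IsFormal)
    (Ji : ∀ i, IdealSh ((𝔛.restrictOpen h (V i)).Osh (hVi i)))
    (hJi : ∀ i, FBlow.IsCohOpen (𝔛.restrictOpen h (V i)) (hVi i) (Ji i))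
    (𝔛i : ι → FSch.Sys.{u}) (hi : ∀ i, (𝔛i i).IsFormal) (bi : ∀ i, 𝔛i i ⟶ 𝔛.restrictOpen h (V i))
    (hbi : ∀ i, FBlow.IsAdmBlowUp (bi i) (hi i) (hVi i) (Ji i)) :
    ∃ (J : IdealSh (𝔛.Osh h)) (𝔛' : FSch.Sys.{u}) (h' : 𝔛'.IsFormal) (b : 𝔛' ⟶ 𝔛),
      FBlow.IsCohOpen 𝔛 h J ∧ FBlow.IsAdmBlowUp b h' h J ∧
      ∀ i, ∃! k : 𝔛'.restrictOpen h' (((b : FSch.Hom 𝔛' 𝔛).app 0) ⁻¹ᵁ (V i)) ⟶ 𝔛i i,
        k ≫ bi i = FSch.Hom.restrictOpen b h' h (V i) := by
  classical
  have hext : ∀ i, ∃ K : IdealSh (𝔛.Osh h), FBlow.IsCohOpen 𝔛 h K ∧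
      FBlow.idealMap (𝔛.restrictOpenι h (V i)) (hVi i) h K = Ji i ∧
      ∀ U : (𝔛.X 0).Opens, U ⊓ V i = ⊥ → K.sect U = ⊤ := fun i => by
    obtain ⟨W, hWc, hW⟩ := exists_compact_nhd_closure V hV hVc hVf (V i) (hVc i)
    exact exists_extension hR hp hfp (hVc i) hWc hW (hVi i) (hJi i)
  choose K hK hKi hKtop using hext
  let F : LFFam (O := 𝔛.Osh h) ι :=
    { K := K
      V := V
      nhd := fun i => (hVf i).toFinset
      cov := fun x => Opens.mem_iSup.1 (hV.ge (Set.mem_univ x))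
      triv := fun i j hj U hU => hKtop j U (le_bot_iff.1 fun x hx => by
        have e : V i ⊓ V j = ⊥ := of_not_not fun he => hj ((hVf i).mem_toFinset.2 he)
        exact e.le ⟨hU hx.1, hx.2⟩)
      gen := fun i x W hx => by
        obtain ⟨U, hxU, hUW, -, N, -, -, hg⟩ := exists_good p hp (isBase_fg hR) (hK i) x W hx
        exact ⟨U, N, hxU, hUW, hg⟩ }
  have hJ : FBlow.IsCohOpen 𝔛 h F.prod := F.isCohOpen hR hp hK
  obtain ⟨𝔛', h', b, hb⟩ := exists_isAdmBlowUp hR hp hfp _ hJ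
  refine ⟨_, 𝔛', h', b, hJ, hb, fun i => ?_⟩
  obtain ⟨J', hJ', hmul⟩ := F.exists_eq_mul hR hp hK i
  have hinv := hb.2.1
  rw [hmul, idealMap_mul b p hR hp (hK i) hJ'] at hinv
  have hinvK : (FBlow.idealMap b h' h (K i)).IsInvertible := by
    refine isInvertible_of_mul hinv fun y => ?_
    obtain ⟨U, hyU, -, -, N, hN, -, gN⟩ :=
      exists_good p hp (isBase_fg hR) (hK i) ((b : FSch.Hom 𝔛' 𝔛).app 0 y) ⊤ trivial
    obtain ⟨U', hyU', hle, -, M, hM, -, gM⟩ := exists_good p hp (isBase_fg hR) hJ' _ U hyU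
    exact ⟨_, _, _, hyU', (hN.map _).map _, hM.map _, (gN.mono hle).idealMap b h' h le_rfl,
      gM.idealMap b h' h le_rfl⟩
  let U := ((b : FSch.Hom 𝔛' 𝔛).app 0) ⁻¹ᵁ (V i)
  let g : 𝔛'.restrictOpen h' U ⟶ 𝔛.restrictOpen h (V i) := FSch.Hom.restrictOpen b h' h (V i)
  have hg : g ≫ 𝔛.restrictOpenι h (V i) = 𝔛'.restrictOpenι h' U ≫ b := FSch.Hom.restrictOpen_ι b h' h (V i)
  have hga : FSch.IsAdicHom g := isAdicHom_of_comp g (𝔛.restrictOpenι h (V i))
    (by rw [hg]; exact isAdicHom_comp _ _ (isAdicHom_restrictOpenι 𝔛' h' U) hb.1) (isAdicHom_restrictOpenι 𝔛 h (V i))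
  refine (hbi i).2.2 _ (isFormal_restrictOpen 𝔛' h' U) g hga ?_
  rw [← hKi i, idealMap_comp (𝔛.restrictOpenι h (V i)) (hVi i) h g (isFormal_restrictOpen 𝔛' h' U), hg,
    ← idealMap_comp b h' h (𝔛'.restrictOpenι h' U) (isFormal_restrictOpen 𝔛' h' U)]
  exact isInvertible_idealMap _ hinvK

end Groth.L20.FBlow
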