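import Groth.Agent.L20.FBlow.LevelData
import Groth.Agent.L20.FBlow.Family
import Groth.Agent.L06.BlowComp.Main

/-!
# An ideal on a blow-up, twisted by a power of the exceptional ideal, comes from the base: over a good open
-/

set_option autoImplicit false
set_option linter.style.haveILetI false
set_option linter.unusedSectionVars false
set_option backward.isDefEq.respectTransparency false
set_option backward.isDefEq.respectTransparency.types false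

universe u

open CategoryTheory CategoryTheory.Limits AlgebraicGeometry TopologicalSpace Opposite

noncomputable section

namespace Groth.L20.FBlow

open _root_.FBlow Groth.L17.FSheaf

section Twist

variable {T : TopCat.{u}} {O : Sheaf (Opens.grothendieckTopology T) CommRingCat.{u}}

/-- `K * L ^ n`. -/
def twist (K L : IdealSh O) : ℕ → IdealSh O
  | 0 => K
  | n + 1 => IdealSh.mul (twist K L n) L

theorem genOn_twist {K L : IdealSh O} {U : Opens T} {M E : Ideal (O.obj.obj (op U))} (hK : GenOn K U M)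
    (hL : GenOn L U E) : ∀ n, GenOn (twist K L n) U (M * E ^ n)
  | 0 => by rw [pow_zero, mul_one]; exact hK
  | n + 1 => by rw [pow_succ, ← mul_assoc]; exact genOn_mul (genOn_twist hK hL n) hL

end Twist

/-- Ideals of a push forward, read on any open equal to the inverse image. -/
theorem ideal_map_appLE {X Y : Scheme.{u}} (f : Y ⟶ X) [QuasiCompact f] (M : Y.IdealSheafData) (U : X.affineOpens)
    (V : Y.affineOpens) (e : V.1 = f ⁻¹ᵁ U.1) :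
    (M.map f).ideal U = (M.ideal V).comap (f.appLE U.1 V.1 e.le).hom := by
  obtain ⟨V, hV⟩ := V
  dsimp only at e
  subst e
  rw [Scheme.IdealSheafData.ideal_map M f U hV, Scheme.Hom.app_eq_appLE]

/-- The sections of an open ideal of a level over an affine open. -/
theorem ofLevel_sect {𝔛 : FSch.Sys.{u}} {h : 𝔛.IsFormal} {V : (𝔛.X 0).Opens} (hV : IsAffineOpen V) (n : ℕ)
    (𝒜 : (𝔛.X n).IdealSheafData) :
    (FBlow.ofLevel 𝔛 h n 𝒜).sect V =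
      (𝒜.ideal ⟨𝔛.lvU h n V, isAffineOpen_lvU 𝔛 h hV n⟩).comap (pR 𝔛 h n V) := by
  have e : (IdealSh.ofData 𝒜).sect (𝔛.lvU h n V) = 𝒜.ideal ⟨𝔛.lvU h n V, isAffineOpen_lvU 𝔛 h hV n⟩ :=
    sect_eq_of_genOn (isAffineOpen_lvU 𝔛 h hV n) (genOn_ofData 𝒜 ⟨_, isAffineOpen_lvU 𝔛 h hV n⟩)
  exact Ideal.ext fun t => (mem_ofLevel_iff 𝔛 h n 𝒜 V t).trans
    ((SetLike.ext_iff.1 e _).trans Ideal.mem_comap.symm)

variable {R : Type u} [CommRing R] {I : Ideal R} {𝔛 : FSch.Sys.{u}} {p : 𝔛 ⟶ FSch.spf R I} {h : 𝔛.IsFormal}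

/-- Functions of the base piece on an open of the scheme blow-up. -/
def thetaP {A : Type u} [CommRing A] {P : Scheme.{u}} (q : P ⟶ Spec (CommRingCat.of A)) (W : P.Opens) :
    A →+* Γ(P, W) :=
  (q.appLE ⊤ W le_top).hom.comp (Scheme.ΓSpecIso (CommRingCat.of A)).inv.hom

/-- Sections of the base on a piece factor through the scheme blow-up. -/
theorem fR_eq_sS {U : (𝔛.X 0).Opens} {𝔅 : FSch.Sys.{u}} (hB : 𝔅.IsFormal) (bU : 𝔅 ⟶ 𝔛.restrictOpen h U)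
    {P : Scheme.{u}} (q : P ⟶ Spec (CommRingCat.of (Sec 𝔛 h U))) (d : ∀ n, 𝔅.X n ⟶ P)
    (hd : ∀ n, 𝔅.ι n ≫ d (n + 1) = d n)
    (hsq : ∀ n, IsPullback (d n) ((bU : FSch.Hom 𝔅 (𝔛.restrictOpen h U)).app n) q (pieceC U n))
    {g : 𝔅 ⟶ 𝔛} (hg : bU ≫ 𝔛.restrictOpenι h U = g) (W : P.Opens) {V : (𝔅.X 0).Opens} (v : V ≤ d 0 ⁻¹ᵁ W)
    (e : V ≤ (g : FSch.Hom 𝔅 𝔛).app 0 ⁻¹ᵁ U) (a : Sec 𝔛 h U) :
    fR g hB h U V e a = sS d hd hB W V v (thetaP q W a) := by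
  subst hg
  let hF := isFormal_restrictOpen 𝔛 h U
  have hle : (⊤ : ((𝔛.restrictOpen h U).X 0).Opens) ≤ (𝔛.restrictOpenι h U : FSch.Hom _ _).app 0 ⁻¹ᵁ U :=
    fun y _ => (range_restrictOpenι (hX := h) U).le ⟨y, rfl⟩
  rw [← fR_fR (𝔛.restrictOpenι h U) hF h bU hB hle (V := ⊤) (W := V) le_top e a, fR_restrictOpenι U hle]
  let ed : ∀ n, 𝔅.X n ⟶ Spec (CommRingCat.of (Sec 𝔛 h U)) := fun n => d n ≫ q
  have hed : ∀ n, 𝔅.ι n ≫ ed (n + 1) = ed n := fun n => by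
    show 𝔅.ι n ≫ d (n + 1) ≫ q = d n ≫ q
    rw [← Category.assoc, hd]
  refine Eq.trans ?_ (sS_comp (hY := hB) d hd q ed hed (fun n => rfl) (W := ⊤) (W' := W) le_top v le_top
    ((Scheme.ΓSpecIso (CommRingCat.of (Sec 𝔛 h U))).inv a))
  exact fR_sS bU hB hF (pieceC U) (pieceC_comm U) ed hed (fun n => (hsq n).w.symm) (U := ⊤) le_top le_top le_top _

set_option maxHeartbeats 1600000 in
/-- Over a good open, a twist of an open ideal of a blow-up by a high power of the exceptional ideal is generated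
from the base. -/
theorem exists_twist_piece (hR : AdicRing.IsBase R I) (hp : FSch.IsAdicHom p)
    (hfp : ∀ n, LocallyOfFinitePresentation ((p : FSch.Hom 𝔛 (FSch.spf R I)).app n))
    {J : IdealSh (𝔛.Osh h)} {𝔛' : FSch.Sys.{u}} {h' : 𝔛'.IsFormal} {b : 𝔛' ⟶ 𝔛}
    (hb : FBlow.IsAdmBlowUp b h' h J) (n : ℕ) (𝒜 : (𝔛'.X n).IdealSheafData) (h𝒜 : FSch.IdealFT 𝒜)
    {U : (𝔛.X 0).Opens} (hU : Good p J U) :
    ∃ N : ℕ, ∀ N' ≥ N, ∃ 𝔠 : Ideal (Sec 𝔛 h U), 𝔠.FG ∧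
      GenOn (twist (FBlow.ofLevel 𝔛' h' n 𝒜) (FBlow.idealMap b h' h J) N')
        ((b : FSch.Hom 𝔛' 𝔛).app 0 ⁻¹ᵁ U) (𝔠.map (fR b h' h U _ le_rfl)) := by
  obtain ⟨hUa, 𝔞, hfg, -, hg⟩ := hU
  suffices key : ∃ (N : ℕ) (𝔠 : Ideal (Sec 𝔛 h U)), 𝔠.FG ∧
      GenOn (twist (FBlow.ofLevel 𝔛' h' n 𝒜) (FBlow.idealMap b h' h J) N)
        ((b : FSch.Hom 𝔛' 𝔛).app 0 ⁻¹ᵁ U) (𝔠.map (fR b h' h U _ le_rfl)) by
    obtain ⟨N, hN⟩ := key
    refine ⟨N, fun N' hN' => ?_⟩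
    induction N', hN' using Nat.le_induction with
    | base => exact hN
    | succ m _ ih =>
      obtain ⟨𝔠, h𝔠, hgen⟩ := ih
      refine ⟨𝔠 * 𝔞, h𝔠.mul hfg, ?_⟩
      rw [Ideal.map_mul]
      exact genOn_mul hgen (hg.idealMap b h' h le_rfl)
  have hI := isBase_fg hR
  obtain ⟨𝔅, hB, bU, P, q, d, hbU, hqf, hq, hd, hsq⟩ := exists_local_of_gen p hp hfp hR hUa hfg hg
  haveI := hqf
  have hinv := hbU.2.1
  rw [idealMap_comp (𝔛.restrictOpenι h U) (isFormal_restrictOpen 𝔛 h U) h bU hB] at hinv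
  obtain ⟨k, hk, -⟩ := hb.2.2 𝔅 hB (bU ≫ 𝔛.restrictOpenι h U)
    (isAdicHom_comp _ _ hbU.1 (isAdicHom_restrictOpenι 𝔛 h U)) hinv
  have hbc : IsBC b (𝔛.restrictOpenι h U) bU k :=
    isBC_of_isAdmBlowUp (isAdicHom_restrictOpenι 𝔛 h U) hb hbU hk
  haveI := fun m => hbc.isOpenImmersion m
  letI := (bS p h U).toAlgebra
  -- the piece is cut out in the scheme blow-up by the powers of the ideal of definition
  have hthick : IsThick (𝔛.restrictOpen h U) (pieceC U)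
      (FSch.idealSpec (Sec 𝔛 h U) (I.map (algebraMap R (Sec 𝔛 h U)))) := fun m => isThick_jS p h hp hUa hI m
  have hI' := isThick_of_isPullback hthick q hsq
  haveI := (hI' n).1
  haveI : CompactSpace (Spec (CommRingCat.of (Sec 𝔛 h U))) := inferInstance
  -- the ideal as an ideal of the scheme blow-up
  let 𝒜' : (𝔅.X n).IdealSheafData := 𝒜.comap ((k : FSch.Hom 𝔅 𝔛').app n)
  have h𝒜' : BlowUp.IsFiniteTypeIdeal 𝒜' := isFiniteType_comap h𝒜 _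
  have h𝓘 : BlowUp.IsFiniteTypeIdeal
      ((FSch.idealSpec (Sec 𝔛 h U) (I.map (algebraMap R (Sec 𝔛 h U)))).comap q) :=
    isFiniteType_comap (isFiniteType_idealSpec (hI.map _)) q
  let 𝓑 : P.IdealSheafData := 𝒜'.map (d n)
  have hVaff : ∀ W : P.affineOpens, IsAffineOpen (d 0 ⁻¹ᵁ W.1) := fun W => by
    haveI := (hI' 0).1
    exact W.2.preimage (d 0)
  have hlv : ∀ W : P.affineOpens, 𝔅.lvU hB n (d 0 ⁻¹ᵁ W.1) = d n ⁻¹ᵁ W.1 := fun W =>
    (FSch.lvU_p 𝔅 hB d hd n W.1).symm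
  have h𝓑 : ∀ W : P.affineOpens, 𝓑.ideal W =
      (𝒜'.ideal ⟨_, isAffineOpen_lvU 𝔅 hB (hVaff W) n⟩).comap (qd W.1 hB hd n) := fun W =>
    ideal_map_appLE (d n) 𝒜' W ⟨_, isAffineOpen_lvU 𝔅 hB (hVaff W) n⟩ (hlv W)
  have h𝓑fg : BlowUp.IsFiniteTypeIdeal 𝓑 := fun W => by
    obtain ⟨hs, hker⟩ := qd_spec (h := hB) (hd := hd) hI' W.2 n
    obtain ⟨S, hS⟩ := h𝒜' ⟨_, isAffineOpen_lvU 𝔅 hB (hVaff W) n⟩
    choose g hg using hs
    have e : (𝒜'.ideal ⟨_, isAffineOpen_lvU 𝔅 hB (hVaff W) n⟩).comap (qd W.1 hB hd n) =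
        Ideal.span (g '' ↑S) ⊔ RingHom.ker (qd W.1 hB hd n) := by
      rw [← Ideal.comap_map_of_surjective' _ (fun y => ⟨g y, hg y⟩), Ideal.map_span, Set.image_image]
      simp only [hg, Set.image_id']
      rw [hS]
    rw [h𝓑 W, e, hker]
    exact Submodule.FG.sup (Submodule.fg_span (S.finite_toSet.image g)) (Ideal.FG.pow (h𝓘 W))
  -- descend on the scheme
  obtain ⟨N, K, hK, hKq⟩ := Groth.L06.BlowComp.exists_comap_eq hq (isFiniteType_idealSpec hfg) h𝓑fg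
  let 𝔠 : Ideal (Sec 𝔛 h U) := (K.ideal ⟨⊤, isAffineOpen_top (Spec (CommRingCat.of (Sec 𝔛 h U)))⟩).map
    (Scheme.ΓSpecIso (CommRingCat.of (Sec 𝔛 h U))).hom.hom
  have hθK : ∀ W : P.affineOpens, (K.comap q).ideal W = 𝔠.map (thetaP q W.1) := fun W => by
    rw [Groth.L22.Ideals.comap_ideal q K ⟨⊤, isAffineOpen_top _⟩ W (fun _ _ => trivial), thetaP,
      ← Ideal.map_map, Ideal.map_map (Scheme.ΓSpecIso (CommRingCat.of (Sec 𝔛 h U))).hom.hom, ← CommRingCat.hom_comp,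
      Iso.hom_inv_id, CommRingCat.hom_id]
    exact congrArg (Ideal.map _) (Ideal.map_id _).symm
  have hθ𝔞 : ∀ W : P.affineOpens,
      ((FSch.idealSpec (Sec 𝔛 h U) 𝔞).comap q).ideal W = 𝔞.map (thetaP q W.1) := fun W => by
    rw [Groth.L22.Ideals.comap_ideal q _ ⟨⊤, isAffineOpen_top _⟩ W (fun _ _ => trivial), idealSpec_eq,
      Groth.L13.BU.idealOf_top, thetaP, Ideal.map_map]
  refine ⟨N + 1, 𝔠, (hK _).map _, GenOn.of_local fun z hz => ?_⟩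
  obtain ⟨y, hy⟩ := (range_restrictOpenι (hX := h) U).ge hz
  obtain ⟨w, rfl, -⟩ := Scheme.exists_preimage_of_isPullback (hbc 0) z y hy.symm
  obtain ⟨_, ⟨W₀, hW₀, rfl⟩, hwW, -⟩ :=
    P.isBasis_affineOpens.exists_subset_of_mem_open (Set.mem_univ (d 0 w)) isOpen_univ
  let W : P.affineOpens := ⟨W₀, hW₀⟩
  let V : (𝔅.X 0).Opens := d 0 ⁻¹ᵁ W.1
  have hVpre : img k V ≤ (b : FSch.Hom 𝔛' 𝔛).app 0 ⁻¹ᵁ U := by
    rintro _ ⟨v, -, rfl⟩
    show ((k ≫ b : 𝔅 ⟶ 𝔛) : FSch.Hom 𝔅 𝔛).app 0 v ∈ U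
    rw [hbc.w]
    exact (range_restrictOpenι (hX := h) U).le ⟨_, rfl⟩
  refine ⟨img k V, hVpre, ⟨w, hwW, rfl⟩, ?_⟩
  have himg : IsAffineOpen (img k V) := (hVaff W).image_of_isOpenImmersion _
  let τ : Sec 𝔛' h' (img k V) →+* Sec 𝔅 hB V := fR k hB h' (img k V) V (le_preimage_img k V)
  have hτ : Function.Bijective τ := fR_bijective h' hB k V
  let σ : Γ(P, W.1) →+* Sec 𝔅 hB V := sS d hd hB W.1 V le_rfl
  let M₀ : Ideal (Sec 𝔛' h' (img k V)) :=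
    (𝒜.ideal ⟨𝔛'.lvU h' n (img k V), isAffineOpen_lvU 𝔛' h' himg n⟩).comap (pR 𝔛' h' n (img k V))
  let eU : V ≤ (k ≫ b : FSch.Hom 𝔅 𝔛).app 0 ⁻¹ᵁ U := fun v hv => hVpre ⟨v, hv, rfl⟩
  have hσ : ∀ a, fR (k ≫ b) hB h U V eU a = σ (thetaP q W.1 a) := fun a =>
    fR_eq_sS hB bU q d hd hsq hbc.w.symm W.1 le_rfl eU a
  have hτb : ∀ a, τ (fR b h' h U (img k V) hVpre a) = σ (thetaP q W.1 a) := fun a =>
    (fR_fR b h' h k hB hVpre (le_preimage_img k V) eU a).trans (hσ a)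
  have hmapτ : ∀ N₀ : Ideal (Sec 𝔛 h U), (N₀.map (fR b h' h U (img k V) hVpre)).map τ =
      (N₀.map (thetaP q W.1)).map σ := fun N₀ => by
    rw [Ideal.map_map, Ideal.map_map]
    exact congrArg (Ideal.map · N₀) (RingHom.ext hτb)
  have hle := le_preimage_f k hB h' (le_preimage_img k V) n
  have hbijn : Function.Bijective (((k : FSch.Hom 𝔅 𝔛').app n).appLE (𝔛'.lvU h' n (img k V)) (𝔅.lvU hB n V) hle).hom :=
    bijective_appLE_image _ (image_lvU k n V) _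
  have hA' : 𝒜'.ideal ⟨𝔅.lvU hB n V, isAffineOpen_lvU 𝔅 hB (hVaff W) n⟩ =
      (𝒜.ideal ⟨𝔛'.lvU h' n (img k V), isAffineOpen_lvU 𝔛' h' himg n⟩).map
        (((k : FSch.Hom 𝔅 𝔛').app n).appLE (𝔛'.lvU h' n (img k V)) (𝔅.lvU hB n V) hle).hom :=
    Groth.L22.Ideals.comap_ideal _ 𝒜 ⟨_, isAffineOpen_lvU 𝔛' h' himg n⟩ ⟨_, isAffineOpen_lvU 𝔅 hB (hVaff W) n⟩ hle
  have hMτ : M₀.map τ = (𝓑.ideal W).map σ := by
    have h1 : M₀.map τ = (𝒜'.ideal ⟨𝔅.lvU hB n V, isAffineOpen_lvU 𝔅 hB (hVaff W) n⟩).comap (pR 𝔅 hB n V) := by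
      refine le_antisymm (Ideal.map_le_iff_le_comap.2 fun x hx => ?_) fun y hy => ?_
      · refine Ideal.mem_comap.2 (Ideal.mem_comap.2 ?_)
        rw [pR_fR k hB h' (le_preimage_img k V) n x, hA']
        exact Ideal.mem_map_of_mem _ hx
      · obtain ⟨x, rfl⟩ := hτ.2 y
        refine Ideal.mem_map_of_mem _ ?_
        rw [Ideal.mem_comap, hA', pR_fR k hB h' (le_preimage_img k V) n x] at hy
        obtain ⟨c, hc, hc'⟩ := (Ideal.mem_map_iff_of_surjective _ hbijn.2).1 hy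
        exact Ideal.mem_comap.2 ((hbijn.1 hc') ▸ hc)
    rw [h1, h𝓑 W]
    refine le_antisymm (fun y hy => ?_) (Ideal.map_le_iff_le_comap.2 fun c hc => ?_)
    · obtain ⟨c, hc⟩ := (qd_spec (h := hB) (hd := hd) hI' W.2 n).1 (pR 𝔅 hB n V y)
      have hcm : c ∈ (𝒜'.ideal ⟨_, isAffineOpen_lvU 𝔅 hB (hVaff W) n⟩).comap (qd W.1 hB hd n) := by
        rw [Ideal.mem_comap, hc]
        exact hy
      have hd' : y - σ c ∈ RingHom.ker (pR 𝔅 hB n V) := by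
        rw [RingHom.mem_ker, map_sub, pR_sS_self, hc, sub_self]
      have hadic : FSch.IsAdicHom (k ≫ b ≫ p) := by
        rw [← Category.assoc, hbc.w]
        exact isAdicHom_comp _ _ (isAdicHom_comp _ _ hbU.1 (isAdicHom_restrictOpenι 𝔛 h U)) hp
      rw [ker_pR_eq (k ≫ b ≫ p) hadic hI (hVaff W) n] at hd'
      have hle2 : (I ^ (n + 1)).map (bS (k ≫ b ≫ p) hB V) ≤
          ((𝒜'.ideal ⟨_, isAffineOpen_lvU 𝔅 hB (hVaff W) n⟩).comap (qd W.1 hB hd n)).map σ := by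
        refine Ideal.map_le_iff_le_comap.2 fun r hr => ?_
        have e1 : bS (k ≫ b ≫ p) hB V r = σ (thetaP q W.1 (bS p h U r)) := by
          rw [← hσ, fR_bS (k ≫ b) p eU r]
          exact congrArg (fun ψ : 𝔅 ⟶ FSch.spf R I => bS ψ hB V r) (Category.assoc k b p).symm
        rw [Ideal.mem_comap, e1]
        refine Ideal.mem_map_of_mem σ ?_
        rw [Ideal.mem_comap, ← pR_sS_self (h := hB) W.1 n]
        change pR 𝔅 hB n V (σ (thetaP q W.1 (bS p h U r))) ∈ _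
        rw [← e1, show pR 𝔅 hB n V (bS (k ≫ b ≫ p) hB V r) = 0 from RingHom.mem_ker.1 (by
          rw [ker_pR_eq (k ≫ b ≫ p) hadic hI (hVaff W) n]
          exact Ideal.mem_map_of_mem _ hr)]
        exact Submodule.zero_mem _
      have := add_mem (Ideal.mem_map_of_mem σ hcm) (hle2 hd')
      rwa [add_sub_cancel] at this
    · refine Ideal.mem_comap.2 (Ideal.mem_comap.2 ?_)
      rw [pR_sS_self]
      exact hc
  have hJgen : GenOn (FBlow.idealMap b h' h J) (img k V) (𝔞.map (fR b h' h U (img k V) hVpre)) :=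
    hg.idealMap b h' h hVpre
  have hKgen : GenOn (FBlow.ofLevel 𝔛' h' n 𝒜) (img k V) M₀ :=
    genOn_ofLevel (b ≫ p) (isAdicHom_comp b p hb.1 hp) hI himg n 𝒜
  have heq : M₀ * (𝔞.map (fR b h' h U (img k V) hVpre)) ^ (N + 1) =
      𝔠.map (fR b h' h U (img k V) hVpre) := by
    have hinj : ∀ A B : Ideal (Sec 𝔛' h' (img k V)), A.map τ = B.map τ → A = B := fun A B hAB => by
      rw [← Ideal.comap_map_of_bijective τ hτ (I := A), hAB, Ideal.comap_map_of_bijective τ hτ]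
    refine hinj _ _ ?_
    rw [Ideal.map_mul, Ideal.map_pow, hMτ, hmapτ, hmapτ, ← Ideal.map_pow, ← Ideal.map_mul, ← hθK W, hKq,
      Scheme.IdealSheafData.ideal_mul, Pi.mul_apply, Scheme.IdealSheafData.ideal_pow, Pi.pow_apply, hθ𝔞 W]
  refine (genOn_twist hKgen hJgen (N + 1)).congr_ideal ?_
  refine heq.trans ?_
  refine Eq.trans ?_ (Ideal.map_map (I := 𝔠) (fR b h' h U _ le_rfl) (rO (𝔛'.Osh h') hVpre)).symm
  congr 1
  exact RingHom.ext fun a => (resS_fR b h' h le_rfl hVpre a).symm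

end Groth.L20.FBlow
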