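import Groth.Agent.L20.FBlow.IdealExtLight
import Groth.Agent.L20.FBlow.Coh

/-!
# Extending finite type ideals of an open, trivially off its closure
-/

set_option autoImplicit false
set_option linter.style.haveILetI false
set_option linter.unusedSectionVars false
set_option backward.isDefEq.respectTransparency false
set_option backward.isDefEq.respectTransparency.types false

universe u

open CategoryTheory CategoryTheory.Limits AlgebraicGeometry TopologicalSpace Opposite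

noncomputable section

namespace Groth.L20.FBlow

open _root_.FBlow

variable {X : Scheme.{u}}

/-- The push forward to the scheme of an ideal of an open restricts to it. -/
theorem comap_map_openι (W : X.Opens) [QuasiCompact W.ι] (𝓘 : (W : Scheme.{u}).IdealSheafData) :
    (𝓘.map W.ι).comap W.ι = 𝓘 := by
  refine le_antisymm (Scheme.IdealSheafData.comap_map_le _ _) fun O a ha => ?_
  have hpre : W.ι ⁻¹ᵁ (W.ι ''ᵁ O.1) = O.1 := W.ι.preimage_image_eq O.1
  have hW0 : IsAffineOpen (W.ι ⁻¹ᵁ (W.ι ''ᵁ O.1)) := by rw [hpre]; exact O.2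
  rw [Scheme.IdealSheafData.ideal_comap_of_isOpenImmersion, Ideal.mem_comap,
    Scheme.IdealSheafData.ideal_map 𝓘 W.ι _ hW0, Ideal.mem_comap]
  have h2 : (W.ι.app (W.ι ''ᵁ O.1)).hom ((W.ι.appIso O.1).inv.hom a) =
      ((W : Scheme.{u}).presheaf.map (eqToHom hpre).op).hom a := congrArg (fun φ => φ.hom a) (W.ι.appIso_inv_app O.1)
  rw [h2]
  exact (𝓘.map_ideal (U := ⟨_, hW0⟩) (V := O) hpre.le).le (Ideal.mem_map_of_mem _ ha)

/-- An ideal is finitely generated on an affine open of `W` when its restriction to `W` is of finite type. -/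
theorem fg_ideal_of_comap {W : X.Opens} {L : X.IdealSheafData} (h : BlowUp.IsFiniteTypeIdeal (L.comap W.ι))
    (O : X.affineOpens) (hO : O.1 ≤ W) : (L.ideal O).FG := by
  have himg : W.ι ''ᵁ (W.ι ⁻¹ᵁ O.1) = O.1 := by
    rw [W.ι.image_preimage_eq_opensRange_inf, Scheme.Opens.opensRange_ι, inf_eq_right.2 hO]
  let O' : (W : Scheme.{u}).affineOpens := ⟨W.ι ⁻¹ᵁ O.1, (W.ι.isAffineOpen_iff_of_isOpenImmersion).1 (by
    rw [himg]; exact O.2)⟩
  let O'' : X.affineOpens := ⟨W.ι ''ᵁ O'.1, O'.2.image_of_isOpenImmersion W.ι⟩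
  have e : O'' = O := Subtype.ext himg
  rw [← e]
  have h1 : (L.comap W.ι).ideal O' = (L.ideal O'').comap (W.ι.appIso O'.1).inv.hom :=
    Scheme.IdealSheafData.ideal_comap_of_isOpenImmersion L W.ι O'
  have h2 : L.ideal O'' = ((L.comap W.ι).ideal O').map (W.ι.appIso O'.1).inv.hom := by
    rw [h1, Ideal.map_comap_of_surjective _ (ConcreteCategory.bijective_of_isIso (W.ι.appIso O'.1).inv).2]
  rw [h2]
  exact (h O').map _

/-- A finite type ideal of a quasi-compact open `U` extends to one that is trivial on an open disjoint from `U`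
whose trace on some quasi-compact open `W` containing the complement is quasi-compact. -/
theorem exists_data_extend [QuasiSeparatedSpace X] (U W U' : X.Opens) (hU : IsCompact (U : Set X))
    (hW : IsCompact (W : Set X)) (hUW : U ≤ W) (hdisj : U ⊓ U' = ⊥) (hcov : ∀ x, x ∈ W ∨ x ∈ U')
    (hW' : IsCompact ((W : Set X) ∩ U')) (𝒜 : (U : Scheme.{u}).IdealSheafData) (h𝒜 : BlowUp.IsFiniteTypeIdeal 𝒜) :
    ∃ L : X.IdealSheafData, FSch.IdealFT L ∧ L.comap U.ι = 𝒜 ∧ ∀ O : X.affineOpens, O.1 ≤ U' → L.ideal O = ⊤ := by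
  haveI : CompactSpace (W : Scheme.{u}) := isCompact_iff_compactSpace.1 hW
  haveI : QuasiSeparatedSpace (W : Scheme.{u}) :=
    (isQuasiSeparated_iff_quasiSeparatedSpace _ W.2).1
      ((isQuasiSeparated_univ_iff.2 inferInstance).of_subset (Set.subset_univ _))
  let V : (W : Scheme.{u}).Opens := W.ι ⁻¹ᵁ U
  let V' : (W : Scheme.{u}).Opens := W.ι ⁻¹ᵁ U'
  have himg : ∀ O : X.Opens, W.ι '' ((W.ι ⁻¹ᵁ O : (W : Scheme.{u}).Opens) : Set W) = (W : Set X) ∩ O := fun O => by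
    rw [Scheme.Hom.coe_preimage, Set.image_preimage_eq_inter_range, Scheme.Opens.range_ι, Set.inter_comm]
  have hV : IsCompact (V : Set (W : Scheme.{u})) := by
    rw [W.ι.isOpenEmbedding.isInducing.isCompact_iff]
    rw [himg, Set.inter_eq_right.2 hUW]
    exact hU
  have hV' : IsCompact (V' : Set (W : Scheme.{u})) := by
    rw [W.ι.isOpenEmbedding.isInducing.isCompact_iff, himg]
    exact hW'
  let i : (V : Scheme.{u}) ⟶ (U : Scheme.{u}) := W.ι ∣_ U
  have hi : i ≫ U.ι = V.ι ≫ W.ι := morphismRestrict_ι _ _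
  have hVdisj : ∀ z : (V : Scheme.{u}), W.ι (V.ι z) ∉ U' := fun z hz =>
    (hdisj ▸ (⟨z.2, hz⟩ : W.ι (V.ι z) ∈ U ⊓ U') : W.ι (V.ι z) ∈ (⊥ : X.Opens))
  have hadm : BlowUp.IsAdmissibleFor (V.ι ⁻¹ᵁ V') (𝒜.comap i) :=
    ⟨isFiniteType_comap h𝒜 i, Set.disjoint_left.2 fun z _ hz => hVdisj z hz⟩
  obtain ⟨𝓙, h𝓙, h𝓙V⟩ := exists_admissible_extension V' V hV' hV (𝒜.comap i) hadm
  haveI := quasiCompact_openι W hW
  let L : X.IdealSheafData := 𝓙.map W.ι
  have hLW : L.comap W.ι = 𝓙 := comap_map_openι W 𝓙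
  have hsupp : ∀ x ∈ U', x ∉ L.support := by
    intro x hx hs
    rw [Scheme.IdealSheafData.support_map] at hs
    obtain ⟨_, hz', ⟨v, hv, rfl⟩⟩ := mem_closure_iff.1 (show x ∈ closure (W.ι '' (𝓙.support : Set _)) from hs)
      (U' : Set X) U'.2 hx
    exact Set.disjoint_left.1 h𝓙.2 hv hz'
  have htop : ∀ O : X.affineOpens, O.1 ≤ U' → L.ideal O = ⊤ := fun O hO =>
    ideal_eq_top_of_disjoint L O fun x hx => hsupp x (hO hx)
  refine ⟨L, fun O => ?_, ?_, htop⟩
  · refine Groth.L19.Approx.fgOn_of_le_iSup L (W ⊔ U')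
      (ι := {O : X.affineOpens // O.1 ≤ W} ⊕ {O : X.affineOpens // O.1 ≤ U'}) (Sum.elim Subtype.val Subtype.val)
      (sup_le ?_ ?_) (fun k => ?_) O fun x _ => Opens.mem_sup.2 (hcov x)
    · exact (Groth.L19.Approx.le_iSup_affineOpens W).trans (iSup_le fun O => le_iSup_of_le (Sum.inl O) le_rfl)
    · exact (Groth.L19.Approx.le_iSup_affineOpens U').trans (iSup_le fun O => le_iSup_of_le (Sum.inr O) le_rfl)
    · rcases k with O | O
      · exact fg_ideal_of_comap (hLW.symm ▸ h𝓙.1) O.1 O.2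
      · show (L.ideal O.1).FG
        rw [htop O.1 O.2]
        exact Module.Finite.fg_top
  · let e : (U : Scheme.{u}) ⟶ (W : Scheme.{u}) := X.homOfLE hUW
    haveI : IsIso i := by
      haveI : Surjective i := ⟨fun z => by
        obtain ⟨w, hw⟩ := (W.opensRange_ι.ge (hUW z.2) : U.ι z ∈ W.ι.opensRange)
        refine ⟨⟨w, show W.ι w ∈ U from hw ▸ z.2⟩, U.ι.isOpenEmbedding.injective ?_⟩
        rw [← Scheme.Hom.comp_apply, hi, Scheme.Hom.comp_apply]
        exact hw⟩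
      haveI : Epi i.base := (TopCat.epi_iff_surjective _).2 i.surjective
      exact IsOpenImmersion.isIso i
    have h1 : (L.comap U.ι).comap i = 𝒜.comap i := by
      rw [← Scheme.IdealSheafData.comap_comp, hi, Scheme.IdealSheafData.comap_comp, hLW, h𝓙V]
    have h2 := congrArg (fun K : (V : Scheme.{u}).IdealSheafData => K.comap (inv i)) h1
    simpa only [← Scheme.IdealSheafData.comap_comp, IsIso.inv_hom_id, IsIso.inv_hom_id_assoc, Scheme.IdealSheafData.comap_id] using h2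

/-- Membership in the sheaf of data is read on an open subscheme. -/
theorem mem_ofData_comap_iff {Y : Scheme.{u}} (j : Y ⟶ X) [IsOpenImmersion j] (L : X.IdealSheafData)
    {O : X.Opens} {O' : Y.Opens} (e : j ''ᵁ O' = O) (e' : O' ≤ j ⁻¹ᵁ O) (s : Γ(X, O)) :
    s ∈ (IdealSh.ofData L).sect O ↔ (j.appLE O O' e').hom s ∈ (IdealSh.ofData (L.comap j)).sect O' := by
  constructor
  · intro hs y hy
    obtain ⟨V, i, hyV, hV⟩ := hs (j y) (e' hy)
    obtain ⟨_, ⟨V', hV', rfl⟩, hyV', hle⟩ := Y.isBasis_affineOpens.exists_subset_of_mem_open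
      (show y ∈ O' ⊓ j ⁻¹ᵁ V.1 from ⟨hy, hyV⟩) (O' ⊓ j ⁻¹ᵁ V.1).2
    have iV : V' ≤ j ⁻¹ᵁ V.1 := fun z hz => (hle hz).2
    refine ⟨⟨V', hV'⟩, fun z hz => (hle hz).1, hyV', ?_⟩
    rw [Groth.L22.Ideals.comap_ideal j L V ⟨V', hV'⟩ iV]
    have h2 := Ideal.mem_map_of_mem (j.appLE V.1 V' iV).hom hV
    refine Eq.mp (congrArg (· ∈ _) ?_) h2
    show (X.presheaf.map _ ≫ j.appLE _ _ _) s = (j.appLE _ _ _ ≫ Y.presheaf.map _) s
    rw [Scheme.Hom.map_appLE, Scheme.Hom.appLE_map]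
  · intro hs x hx
    obtain ⟨y, hy, rfl⟩ : ∃ y ∈ O', j y = x := by
      rw [← e] at hx
      exact hx
    obtain ⟨V', i, hyV', hV'⟩ := hs y hy
    let V : X.affineOpens := ⟨j ''ᵁ V'.1, V'.2.image_of_isOpenImmersion j⟩
    have iV : V.1 ≤ O := e ▸ Scheme.Hom.image_mono j i
    have iV' : V'.1 ≤ j ⁻¹ᵁ V.1 := (Scheme.Hom.preimage_image_eq _ _).ge
    refine ⟨V, iV, ⟨y, hyV', rfl⟩, ?_⟩
    rw [Groth.L22.Ideals.comap_ideal j L V V' iV'] at hV'
    have hb : Function.Bijective (j.appLE V.1 V'.1 iV').hom := by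
      rw [← Scheme.Hom.appIso_hom']
      exact (j.appIso V'.1).commRingCatIsoToRingEquiv.bijective
    obtain ⟨c, hc, hc'⟩ := (Ideal.mem_map_iff_of_surjective _ hb.2).1 hV'
    refine Eq.mp (congrArg (· ∈ _) (hb.1 (hc'.trans ?_))) hc
    show (j.appLE _ _ _ ≫ Y.presheaf.map _) s = (X.presheaf.map _ ≫ j.appLE _ _ _) s
    rw [Scheme.Hom.map_appLE, Scheme.Hom.appLE_map]

/-- On an open where all ideals are trivial the sheaf of data is trivial. -/
theorem ofData_sect_eq_top {L : X.IdealSheafData} {U' : X.Opens} (h : ∀ O : X.affineOpens, O.1 ≤ U' → L.ideal O = ⊤)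
    {O : X.Opens} (hO : O ≤ U') : (IdealSh.ofData L).sect O = ⊤ := by
  refine eq_top_iff.2 fun s _ x hx => ?_
  obtain ⟨_, ⟨V, hV, rfl⟩, hxV, hle⟩ := X.isBasis_affineOpens.exists_subset_of_mem_open hx O.2
  refine ⟨⟨V, hV⟩, hle, hxV, ?_⟩
  rw [h ⟨V, hV⟩ fun z hz => hO (hle hz)]
  trivial

end Groth.L20.FBlow
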