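import Groth.Agent.L20.FBlow.Global
import Groth.Agent.L20.FBlow.Adjoin

/-!
# Flat base change of admissible formal blow-ups
-/

set_option autoImplicit false
set_option linter.style.haveILetI false
set_option linter.unusedSectionVars false
set_option backward.isDefEq.respectTransparency false
set_option backward.isDefEq.respectTransparency.types false

universe u

open CategoryTheory CategoryTheory.Limits AlgebraicGeometry TopologicalSpace Opposite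

noncomputable section

namespace Groth.L20.FBlow

open _root_.FBlow Groth.L17.FSheaf

variable {R : Type u} [CommRing R] {I : Ideal R} {𝔛 : FSch.Sys.{u}} {p : 𝔛 ⟶ FSch.spf R I} {h : 𝔛.IsFormal}

/-- The completion of a blow-up of the spectrum of the sections over an affine open is an admissible blow-up. -/
theorem isAdmBlowUp_piece (hR : AdicRing.IsBase R I) (hp : FSch.IsAdicHom p)
    (hfp : ∀ n, LocallyOfFinitePresentation ((p : FSch.Hom 𝔛 (FSch.spf R I)).app n))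
    {J : IdealSh (𝔛.Osh h)} {U : (𝔛.X 0).Opens} (hUa : IsAffineOpen U) {𝔞 : Ideal (Sec 𝔛 h U)}
    (hg : GenOn J U 𝔞) {P : Scheme.{u}} {q : P ⟶ Spec (CommRingCat.of (Sec 𝔛 h U))} [LocallyOfFiniteType q]
    (hq : BlowUp.IsBlowUp q (FSch.idealSpec (Sec 𝔛 h U) 𝔞)) {𝔅 : FSch.Sys.{u}} (hB : 𝔅.IsFormal)
    (b : 𝔅 ⟶ 𝔛.restrictOpen h U) (d : ∀ n, 𝔅.X n ⟶ P) (hd : ∀ n, 𝔅.ι n ≫ d (n + 1) = d n)
    (hsq : ∀ n, IsPullback (d n) ((b : FSch.Hom 𝔅 (𝔛.restrictOpen h U)).app n) q (pieceC U n)) :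
    FBlow.IsAdmBlowUp b hB (isFormal_restrictOpen 𝔛 h U)
      (FBlow.idealMap (𝔛.restrictOpenι h U) (isFormal_restrictOpen 𝔛 h U) h J) := by
  have hI := isBase_fg hR
  letI := (bS p h U).toAlgebra
  have hA : AdicRing.TopFiniteType R I (Sec 𝔛 h U) := by
    obtain ⟨n, φ, hφ, -⟩ := sec_tfp p h hp hUa hfp hR hI
    exact ⟨n, φ, hφ⟩
  refine isAdmBlowUp_of_scheme hR hA (pieceC_comm U) (fun n => isThick_jS p h hp hUa hI n) hq hd hsq ?_
  have hle : (⊤ : ((𝔛.restrictOpen h U).X 0).Opens) ≤ (𝔛.restrictOpenι h U : FSch.Hom _ _).app 0 ⁻¹ᵁ U :=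
    fun y _ => (range_restrictOpenι (hX := h) U).le ⟨y, rfl⟩
  refine (hg.idealMap (𝔛.restrictOpenι h U) (isFormal_restrictOpen 𝔛 h U) h hle).congr_ideal ?_
  rw [fR_restrictOpenι U hle]

variable {𝔜 : FSch.Sys.{u}} {hY : 𝔜.IsFormal} (φ : 𝔜 ⟶ 𝔛)

theorem resLE_jS_fR {U : (𝔛.X 0).Opens} {V : (𝔜.X 0).Opens} (e : V ≤ (φ : FSch.Hom 𝔜 𝔛).app 0 ⁻¹ᵁ U) (n : ℕ) :
    ((φ : FSch.Hom 𝔜 𝔛).app n).resLE (𝔛.lvU h n U) (𝔜.lvU hY n V) (le_preimage_f φ hY h e n) ≫ jS h U n =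
      jS hY V n ≫ Spec.map (CommRingCat.ofHom (fR φ hY h U V e)) := by
  rw [jS, jS, ← Category.assoc, resLE_toSpecΓ', Category.assoc, Category.assoc, ← Spec.map_comp, ← Spec.map_comp]
  exact congrArg (fun ψ => _ ≫ Spec.map ψ) (CommRingCat.hom_ext (RingHom.ext fun x => (pR_fR φ hY h e n x).symm))

/-- Flat base change of an admissible formal blow-up. -/
theorem isAdmBlowUp_pullbackSnd (hR : AdicRing.IsBase R I) (hp : FSch.IsAdicHom p)
    (hfp : ∀ n, LocallyOfFinitePresentation ((p : FSch.Hom 𝔛 (FSch.spf R I)).app n))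
    (hφ : FSch.IsAdicHom φ)
    (hYfp : ∀ n, LocallyOfFinitePresentation ((φ ≫ p : FSch.Hom 𝔜 (FSch.spf R I)).app n))
    (hflat : ∀ (U : (𝔛.X 0).Opens) (U' : (𝔜.X 0).Opens), IsAffineOpen U → IsAffineOpen U' →
      ∀ e : U' ≤ (φ : FSch.Hom 𝔜 𝔛).app 0 ⁻¹ᵁ U, (fR φ hY h U U' e).Flat)
    {J : IdealSh (𝔛.Osh h)} (hJ : FBlow.IsCohOpen 𝔛 h J) {𝔛' : FSch.Sys.{u}} {h' : 𝔛'.IsFormal} {b : 𝔛' ⟶ 𝔛}
    (hb : FBlow.IsAdmBlowUp b h' h J) (hP : (FSch.pullbackSys b φ).IsFormal) :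
    FBlow.IsAdmBlowUp (FSch.pullbackSnd b φ) hP hY (FBlow.idealMap φ hY h J) := by
  have hbc : IsBC b φ (FSch.pullbackSnd b φ) (FSch.pullbackFst b φ) := fun n => IsPullback.of_hasPullback _ _
  let κ := Σ' (U : (𝔛.X 0).Opens) (U' : (𝔜.X 0).Opens),
    Good p J U ∧ IsAffineOpen U' ∧ U' ≤ (φ : FSch.Hom 𝔜 𝔛).app 0 ⁻¹ᵁ U
  let ιY : ∀ i : κ, 𝔜.restrictOpen hY i.2.1 ⟶ 𝔜 := fun i => 𝔜.restrictOpenι hY i.2.1
  have hbc2 : ∀ i : κ, IsBC (FSch.pullbackSnd b φ) (ιY i) (FSch.pullbackSnd (FSch.pullbackSnd b φ) (ιY i))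
      (FSch.pullbackFst (FSch.pullbackSnd b φ) (ιY i)) := fun i n => IsPullback.of_hasPullback _ _
  refine isAdmBlowUp_of_cover (FSch.pullbackSnd b φ) (κ := κ) (hX := hY) (hY := hP)
    (fun i => isFormal_restrictOpen 𝔜 hY i.2.1) (fun i => Groth.L17.Thick.isFormal_of_isAdicHom (FSch.pullbackSnd (FSch.pullbackSnd b φ) (ιY i))
      (isFormal_restrictOpen 𝔜 hY i.2.1)
      (IsBC.isAdicHom (hbc2 i) (hbc.isAdicHom hb.1)))
    ιY (fun i => FSch.pullbackSnd (FSch.pullbackSnd b φ) (ιY i)) (fun i => FSch.pullbackFst (FSch.pullbackSnd b φ) (ιY i))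
    (hbc.isAdicHom hb.1) (fun i => isAdicHom_restrictOpenι 𝔜 hY i.2.1)
    hbc2 (fun y => ?_) fun i => ?_
  · obtain ⟨U, hyU, -, hU⟩ := exists_good p hp (isBase_fg hR) hJ ((φ : FSch.Hom 𝔜 𝔛).app 0 y) ⊤ trivial
    obtain ⟨_, ⟨U', hU', rfl⟩, hyU', hle⟩ := (𝔜.X 0).isBasis_affineOpens.exists_subset_of_mem_open
      (show y ∈ (φ : FSch.Hom 𝔜 𝔛).app 0 ⁻¹ᵁ U from hyU) ((φ : FSch.Hom 𝔜 𝔛).app 0 ⁻¹ᵁ U).2
    exact ⟨⟨U, U', hU, hU', hle⟩, (range_restrictOpenι (hX := hY) U').ge hyU'⟩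
  obtain ⟨U, U', hU, hU', e⟩ := i
  obtain ⟨hUa, 𝔞, hfg, hk, hg⟩ := hU
  -- the piece over the open of the base
  obtain ⟨P, q, hq⟩ := Groth.L13.BU.exists_isBlowUp (FSch.idealSpec (Sec 𝔛 h U) 𝔞)
  haveI := lft_of_isBlowUp hfg hq
  let 𝔅 : FSch.Sys.{u} :=
    { X := fun n => pullback q (pieceC (h := h) U n)
      ι := fun n => pullback.lift (pullback.fst _ _) (pullback.snd _ _ ≫ (𝔛.restrictOpen h U).ι n)
        (by rw [Category.assoc, pieceC_comm]; exact pullback.condition) }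
  let bU : 𝔅 ⟶ 𝔛.restrictOpen h U := ⟨fun n => pullback.snd _ _, fun n => (pullback.lift_snd _ _ _).symm⟩
  let d : ∀ n, 𝔅.X n ⟶ P := fun n => pullback.fst _ _
  have hd : ∀ n, 𝔅.ι n ≫ d (n + 1) = d n := fun n => pullback.lift_fst _ _ _
  have hsq : ∀ n, IsPullback (d n) ((bU : FSch.Hom 𝔅 (𝔛.restrictOpen h U)).app n) q (pieceC U n) :=
    fun n => IsPullback.of_hasPullback _ _
  have hbUa : FSch.IsAdicHom bU := fun n => by
    refine IsPullback.of_right ?_ ((bU : FSch.Hom 𝔅 (𝔛.restrictOpen h U)).comm n).symm (hsq (n + 1))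
    rw [hd, pieceC_comm]
    exact hsq n
  have hB : 𝔅.IsFormal := Groth.L17.Thick.isFormal_of_isAdicHom bU (isFormal_restrictOpen 𝔛 h U) hbUa
  have hbU := isAdmBlowUp_piece hR hp hfp hUa hg hq hB bU d hd hsq
  have hinv := hbU.2.1
  rw [idealMap_comp (𝔛.restrictOpenι h U) (isFormal_restrictOpen 𝔛 h U) h bU hB] at hinv
  obtain ⟨k, hk', -⟩ := hb.2.2 𝔅 hB (bU ≫ 𝔛.restrictOpenι h U)
    (isAdicHom_comp _ _ hbUa (isAdicHom_restrictOpenι 𝔛 h U)) hinv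
  have hbcU : IsBC b (𝔛.restrictOpenι h U) bU k :=
    isBC_of_isAdmBlowUp (isAdicHom_restrictOpenι 𝔛 h U) hb hbU hk'
  -- the piece over the open of the other system
  let ψ := fR φ hY h U U' e
  let g : Spec (CommRingCat.of (Sec 𝔜 hY U')) ⟶ Spec (CommRingCat.of (Sec 𝔛 h U)) := Spec.map (CommRingCat.ofHom ψ)
  haveI : Flat g := (HasRingHomProperty.Spec_iff (P := @Flat)).2 (hflat U U' hUa hU' e)
  have hq' : BlowUp.IsBlowUp (pullback.fst g q) (FSch.idealSpec (Sec 𝔜 hY U') (𝔞.map ψ)) := by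
    rw [← comap_idealSpec_spec]
    exact Groth.L13.BU.isBlowUp_pullback g hq
  let ι' := 𝔜.restrictOpenι hY U'
  let 𝔅' := FSch.pullbackSys (FSch.pullbackSnd b φ) ι'
  let b' : 𝔅' ⟶ 𝔜.restrictOpen hY U' := FSch.pullbackSnd (FSch.pullbackSnd b φ) ι'
  let k' : 𝔅' ⟶ FSch.pullbackSys b φ := FSch.pullbackFst (FSch.pullbackSnd b φ) ι'
  let v : ∀ n, (𝔜.restrictOpen hY U').X n ⟶ (𝔛.restrictOpen h U).X n := fun n =>
    ((φ : FSch.Hom 𝔜 𝔛).app n).resLE (𝔛.lvU h n U) (𝔜.lvU hY n U') (le_preimage_f φ hY h e n)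
  have hv : ∀ n, v n ≫ (𝔛.restrictOpenι h U : FSch.Hom _ _).app n =
      (ι' : FSch.Hom _ _).app n ≫ (φ : FSch.Hom 𝔜 𝔛).app n := fun n => Scheme.Hom.resLE_comp_ι _ _
  have hbig : ∀ n, IsPullback ((k' : FSch.Hom _ _).app n ≫ (FSch.pullbackFst b φ : FSch.Hom _ _).app n)
      ((b' : FSch.Hom _ _).app n) ((b : FSch.Hom 𝔛' 𝔛).app n) (v n ≫ (𝔛.restrictOpenι h U : FSch.Hom _ _).app n) :=
    fun n => by
      rw [hv n]
      exact (IsPullback.of_hasPullback _ _).paste_horiz (hbc n)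
  let l : ∀ n, 𝔅'.X n ⟶ 𝔅.X n := fun n => (hbcU n).lift
    ((k' : FSch.Hom _ _).app n ≫ (FSch.pullbackFst b φ : FSch.Hom _ _).app n) ((b' : FSch.Hom _ _).app n ≫ v n)
    (by rw [(hbig n).w, Category.assoc])
  have hl : ∀ n, IsPullback (l n) ((b' : FSch.Hom _ _).app n) ((bU : FSch.Hom 𝔅 _).app n) (v n) := fun n => by
    refine IsPullback.of_right ?_ ((hbcU n).lift_snd _ _ _) (hbcU n)
    rw [(hbcU n).lift_fst]
    exact hbig n
  have hT : ∀ n, IsPullback (l n ≫ d n) ((b' : FSch.Hom _ _).app n) q (pieceC (h := hY) U' n ≫ g) := fun n => by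
    rw [show pieceC (h := hY) U' n ≫ g = v n ≫ pieceC (h := h) U n from (resLE_jS_fR φ e n).symm]
    exact (hl n).paste_horiz (hsq n)
  let d' : ∀ n, 𝔅'.X n ⟶ pullback g q := fun n =>
    pullback.lift ((b' : FSch.Hom _ _).app n ≫ pieceC (h := hY) U' n) (l n ≫ d n)
      (by rw [Category.assoc]; exact ((hT n).w).symm)
  have hsq' : ∀ n, IsPullback (d' n) ((b' : FSch.Hom _ _).app n) (pullback.fst g q) (pieceC (h := hY) U' n) := fun n => by
    refine IsPullback.of_right ?_ (pullback.lift_fst _ _ _) (IsPullback.of_hasPullback g q).flip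
    rw [show d' n ≫ pullback.snd g q = l n ≫ d n from pullback.lift_snd _ _ _]
    exact hT n
  have hlι : ∀ n, 𝔅'.ι n ≫ l (n + 1) = l n ≫ 𝔅.ι n := fun n => by
    refine (hbcU (n + 1)).hom_ext ?_ ?_
    · rw [Category.assoc, (hbcU (n + 1)).lift_fst, Category.assoc, ← (k : FSch.Hom 𝔅 𝔛').comm n,
        ← Category.assoc (l n), (hbcU n).lift_fst, ← Category.assoc, ← (k' : FSch.Hom _ _).comm n, Category.assoc,
        ← (FSch.pullbackFst b φ : FSch.Hom _ _).comm n, Category.assoc]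
    · rw [Category.assoc, (hbcU (n + 1)).lift_snd, Category.assoc, ← (bU : FSch.Hom 𝔅 _).comm n,
        ← Category.assoc (l n), (hbcU n).lift_snd, ← Category.assoc, ← (b' : FSch.Hom _ _).comm n, Category.assoc,
        Category.assoc]
      congr 1
      rw [← cancel_mono ((𝔛.restrictOpenι h U : FSch.Hom _ _).app (n + 1)), Category.assoc, hv, Category.assoc,
        ← (𝔛.restrictOpenι h U : FSch.Hom _ _).comm n, ← Category.assoc (v n), hv, ← Category.assoc,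
        ← (ι' : FSch.Hom _ _).comm n, Category.assoc, ← (φ : FSch.Hom 𝔜 𝔛).comm n, Category.assoc]
  have hd' : ∀ n, 𝔅'.ι n ≫ d' (n + 1) = d' n := fun n => by
    refine pullback.hom_ext ?_ ?_
    · rw [Category.assoc, pullback.lift_fst, pullback.lift_fst, ← Category.assoc, ← (b' : FSch.Hom _ _).comm n,
        Category.assoc, pieceC_comm]
    · rw [Category.assoc, pullback.lift_snd, pullback.lift_snd, ← Category.assoc, hlι, Category.assoc, hd]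
  have hbc' : IsBC (FSch.pullbackSnd b φ) ι' b' k' := fun n => IsPullback.of_hasPullback _ _
  have hb'a : FSch.IsAdicHom b' := hbc'.isAdicHom (hbc.isAdicHom hb.1)
  exact isAdmBlowUp_piece hR (isAdicHom_comp φ p hφ hp) hYfp hU' (hg.idealMap φ hY h e) hq'
    (Groth.L17.Thick.isFormal_of_isAdicHom b' (isFormal_restrictOpen 𝔜 hY U') hb'a) b' d' hd' hsq'

end Groth.L20.FBlow
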