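import Groth.Prelude.Def_FBlow

/-!
# Ideal sheaves generated near an open by an ideal of sections; invertible ideal sheaves
-/

set_option autoImplicit false
set_option linter.style.haveILetI false
set_option linter.unusedSectionVars false
set_option backward.isDefEq.respectTransparency false
set_option backward.isDefEq.respectTransparency.types false

universe u

open CategoryTheory CategoryTheory.Limits TopologicalSpace Opposite

noncomputable section

namespace Groth.L20.FBlow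

open _root_.FBlow

variable {T : TopCat.{u}} {O : Sheaf (Opens.grothendieckTopology T) CommRingCat.{u}}

/-- Restriction of sections. -/
abbrev rO (O : Sheaf (Opens.grothendieckTopology T) CommRingCat.{u}) {U V : Opens T} (i : V ≤ U) :
    O.obj.obj (op U) →+* O.obj.obj (op V) :=
  (O.obj.map (homOfLE i).op).hom

theorem rO_rO {U V W : Opens T} (i : V ≤ U) (j : W ≤ V) (s : O.obj.obj (op U)) :
    rO O j (rO O i s) = rO O (j.trans i) s :=
  IdealSh.map_comp_apply i j s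

theorem rO_self {U : Opens T} (i : U ≤ U) (s : O.obj.obj (op U)) : rO O i s = s :=
  IdealSh.map_id_apply i s

theorem map_rO {U V W : Opens T} (i : V ≤ U) (j : W ≤ V) (N : Ideal (O.obj.obj (op U))) :
    (N.map (rO O i)).map (rO O j) = N.map (rO O (j.trans i)) := by
  rw [Ideal.map_map]
  exact congrArg (Ideal.map · N) (RingHom.ext (rO_rO i j))

/-- Two sections that agree near every point agree. -/
theorem eq_of_local {U : Opens T} {s t : O.obj.obj (op U)}
    (h : ∀ x ∈ U, ∃ (V : Opens T) (i : V ≤ U), x ∈ V ∧ rO O i s = rO O i t) : s = t := by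
  choose V i hxV hV using h
  exact TopCat.Sheaf.eq_of_locally_eq' O (fun x : U => V x.1 x.2) U (fun x => homOfLE (i x.1 x.2))
    (fun x hx => Opens.mem_iSup.mpr ⟨⟨x, hx⟩, hxV x hx⟩) s t fun x => hV x.1 x.2

/-- The sections of `J` over the opens below `U` are those lying, near every point, in the ideal generated by `N`. -/
def GenOn (J : IdealSh O) (U : Opens T) (N : Ideal (O.obj.obj (op U))) : Prop :=
  ∀ (V : Opens T) (i : V ≤ U) (t : O.obj.obj (op V)),
    t ∈ J.sect V ↔ ∀ x ∈ V, ∃ (W : Opens T) (j : W ≤ V), x ∈ W ∧ rO O j t ∈ N.map (rO O (j.trans i))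

variable {J K : IdealSh O} {U : Opens T} {N : Ideal (O.obj.obj (op U))}

theorem GenOn.mono (h : GenOn J U N) {V : Opens T} (i : V ≤ U) : GenOn J V (N.map (rO O i)) := by
  intro W k t
  rw [h W (k.trans i) t]
  simp only [map_rO]

theorem GenOn.le (h : GenOn J U N) : N ≤ J.sect U := fun a ha =>
  (h U le_rfl a).2 fun _ hx => ⟨U, le_rfl, hx, Ideal.mem_map_of_mem _ ha⟩

theorem GenOn.map_le (h : GenOn J U N) {V : Opens T} (i : V ≤ U) : N.map (rO O i) ≤ J.sect V :=
  Ideal.map_le_iff_le_comap.2 fun _ ha => J.map_mem i (h.le ha)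

theorem GenOn.sect_eq (h : GenOn J U N) (h' : GenOn K U N) {V : Opens T} (i : V ≤ U) : J.sect V = K.sect V :=
  Ideal.ext fun t => (h V i t).trans (h' V i t).symm

theorem GenOn.congr (h : GenOn J U N) (hJK : ∀ V ≤ U, J.sect V = K.sect V) : GenOn K U N := fun V i t => by
  rw [← hJK V i]
  exact h V i t

theorem GenOn.congr_ideal {N' : Ideal (O.obj.obj (op U))} (h : GenOn J U N) (hN : N = N') : GenOn J U N' :=
  hN ▸ h

/-- Being generated by `N` is local on `U`. -/
theorem GenOn.of_local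
    (h : ∀ x ∈ U, ∃ (V : Opens T) (i : V ≤ U), x ∈ V ∧ GenOn J V (N.map (rO O i))) : GenOn J U N := by
  intro V i t
  constructor
  · intro ht x hx
    obtain ⟨U', i', hxU', hU'⟩ := h x (i hx)
    obtain ⟨W, j, hxW, hW⟩ := (hU' (V ⊓ U') inf_le_right _).1 (J.map_mem inf_le_left ht) x ⟨hx, hxU'⟩
    refine ⟨W, j.trans inf_le_left, hxW, ?_⟩
    have e : rO O j (O.obj.map (homOfLE (inf_le_left : V ⊓ U' ≤ V)).op t) = rO O (j.trans inf_le_left) t :=
      rO_rO _ j t
    rw [e, map_rO] at hW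
    exact hW
  · intro ht
    refine J.mem_of_local fun x hx => ?_
    obtain ⟨W, j, hxW, hW⟩ := ht x hx
    obtain ⟨U', i', hxU', hU'⟩ := h x (i hx)
    refine ⟨W ⊓ U', inf_le_left.trans j, ⟨hxW, hxU'⟩, ?_⟩
    have h2 : rO O (inf_le_left.trans j : W ⊓ U' ≤ V) t ∈ (N.map (rO O i')).map (rO O (inf_le_right : W ⊓ U' ≤ U')) := by
      rw [map_rO, ← rO_rO j inf_le_left]
      have h3 := Ideal.mem_map_of_mem (rO O (inf_le_left : W ⊓ U' ≤ W)) hW
      rwa [map_rO] at h3
    exact hU'.map_le inf_le_right h2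

/-- Everything generated is generated. -/
theorem genOn_gen {S : ∀ W : Opens T, Set (O.obj.obj (op W))}
    (hle : N ≤ (IdealSh.gen S).sect U)
    (hS : ∀ (W : Opens T), ∀ a ∈ S W, ∀ x ∈ U, x ∈ W → ∃ (V : Opens T) (i : V ≤ U) (j : V ≤ W),
      x ∈ V ∧ rO O j a ∈ N.map (rO O i)) :
    GenOn (IdealSh.gen S) U N := by
  intro V i t
  constructor
  · intro ht x hx
    obtain ⟨V₁, i₁, hxV₁, h₁⟩ := (IdealSh.mem_gen_iff S V t).1 ht x hx
    suffices ∀ (s : O.obj.obj (op V₁)), s ∈ Ideal.span (IdealSh.seed S V₁) →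
        ∃ (W : Opens T) (j : W ≤ V₁) (k : W ≤ U), x ∈ W ∧ rO O j s ∈ N.map (rO O k) by
      obtain ⟨W, j, k, hxW, hW⟩ := this _ h₁
      refine ⟨W, j.trans i₁, hxW, ?_⟩
      rw [← rO_rO i₁ j]
      exact hW
    intro s hs
    induction hs using Submodule.span_induction with
    | mem s hs =>
      obtain ⟨W₀, j₀, a, ha, rfl⟩ := hs
      obtain ⟨W, k, j, hxW, hW⟩ := hS W₀ a ha x (i hx) (j₀ hxV₁)
      refine ⟨W ⊓ V₁, inf_le_right, inf_le_left.trans k, ⟨hxW, hxV₁⟩, ?_⟩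
      have h2 := Ideal.mem_map_of_mem (rO O (inf_le_left : W ⊓ V₁ ≤ W)) hW
      rw [map_rO, rO_rO] at h2
      show rO O inf_le_right (rO O j₀ a) ∈ _
      rw [rO_rO]
      exact h2
    | zero => exact ⟨V₁ ⊓ U, inf_le_left, inf_le_right, ⟨hxV₁, i hx⟩, by rw [map_zero]; exact zero_mem _⟩
    | add a b _ _ iha ihb =>
      obtain ⟨W₁, j₁, k₁, hx₁, e₁⟩ := iha
      obtain ⟨W₂, j₂, k₂, hx₂, e₂⟩ := ihb
      refine ⟨W₁ ⊓ W₂, inf_le_left.trans j₁, inf_le_left.trans k₁, ⟨hx₁, hx₂⟩, ?_⟩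
      rw [map_add]
      refine add_mem ?_ ?_
      · have h2 := Ideal.mem_map_of_mem (rO O (inf_le_left : W₁ ⊓ W₂ ≤ W₁)) e₁
        rwa [map_rO, rO_rO] at h2
      · have h2 := Ideal.mem_map_of_mem (rO O (inf_le_right : W₁ ⊓ W₂ ≤ W₂)) e₂
        rwa [map_rO, rO_rO] at h2
    | smul c a _ iha =>
      obtain ⟨W₁, j₁, k₁, hx₁, e₁⟩ := iha
      refine ⟨W₁, j₁, k₁, hx₁, ?_⟩
      rw [smul_eq_mul, map_mul]
      exact Ideal.mul_mem_left _ _ e₁
  · intro ht
    refine (IdealSh.gen S).mem_of_local fun x hx => ?_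
    obtain ⟨W, j, hxW, hW⟩ := ht x hx
    refine ⟨W, j, hxW, ?_⟩
    have hm : N.map (rO O (j.trans i)) ≤ (IdealSh.gen S).sect W :=
      Ideal.map_le_iff_le_comap.2 fun a ha => Ideal.mem_comap.2 ((IdealSh.gen S).map_mem (j.trans i) (hle ha))
    exact hm hW

/-- The inverse image of an ideal sheaf generated by `N` is generated by the image of `N`. -/
theorem GenOn.map {T' : TopCat.{u}} {O' : Sheaf (Opens.grothendieckTopology T') CommRingCat.{u}} (g : T' ⟶ T)
    (φ : O ⟶ (TopCat.Sheaf.pushforward CommRingCat.{u} g).obj O') (h : GenOn J U N) :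
    GenOn (IdealSh.map g φ J) ((Opens.map g).obj U)
      (N.map ((φ.hom.app (op U)).hom : O.obj.obj (op U) →+* O'.obj.obj (op ((Opens.map g).obj U)))) := by
  refine genOn_gen (Ideal.map_le_iff_le_comap.2 fun a ha => ?_) ?_
  · have := IdealSh.image_mem_map g φ J (h.le ha) (V := (Opens.map g).obj U) le_rfl
    rw [IdealSh.map_id_apply] at this
    exact this
  · rintro W _ ⟨W₀, j, a, ha, rfl⟩ x hxU hxW
    obtain ⟨W₁, j₁, hx₁, e₁⟩ := (h (W₀ ⊓ U) inf_le_right _).1 (J.map_mem inf_le_left ha) (g x) ⟨j hxW, hxU⟩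
    refine ⟨W ⊓ (Opens.map g).obj W₁, inf_le_right.trans fun y hy => (j₁ hy).2, inf_le_left, ⟨hxW, hx₁⟩, ?_⟩
    have nat : ∀ {A B : Opens T} (k : B ≤ A) (b : O.obj.obj (op A)),
        (φ.hom.app (op B)).hom (rO O k b) =
          rO O' (show (Opens.map g).obj B ≤ (Opens.map g).obj A from fun y hy => k hy) ((φ.hom.app (op A)).hom b) :=
      fun k b => ConcreteCategory.congr_hom (φ.hom.naturality (homOfLE k).op) b
    have e2 := Ideal.mem_map_of_mem ((φ.hom.app (op W₁)).hom) e₁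
    rw [Ideal.map_map] at e2
    have e3 := Ideal.mem_map_of_mem
      (rO O' (inf_le_right : W ⊓ (Opens.map g).obj W₁ ≤ (Opens.map g).obj W₁)) e2
    rw [Ideal.map_map] at e3
    change rO O' _ ((φ.hom.app (op W₁)).hom (rO O j₁ (rO O (inf_le_left : W₀ ⊓ U ≤ W₀) a))) ∈ _ at e3
    rw [rO_rO, nat, rO_rO] at e3
    show rO O' inf_le_left (rO O' j ((φ.hom.app (op W₀)).hom a)) ∈ _
    rw [rO_rO]
    rw [Ideal.map_map]
    refine Eq.mp (congrArg (_ ∈ ·) (congrArg (Ideal.map · N) (RingHom.ext fun b => ?_))) e3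
    show rO O' _ ((φ.hom.app (op W₁)).hom (rO O _ b)) = rO O' _ ((φ.hom.app (op U)).hom b)
    rw [nat, rO_rO]

/-- Multiplication by `s` is injective on all opens below `U`. -/
def Reg (U : Opens T) (s : O.obj.obj (op U)) : Prop :=
  ∀ (V : Opens T) (i : V ≤ U) (t : O.obj.obj (op V)), t * rO O i s = 0 → t = 0

theorem Reg.mono {s : O.obj.obj (op U)} (h : Reg U s) {V : Opens T} (i : V ≤ U) : Reg V (rO O i s) :=
  fun W j t ht => h W (j.trans i) t (by rwa [rO_rO] at ht)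

theorem reg_of_local {s : O.obj.obj (op U)}
    (h : ∀ x ∈ U, ∃ (V : Opens T) (i : V ≤ U), x ∈ V ∧ Reg V (rO O i s)) : Reg U s := by
  intro V i t ht
  refine eq_of_local fun x hx => ?_
  obtain ⟨U', i', hxU', hU'⟩ := h x (i hx)
  refine ⟨V ⊓ U', inf_le_left, ⟨hx, hxU'⟩, ?_⟩
  rw [map_zero]
  refine hU' _ inf_le_right _ ?_
  have := congrArg (rO O (inf_le_left : V ⊓ U' ≤ V)) ht
  rw [map_mul, map_zero, rO_rO] at this
  rwa [rO_rO]

/-- Gluing of local quotients by a regular section. -/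
theorem exists_eq_mul_of_local {s : O.obj.obj (op U)} (hs : Reg U s) {V : Opens T} (i : V ≤ U)
    (t : O.obj.obj (op V))
    (h : ∀ x ∈ V, ∃ (W : Opens T) (j : W ≤ V) (q : O.obj.obj (op W)), x ∈ W ∧ rO O j t = q * rO O (j.trans i) s) :
    ∃ q : O.obj.obj (op V), t = q * rO O i s := by
  choose W j q hxW hq using h
  let W' : V → Opens T := fun x => W x.1 x.2
  let q' : ∀ x : V, O.obj.obj (op (W' x)) := fun x => q x.1 x.2
  have hc : TopCat.Presheaf.IsCompatible O.obj W' q' := by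
    intro x y
    refine sub_eq_zero.1 (hs _ ((Opens.infLELeft (W' x) (W' y)).le.trans ((j x.1 x.2).trans i)) _ ?_)
    show (rO O (Opens.infLELeft _ _).le (q' x) - rO O (Opens.infLERight _ _).le (q' y)) * _ = 0
    have e₁ := congrArg (rO O (Opens.infLELeft (W' x) (W' y)).le) (hq x.1 x.2)
    have e₂ := congrArg (rO O (Opens.infLERight (W' x) (W' y)).le) (hq y.1 y.2)
    rw [map_mul, rO_rO, rO_rO] at e₁ e₂
    rw [sub_mul]
    exact sub_eq_zero.2 (e₁.symm.trans e₂)
  have hle : ∀ x, W' x ≤ V := fun x => j x.1 x.2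
  obtain ⟨Q, hQ, -⟩ := TopCat.Sheaf.existsUnique_gluing' O W' V (fun x => homOfLE (hle x))
    (fun x hx => Opens.mem_iSup.mpr ⟨⟨x, hx⟩, hxW x hx⟩) q' hc
  refine ⟨Q, eq_of_local fun x hx => ⟨W x hx, j x hx, hxW x hx, ?_⟩⟩
  rw [map_mul, rO_rO, hq x hx]
  exact congrArg (· * _) (hQ ⟨x, hx⟩).symm

/-- An ideal sheaf locally generated by regular sections is invertible. -/
theorem isInvertible_of_local
    (h : ∀ x : T, ∃ (U : Opens T) (s : O.obj.obj (op U)), x ∈ U ∧ GenOn J U (Ideal.span {s}) ∧ Reg U s) :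
    J.IsInvertible := by
  intro x
  obtain ⟨U, s, hxU, hg, hr⟩ := h x
  refine ⟨U, hxU, s, hg.le (Ideal.mem_span_singleton_self s), fun V i => ⟨hr V i, fun t ht => ?_⟩⟩
  refine exists_eq_mul_of_local hr i t fun y hy => ?_
  obtain ⟨W, j, hyW, hW⟩ := (hg V i t).1 ht y hy
  rw [Ideal.map_span, Set.image_singleton, Ideal.mem_span_singleton'] at hW
  obtain ⟨q, hq⟩ := hW
  exact ⟨W, j, q, hyW, hq.symm⟩

/-- An invertible ideal sheaf is locally generated by regular sections. -/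
theorem exists_genOn_of_isInvertible (h : J.IsInvertible) (x : T) :
    ∃ (U : Opens T) (s : O.obj.obj (op U)), x ∈ U ∧ GenOn J U (Ideal.span {s}) ∧ Reg U s := by
  obtain ⟨U, hxU, s, hs, hV⟩ := h x
  refine ⟨U, s, hxU, fun V i t => ⟨fun ht y hy => ⟨V, le_rfl, hy, ?_⟩, fun ht => J.mem_of_local fun y hy => ?_⟩,
    fun V i => (hV V i).1⟩
  · obtain ⟨q, hq⟩ := (hV V i).2 t ht
    rw [rO_self, hq, Ideal.map_span, Set.image_singleton]
    exact Ideal.mul_mem_left _ q (Ideal.mem_span_singleton_self _)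
  · obtain ⟨W, j, hyW, hW⟩ := ht y hy
    refine ⟨W, j, hyW, (Ideal.map_le_iff_le_comap.2 ?_) hW⟩
    rw [Ideal.span_le, Set.singleton_subset_iff]
    exact J.map_mem _ hs

end Groth.L20.FBlow
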