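import Groth.Agent.L19.Approx.IdealExt
import Groth.Agent.L13.ModPair.Colon

/-!
# Extending ideals of finite type from quasi-compact opens (few imports)
-/

set_option autoImplicit false
set_option linter.style.haveILetI false
set_option backward.isDefEq.respectTransparency.types false

universe u

open CategoryTheory AlgebraicGeometry TopologicalSpace

noncomputable section

namespace Groth.L20.FBlow

theorem isFiniteType_comap {X Y : Scheme.{u}} {I : Y.IdealSheafData} (hI : BlowUp.IsFiniteTypeIdeal I) (f : X ⟶ Y) :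
    BlowUp.IsFiniteTypeIdeal (I.comap f) :=
  fun V => ((Groth.L13.MP.LocFG.of_fg hI).comap f).fg V

theorem quasiCompact_openι {X : Scheme.{u}} [QuasiSeparatedSpace X] (W : X.Opens) (hW : IsCompact (W : Set X)) :
    QuasiCompact W.ι := by
  haveI : CompactSpace (W : Scheme.{u}) := isCompact_iff_compactSpace.1 hW
  exact quasiCompact_of_compactSpace _

/-- Where the support misses an affine open the ideal is the unit ideal. -/
theorem ideal_eq_top_of_disjoint {X : Scheme.{u}} (E : X.IdealSheafData) (V : X.affineOpens)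
    (h : ∀ x ∈ V.1, x ∉ E.support) : E.ideal V = ⊤ := by
  by_contra hne
  obtain ⟨m, hm, hle⟩ := Ideal.exists_le_maximal _ hne
  let q : PrimeSpectrum Γ(X, V.1) := ⟨m, hm.isPrime⟩
  have h1 : V.2.fromSpec q ∈ V.2.fromSpec '' PrimeSpectrum.zeroLocus (E.ideal V : Set Γ(X, V.1)) :=
    ⟨q, hle, rfl⟩
  rw [V.2.fromSpec_image_zeroLocus] at h1
  exact h _ h1.2 ((Scheme.IdealSheafData.mem_support_iff_of_mem h1.2).2 h1.1)

/-- An ideal of finite type on a quasi-compact open with support off `U` extends to one with support off `U`. -/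
theorem exists_admissible_extension {X : Scheme.{u}} [CompactSpace X] [QuasiSeparatedSpace X] (U V : X.Opens)
    (hU : IsCompact (U : Set X)) (hV : IsCompact (V : Set X)) (𝓘 : (V : Scheme.{u}).IdealSheafData)
    (h𝓘 : BlowUp.IsAdmissibleFor (V.ι ⁻¹ᵁ U) 𝓘) :
    ∃ 𝓙 : X.IdealSheafData, BlowUp.IsAdmissibleFor U 𝓙 ∧ 𝓙.comap V.ι = 𝓘 := by
  haveI := quasiCompact_openι V hV
  let L : X.IdealSheafData := 𝓘.map V.ι
  have hsL : ∀ x ∈ U, x ∉ L.support := by
    intro x hx hs
    rw [Scheme.IdealSheafData.support_map] at hs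
    obtain ⟨_, hU', ⟨v, hv, rfl⟩⟩ := mem_closure_iff.1 (show x ∈ closure (V.ι '' (𝓘.support : Set _)) from hs)
      (U : Set X) U.2 hx
    exact Set.disjoint_left.1 h𝓘.2 hv hU'
  have hLU : ∀ W : X.affineOpens, W.1 ≤ U → L.ideal W = ⊤ := fun W hW =>
    ideal_eq_top_of_disjoint L W fun x hx => hsL x (hW hx)
  have hpre : ∀ W : (V : Scheme.{u}).affineOpens, V.ι ⁻¹ᵁ (V.ι ''ᵁ W.1) = W.1 := fun W => V.ι.preimage_image_eq W.1
  have hLV : L.comap V.ι = 𝓘 := by
    refine le_antisymm (Scheme.IdealSheafData.comap_map_le _ _) fun W a ha => ?_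
    have hW0 : IsAffineOpen (V.ι ⁻¹ᵁ (V.ι ''ᵁ W.1)) := by rw [hpre W]; exact W.2
    rw [Scheme.IdealSheafData.ideal_comap_of_isOpenImmersion, Ideal.mem_comap,
      Scheme.IdealSheafData.ideal_map 𝓘 V.ι _ hW0, Ideal.mem_comap]
    have h2 : (V.ι.app (V.ι ''ᵁ W.1)).hom ((V.ι.appIso W.1).inv.hom a) =
        ((V : Scheme.{u}).presheaf.map (eqToHom (hpre W)).op).hom a := congrArg (fun φ => φ.hom a) (V.ι.appIso_inv_app W.1)
    rw [h2]
    exact (𝓘.map_ideal (U := ⟨_, hW0⟩) (V := W) (hpre W).le).le (Ideal.mem_map_of_mem _ ha)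
  let ι' := Option {W : X.affineOpens // W.1 ≤ U}
  have hfgV : ∀ W : X.affineOpens, W.1 ≤ V → (L.ideal W).FG := by
    intro W hW
    let W' : (V : Scheme.{u}).affineOpens := ⟨V.ι ⁻¹ᵁ W.1, (V.ι.isAffineOpen_iff_of_isOpenImmersion).1 (by
      rw [V.ι.image_preimage_eq_opensRange_inf, Scheme.Opens.opensRange_ι, inf_eq_right.2 hW]; exact W.2)⟩
    have himg : V.ι ''ᵁ W'.1 = W.1 := by
      rw [V.ι.image_preimage_eq_opensRange_inf, Scheme.Opens.opensRange_ι, inf_eq_right.2 hW]
    let W'' : X.affineOpens := ⟨V.ι ''ᵁ W'.1, W'.2.image_of_isOpenImmersion V.ι⟩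
    have hW'' : W'' = W := Subtype.ext himg
    rw [← hW'']
    have h1 : 𝓘.ideal W' = (L.ideal W'').comap (V.ι.appIso W'.1).inv.hom := by
      rw [← Scheme.IdealSheafData.ideal_comap_of_isOpenImmersion L V.ι W', hLV]
    have h2 : L.ideal W'' = (𝓘.ideal W').map (V.ι.appIso W'.1).inv.hom := by
      rw [h1, Ideal.map_comap_of_surjective _ (ConcreteCategory.bijective_of_isIso (V.ι.appIso W'.1).inv).2]
    rw [h2]
    exact (h𝓘.1 W').map _
  have hfg : Groth.L19.Approx.FGOn L (U ⊔ V) := by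
    refine Groth.L19.Approx.fgOn_of_le_iSup L _
      (ι := {W : X.affineOpens // W.1 ≤ U} ⊕ {W : X.affineOpens // W.1 ≤ V}) (Sum.elim Subtype.val Subtype.val)
      (sup_le ?_ ?_) fun k => ?_
    · exact (Groth.L19.Approx.le_iSup_affineOpens U).trans (iSup_le fun W => le_iSup_of_le (Sum.inl W) le_rfl)
    · exact (Groth.L19.Approx.le_iSup_affineOpens V).trans (iSup_le fun W => le_iSup_of_le (Sum.inr W) le_rfl)
    · rcases k with W | W
      · show (L.ideal W.1).FG
        rw [hLU W.1 W.2]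
        exact Module.Finite.fg_top
      · exact hfgV W.1 W.2
  obtain ⟨K, -, hK, heq⟩ := Groth.L19.Approx.exists_fgOn_top L
    (U := U ⊔ V) (by rw [Opens.coe_sup]; exact hU.union hV) hfg
  have hKV : K.comap V.ι = 𝓘 := by
    rw [← hLV]
    refine Scheme.IdealSheafData.ext (funext fun W => ?_)
    rw [Scheme.IdealSheafData.ideal_comap_of_isOpenImmersion, Scheme.IdealSheafData.ideal_comap_of_isOpenImmersion,
      heq _ (((V.ι.image_mono le_top).trans V.ι_image_top.le).trans le_sup_right)]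
  refine ⟨K, ⟨fun W => hK W le_top, Set.disjoint_left.2 fun x hxK hxU => ?_⟩, hKV⟩
  obtain ⟨W, hxW⟩ := Opens.mem_iSup.1 (Groth.L19.Approx.le_iSup_affineOpens U hxU)
  have h1 := (K.mem_support_iff_of_mem hxW).1 hxK
  rw [heq W.1 (W.2.trans le_sup_left), hLU W.1 W.2, Scheme.mem_zeroLocus_iff] at h1
  exact h1 1 Submodule.mem_top (by rw [Scheme.basicOpen_of_isUnit _ isUnit_one]; exact hxW)

end Groth.L20.FBlow
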