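import Groth.Agent.L20.FBlow.Sec

/-!
# Open immersions of formal systems
-/

set_option autoImplicit false
set_option linter.style.haveILetI false
set_option linter.unusedSectionVars false
set_option backward.isDefEq.respectTransparency false
set_option backward.isDefEq.respectTransparency.types false

universe u

open CategoryTheory CategoryTheory.Limits AlgebraicGeometry TopologicalSpace Opposite

noncomputable section

namespace Groth.L20.FBlow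

open _root_.FBlow Groth.L17.FSheaf

variable {𝔛 𝔜 : FSch.Sys.{u}} {hX : 𝔛.IsFormal} {hY : 𝔜.IsFormal} (f : 𝔜 ⟶ 𝔛)
  [hop : ∀ n, IsOpenImmersion ((f : FSch.Hom 𝔜 𝔛).app n)]

/-- The image of an open. -/
abbrev img (V : (𝔜.X 0).Opens) : (𝔛.X 0).Opens := (f : FSch.Hom 𝔜 𝔛).app 0 ''ᵁ V

theorem le_preimage_img (V : (𝔜.X 0).Opens) : V ≤ (f : FSch.Hom 𝔜 𝔛).app 0 ⁻¹ᵁ img f V :=
  (Scheme.Hom.preimage_image_eq _ V).ge

theorem image_lvU (n : ℕ) (V : (𝔜.X 0).Opens) :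
    (f : FSch.Hom 𝔜 𝔛).app n ''ᵁ 𝔜.lvU hY n V = 𝔛.lvU hX n (img f V) := by
  have hb : ∀ y : 𝔜.X n, 𝔛.gInv hX n ((f : FSch.Hom 𝔜 𝔛).app n y) = (f : FSch.Hom 𝔜 𝔛).app 0 (𝔜.gInv hY n y) :=
    fun y => congrArg (fun φ => φ y) (FSch.Hom.base_gInv f hY hX n)
  ext x
  constructor
  · rintro ⟨y, hy, rfl⟩
    show 𝔛.gInv hX n ((f : FSch.Hom 𝔜 𝔛).app n y) ∈ img f V
    rw [hb]
    exact ⟨_, hy, rfl⟩
  · rintro ⟨y, hy, hyx⟩
    refine ⟨𝔜.toX n y, ?_, ?_⟩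
    · exact (congrArg (y ∈ ·) (toX_preimage_lvU 𝔜 hY n V)).mpr hy
    · refine (ConcreteCategory.bijective_of_isIso (𝔛.gInv hX n)).1 ?_
      refine (hb _).trans ?_
      refine Eq.trans ?_ hyx
      refine congrArg _ ?_
      exact congrArg (fun φ => φ y) (𝔜.toX_base_gInv hY n)

theorem bijective_appLE_image {X Y : Scheme.{u}} (g : Y ⟶ X) [IsOpenImmersion g] {U : X.Opens} {V : Y.Opens}
    (e : g ''ᵁ V = U) (e' : V ≤ g ⁻¹ᵁ U) : Function.Bijective (g.appLE U V e').hom := by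
  subst e
  rw [← Scheme.Hom.appIso_hom']
  exact (g.appIso V).commRingCatIsoToRingEquiv.bijective

variable (hX hY) in
/-- Sections over an open are sections over its image. -/
theorem fR_bijective (V : (𝔜.X 0).Opens) :
    Function.Bijective (fR f hY hX (img f V) V (le_preimage_img f V)) := by
  have hb : ∀ n, Function.Bijective (((f : FSch.Hom 𝔜 𝔛).app n).appLE (𝔛.lvU hX n (img f V)) (𝔜.lvU hY n V)
      (le_preimage_f f hY hX (le_preimage_img f V) n)).hom := fun n =>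
    bijective_appLE_image _ (image_lvU f n V) _
  constructor
  · intro s t hst
    refine pR_ext 𝔛 hX fun n => (hb n).1 ?_
    rw [← pR_fR f hY hX (le_preimage_img f V) n, ← pR_fR f hY hX (le_preimage_img f V) n, hst]
  · intro t
    choose g hg using fun n => (hb n).2 (pR 𝔜 hY n V t)
    obtain ⟨s, hs⟩ := exists_pR 𝔛 hX (img f V) g fun n => by
      refine (hb n).1 ?_
      rw [hg n, ← tR_pR 𝔜 hY n V t, ← hg (n + 1)]
      have e₃ : 𝔜.lvU hY n V ≤ ((f : FSch.Hom 𝔜 𝔛).app n ≫ 𝔛.ι n) ⁻¹ᵁ 𝔛.lvU hX (n + 1) (img f V) :=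
        (le_preimage_f f hY hX (le_preimage_img f V) n).trans
          (Scheme.Hom.preimage_mono _ (𝔛.lvU_le hX n _))
      exact ConcreteCategory.congr_hom ((FSch.appLE_comp_appLE_of_eq _ _ _ rfl _ _ _ (𝔛.lvU_le hX n _)
        (le_preimage_f f hY hX (le_preimage_img f V) n) e₃).trans
        (FSch.appLE_comp_appLE_of_eq _ _ _ ((f : FSch.Hom 𝔜 𝔛).comm n).symm _ _ _
          (le_preimage_f f hY hX (le_preimage_img f V) (n + 1)) (𝔜.lvU_le hY n V) e₃).symm) _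
    refine ⟨s, pR_ext 𝔜 hY fun n => ?_⟩
    rw [pR_fR, hs, hg]

theorem img_mono {V V' : (𝔜.X 0).Opens} (i : V' ≤ V) : img f V' ≤ img f V :=
  Scheme.Hom.image_mono _ i

theorem resS_fR_img {V V' : (𝔜.X 0).Opens} (i : V' ≤ V) (s : Sec 𝔛 hX (img f V)) :
    resS i (fR f hY hX (img f V) V (le_preimage_img f V) s) =
      fR f hY hX (img f V') V' (le_preimage_img f V') (resS (img_mono f i) s) := by
  rw [resS_fR, fR_resS]

theorem mem_idealMap_img_iff (J : IdealSh (𝔛.Osh hX)) {V : (𝔜.X 0).Opens} (s : Sec 𝔛 hX (img f V)) :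
    fR f hY hX (img f V) V (le_preimage_img f V) s ∈ (FBlow.idealMap f hY hX J).sect V ↔
      s ∈ J.sect (img f V) := by
  refine ⟨fun hs => ?_, fun hs => fR_mem_idealMap f hY hX hs _⟩
  refine J.mem_of_local ?_
  rintro _ ⟨y, hy, rfl⟩
  obtain ⟨V₁, i, hyV₁, h₁⟩ := (IdealSh.mem_gen_iff _ V _).1 hs y hy
  refine ⟨img f V₁, img_mono f i, ⟨y, hyV₁, rfl⟩, ?_⟩
  change rO (𝔜.Osh hY) i _ ∈ _ at h₁
  rw [resS_fR_img] at h₁
  have hle : Ideal.span (IdealSh.seed (fun V => {t : Sec 𝔜 hY V | ∃ (Z : (𝔛.X 0).Opens)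
      (j : V ≤ (f : FSch.Hom 𝔜 𝔛).app 0 ⁻¹ᵁ Z) (b : Sec 𝔛 hX Z),
        b ∈ J.sect Z ∧ t = fR f hY hX Z V j b}) V₁) ≤
      (J.sect (img f V₁)).map (fR f hY hX (img f V₁) V₁ (le_preimage_img f V₁)) := by
    rw [Ideal.span_le]
    rintro _ ⟨V₀, j₀, t, ⟨Z, j, b, hb, rfl⟩, rfl⟩
    show resS j₀ (fR f hY hX Z V₀ j b) ∈ _
    have hZ : img f V₁ ≤ Z := by
      rintro _ ⟨z, hz, rfl⟩
      exact j (j₀ hz)
    rw [resS_fR, ← fR_resS f hY hX hZ (le_preimage_img f V₁) b]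
    exact Ideal.mem_map_of_mem _ (J.map_mem hZ hb)
  obtain ⟨c, hc, hc'⟩ := (Ideal.mem_map_iff_of_surjective _ (fR_bijective hX hY f V₁).2).1 (hle h₁)
  exact (fR_bijective hX hY f V₁).1 hc' ▸ hc

theorem reg_fR {W : (𝔛.X 0).Opens} {s : Sec 𝔛 hX W} (hs : Reg (O := 𝔛.Osh hX) W s) {V : (𝔜.X 0).Opens}
    (e : V ≤ (f : FSch.Hom 𝔜 𝔛).app 0 ⁻¹ᵁ W) : Reg (O := 𝔜.Osh hY) V (fR f hY hX W V e s) := by
  intro V' i t ht
  obtain ⟨t', rfl⟩ := (fR_bijective hX hY f V').2 t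
  have hZ : img f V' ≤ W := by
    rintro _ ⟨z, hz, rfl⟩
    exact e (i hz)
  change _ * resS i (fR f hY hX W V e s) = 0 at ht
  rw [resS_fR, ← fR_resS f hY hX hZ (le_preimage_img f V') s, ← map_mul] at ht
  rw [hs _ hZ t' ((fR_bijective hX hY f V').1 (ht.trans (map_zero _).symm)), map_zero]

theorem reg_of_reg_fR {V : (𝔜.X 0).Opens} {s : Sec 𝔛 hX (img f V)}
    (hs : Reg (O := 𝔜.Osh hY) V (fR f hY hX (img f V) V (le_preimage_img f V) s)) :
    Reg (O := 𝔛.Osh hX) (img f V) s := by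
  intro W i t ht
  let V' : (𝔜.X 0).Opens := V ⊓ (f : FSch.Hom 𝔜 𝔛).app 0 ⁻¹ᵁ W
  have hV' : img f V' = W := by
    refine le_antisymm ?_ fun x hx => ?_
    · rintro _ ⟨z, hz, rfl⟩
      exact hz.2
    · obtain ⟨z, hz, rfl⟩ := i hx
      exact ⟨z, ⟨hz, hx⟩, rfl⟩
  suffices key : ∀ (Z : (𝔛.X 0).Opens) (iZ : Z ≤ img f V) (t : Sec 𝔛 hX Z), img f V' = Z →
      t * resS iZ s = 0 → t = 0 from key W i t hV' ht
  intro Z iZ t hZ ht
  subst hZ
  refine (fR_bijective hX hY f V').1 ?_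
  rw [map_zero]
  refine hs V' inf_le_left _ ?_
  change fR f hY hX (img f V') V' (le_preimage_img f V') t *
    resS inf_le_left (fR f hY hX (img f V) V (le_preimage_img f V) s) = 0
  rw [resS_fR_img, ← map_mul]
  exact (congrArg _ ht).trans (map_zero _)

end Groth.L20.FBlow
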