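import Groth.Agent.L20.FBlow.Fam

/-!
# The completion of a blow-up of an affine scheme is an admissible formal blow-up
-/

set_option autoImplicit false
set_option linter.style.haveILetI false
set_option linter.unusedSectionVars false
set_option backward.isDefEq.respectTransparency false
set_option backward.isDefEq.respectTransparency.types false

universe u

open CategoryTheory CategoryTheory.Limits AlgebraicGeometry TopologicalSpace Opposite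

noncomputable section

namespace Groth.L20.FBlow

open _root_.FBlow Groth.L17.FSheaf

variable {𝔜 : FSch.Sys.{u}} {hY : 𝔜.IsFormal}

theorem sS_comp {Y P : Scheme.{u}} (d : ∀ n, 𝔜.X n ⟶ P) (hd : ∀ n, 𝔜.ι n ≫ d (n + 1) = d n) (q : P ⟶ Y)
    (e : ∀ n, 𝔜.X n ⟶ Y) (he : ∀ n, 𝔜.ι n ≫ e (n + 1) = e n) (hde : ∀ n, d n ≫ q = e n)
    {W : Y.Opens} {W' : P.Opens} (w : W' ≤ q ⁻¹ᵁ W) {V : (𝔜.X 0).Opens} (v : V ≤ d 0 ⁻¹ᵁ W')
    (v' : V ≤ e 0 ⁻¹ᵁ W) (a : Γ(Y, W)) :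
    sS e he hY W V v' a = sS d hd hY W' V v ((q.appLE W W' w).hom a) := by
  refine pR_ext 𝔜 hY fun n => ?_
  rw [pR_sS, pR_sS]
  exact (ConcreteCategory.congr_hom (FSch.appLE_comp_appLE_of_eq (d n) q (e n) (hde n) W W' (𝔜.lvU hY n V)
    w (le_preimage_p d hd hY v n) (le_preimage_p e he hY v' n)) a).symm

section Ext

variable {A : Type u} [CommRing A] {𝔞 : Ideal A} {P : Scheme.{u}} {q : P ⟶ Spec (CommRingCat.of A)}
  (e : ∀ n, 𝔜.X n ⟶ Spec (CommRingCat.of A)) (he : ∀ n, 𝔜.ι n ≫ e (n + 1) = e n)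

theorem homOfLE_ι_eq {X : Scheme.{u}} {U V : X.Opens} (i : V ≤ U) : X.homOfLE i ≫ U.ι = V.ι :=
  Scheme.homOfLE_ι X i

theorem resLE_homOfLE (n : ℕ) {V V' : (𝔜.X 0).Opens} (i : V' ≤ V) :
    (𝔜.ι n).resLE (𝔜.lvU hY (n + 1) V') (𝔜.lvU hY n V') (𝔜.lvU_le hY n V') ≫
        (𝔜.X (n + 1)).homOfLE (FBlow.lvU_mono 𝔜 hY (n + 1) i) =
      (𝔜.X n).homOfLE (FBlow.lvU_mono 𝔜 hY n i) ≫
        (𝔜.ι n).resLE (𝔜.lvU hY (n + 1) V) (𝔜.lvU hY n V) (𝔜.lvU_le hY n V) := by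
  rw [← cancel_mono (𝔜.lvU hY (n + 1) V).ι]
  simp [Category.assoc]

theorem cover_lvU {V : (𝔜.X 0).Opens} {n : ℕ} (y : (𝔜.lvU hY n V).toScheme) : 𝔜.gInv hY n y.1 ∈ V := y.2

/-- Compatible families over the base to a blow-up are unique. -/
theorem fam_ext (hq : BlowUp.IsBlowUp q (FSch.idealSpec A 𝔞))
    (H : ∀ x : 𝔜.X 0, ∃ V : (𝔜.X 0).Opens, x ∈ V ∧ InvAff hY 𝔞 e he V) {V : (𝔜.X 0).Opens}
    (m m' : ∀ n, (𝔜.lvU hY n V).toScheme ⟶ P)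
    (hm : ∀ n, (𝔜.ι n).resLE (𝔜.lvU hY (n + 1) V) (𝔜.lvU hY n V) (𝔜.lvU_le hY n V) ≫ m (n + 1) = m n)
    (hm' : ∀ n, (𝔜.ι n).resLE (𝔜.lvU hY (n + 1) V) (𝔜.lvU hY n V) (𝔜.lvU_le hY n V) ≫ m' (n + 1) = m' n)
    (hme : ∀ n, m n ≫ q = (𝔜.lvU hY n V).ι ≫ e n) (hme' : ∀ n, m' n ≫ q = (𝔜.lvU hY n V).ι ≫ e n)
    (n : ℕ) : m n = m' n := by
  have key : ∀ (f : ∀ k, (𝔜.lvU hY k V).toScheme ⟶ P) (x : 𝔜.X 0) (hx : x ∈ V),
      ∃ (O : (𝔜.X 0).Opens) (W : P.affineOpens), x ∈ O ∧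
        ∀ y : (𝔜.lvU hY 0 V).toScheme, y.1 ∈ O → f 0 y ∈ W.1 := by
    intro f x hx
    have hxV : x ∈ 𝔜.lvU hY 0 V := (toX_preimage_lvU 𝔜 hY 0 V).ge hx
    obtain ⟨_, ⟨W, hW, rfl⟩, hxW, -⟩ := P.isBasis_affineOpens.exists_subset_of_mem_open
      (Set.mem_univ (f 0 ⟨x, hxV⟩)) isOpen_univ
    refine ⟨(𝔜.lvU hY 0 V).ι ''ᵁ (f 0 ⁻¹ᵁ W), ⟨W, hW⟩, ⟨⟨x, hxV⟩, hxW, rfl⟩, fun y hy => ?_⟩
    obtain ⟨z, hz, hzy⟩ := hy
    obtain rfl := (𝔜.lvU hY 0 V).ι.isOpenEmbedding.injective (hzy.trans (rfl : y.1 = (𝔜.lvU hY 0 V).ι y))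
    exact hz
  have hloc : ∀ x : V, ∃ (V' : (𝔜.X 0).Opens) (i : V' ≤ V), x.1 ∈ V' ∧
      (𝔜.X n).homOfLE (FBlow.lvU_mono 𝔜 hY n i) ≫ m n = (𝔜.X n).homOfLE (FBlow.lvU_mono 𝔜 hY n i) ≫ m' n := by
    rintro ⟨x, hx⟩
    obtain ⟨U, hxU, hU⟩ := H x
    obtain ⟨O₁, W₁, hxO₁, hW₁⟩ := key m x hx
    obtain ⟨O₂, W₂, hxO₂, hW₂⟩ := key m' x hx
    obtain ⟨_, ⟨V', hV', rfl⟩, hxV', hle⟩ := (𝔜.X 0).isBasis_affineOpens.exists_subset_of_mem_open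
      (show x ∈ V ⊓ U ⊓ (O₁ ⊓ O₂) from ⟨⟨hx, hxU⟩, hxO₁, hxO₂⟩) (V ⊓ U ⊓ (O₁ ⊓ O₂)).2
    have i : V' ≤ V := fun y hy => (hle hy).1.1
    have hV'I : InvAff hY 𝔞 e he V' := hU.mono e he hV' fun y hy => (hle hy).1.2
    obtain ⟨ν, hν, -⟩ := hq.2 _ _ hV'I.effCartier
    refine ⟨V', i, hxV', ?_⟩
    let r : ∀ k, (𝔜.lvU hY k V').toScheme ⟶ (𝔜.lvU hY k V).toScheme := fun k =>
      (𝔜.X k).homOfLE (FBlow.lvU_mono 𝔜 hY k i)
    have hr : ∀ k, (𝔜.ι k).resLE (𝔜.lvU hY (k + 1) V') (𝔜.lvU hY k V') (𝔜.lvU_le hY k V') ≫ r (k + 1) =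
        r k ≫ (𝔜.ι k).resLE (𝔜.lvU hY (k + 1) V) (𝔜.lvU hY k V) (𝔜.lvU_le hY k V) := fun k => resLE_homOfLE k i
    have hrι : ∀ k, r k ≫ (𝔜.lvU hY k V).ι = (𝔜.lvU hY k V').ι := fun k => Scheme.homOfLE_ι _ _
    have hpt : ∀ y : (𝔜.lvU hY 0 V').toScheme, (r 0 y).1 = y.1 := fun y => by
      show ((r 0) ≫ (𝔜.lvU hY 0 V).ι) y = y.1
      rw [hrι]
      rfl
    have hmem : ∀ y : (𝔜.lvU hY 0 V').toScheme, y.1 ∈ V' := fun y =>
      (toX_preimage_lvU 𝔜 hY 0 V').le y.2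
    have e₁ := fam_eq e he hq hV'I ν hν (fun k => r k ≫ m k) (fun k => by rw [← Category.assoc, hr, Category.assoc, hm])
      (fun k => by rw [Category.assoc, hme, ← Category.assoc, hrι]) W₁ (fun y => by
        rw [Scheme.Hom.comp_apply]
        exact hW₁ _ (by rw [hpt]; exact (hle (hmem y)).2.1)) n
    have e₂ := fam_eq e he hq hV'I ν hν (fun k => r k ≫ m' k) (fun k => by rw [← Category.assoc, hr, Category.assoc, hm'])
      (fun k => by rw [Category.assoc, hme', ← Category.assoc, hrι]) W₂ (fun y => by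
        rw [Scheme.Hom.comp_apply]
        exact hW₂ _ (by rw [hpt]; exact (hle (hmem y)).2.2)) n
    exact e₁.trans e₂.symm
  choose V' i hxV' hV' using hloc
  refine hom_ext_opens (fun x : V => (𝔜.lvU hY n V).ι ⁻¹ᵁ 𝔜.lvU hY n (V' x))
    (fun y => ⟨⟨_, cover_lvU y⟩, hxV' _⟩) fun x => ?_
  have hcov : ∀ z : ((𝔜.lvU hY n V).ι ⁻¹ᵁ 𝔜.lvU hY n (V' x) : (𝔜.lvU hY n V).toScheme.Opens).toScheme,
      (((𝔜.lvU hY n V).ι ⁻¹ᵁ 𝔜.lvU hY n (V' x)).ι ≫ (𝔜.lvU hY n V).ι) z ∈ 𝔜.lvU hY n (V' x) := fun z => z.2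
  let l := IsOpenImmersion.lift (𝔜.lvU hY n (V' x)).ι
    (((𝔜.lvU hY n V).ι ⁻¹ᵁ 𝔜.lvU hY n (V' x)).ι ≫ (𝔜.lvU hY n V).ι) (by
      rw [Scheme.Opens.range_ι]
      rintro _ ⟨z, rfl⟩
      exact hcov z)
  have hl : l ≫ (𝔜.X n).homOfLE (FBlow.lvU_mono 𝔜 hY n (i x)) = ((𝔜.lvU hY n V).ι ⁻¹ᵁ 𝔜.lvU hY n (V' x)).ι := by
    rw [← cancel_mono (𝔜.lvU hY n V).ι, Category.assoc, Scheme.homOfLE_ι]
    exact IsOpenImmersion.lift_fac _ _ _
  rw [← hl, Category.assoc, Category.assoc, hV' x]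

/-- Compatible families over the base to a blow-up exist. -/
theorem exists_fam (hq : BlowUp.IsBlowUp q (FSch.idealSpec A 𝔞))
    (H : ∀ x : 𝔜.X 0, ∃ V : (𝔜.X 0).Opens, x ∈ V ∧ InvAff hY 𝔞 e he V) :
    ∃ M : ∀ n, 𝔜.X n ⟶ P, (∀ n, 𝔜.ι n ≫ M (n + 1) = M n) ∧ ∀ n, M n ≫ q = e n := by
  let κ := {V : (𝔜.X 0).Opens // InvAff hY 𝔞 e he V}
  choose ν hν using fun V : κ => (hq.2 _ _ V.2.effCartier).exists
  have hcov : ∀ (n : ℕ) (y : 𝔜.X n), ∃ V : κ, y ∈ 𝔜.lvU hY n V.1 := fun n y => by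
    obtain ⟨V, hyV, hV⟩ := H (𝔜.gInv hY n y)
    exact ⟨⟨V, hV⟩, hyV⟩
  have hg : ∀ n, ∃ g : 𝔜.X n ⟶ P, ∀ V : κ, (𝔜.lvU hY n V.1).ι ≫ g = jS hY V.1 n ≫ ν V := by
    intro n
    refine exists_glue_opens (fun V : κ => 𝔜.lvU hY n V.1) (hcov n) _ fun V V' => ?_
    have key : ∀ (U : κ) (w : V.1 ⊓ V'.1 ≤ U.1) (k : ℕ),
        (𝔜.ι k).resLE (𝔜.lvU hY (k + 1) (V.1 ⊓ V'.1)) (𝔜.lvU hY k (V.1 ⊓ V'.1)) (𝔜.lvU_le hY k _) ≫
          ((𝔜.X (k + 1)).homOfLE (FBlow.lvU_mono 𝔜 hY (k + 1) w) ≫ jS hY U.1 (k + 1) ≫ ν U) =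
        (𝔜.X k).homOfLE (FBlow.lvU_mono 𝔜 hY k w) ≫ jS hY U.1 k ≫ ν U := fun U w k => by
      rw [← Category.assoc, resLE_homOfLE k w, Category.assoc, ← Category.assoc _ (jS hY U.1 (k + 1)), resLE_jS]
    have key' : ∀ (U : κ) (w : V.1 ⊓ V'.1 ≤ U.1) (k : ℕ),
        ((𝔜.X k).homOfLE (FBlow.lvU_mono 𝔜 hY k w) ≫ jS hY U.1 k ≫ ν U) ≫ q =
          (𝔜.lvU hY k (V.1 ⊓ V'.1)).ι ≫ e k := fun U w k => by
      rw [Category.assoc, Category.assoc, hν, jS_scal, ← Category.assoc, Scheme.homOfLE_ι]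
    exact fam_ext e he hq H _ _ (key V inf_le_left) (key V' inf_le_right) (key' V inf_le_left) (key' V' inf_le_right) n
  choose M hM using hg
  refine ⟨M, fun n => ?_, fun n => ?_⟩
  · refine hom_ext_opens (fun V : κ => 𝔜.lvU hY n V.1) (hcov n) fun V => ?_
    rw [hM, ← Category.assoc, ← Scheme.Hom.resLE_comp_ι (𝔜.ι n) (𝔜.lvU_le hY n V.1), Category.assoc, hM,
      ← Category.assoc, resLE_jS]
  · refine hom_ext_opens (fun V : κ => 𝔜.lvU hY n V.1) (hcov n) fun V => ?_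
    rw [← Category.assoc, hM, Category.assoc, hν, jS_scal]

/-- An invertible inverse image gives the affine opens with regular generators. -/
theorem exists_invAff {K : IdealSh (𝔜.Osh hY)} (hK : GenOn K ⊤ (𝔞.map (scal hY e he ⊤)))
    (hinv : K.IsInvertible) (x : 𝔜.X 0) : ∃ V : (𝔜.X 0).Opens, x ∈ V ∧ InvAff hY 𝔞 e he V := by
  obtain ⟨U, s, hxU, hg, hr⟩ := exists_genOn_of_isInvertible hinv x
  obtain ⟨W, j, hxW, hsW⟩ := (hK U le_top s).1 (hg.le (Ideal.mem_span_singleton_self s)) x hxU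
  obtain ⟨_, ⟨V, hV, rfl⟩, hxV, hVW⟩ := (𝔜.X 0).isBasis_affineOpens.exists_subset_of_mem_open hxW W.2
  have v : V ≤ U := fun y hy => j (hVW hy)
  refine ⟨V, hxV, hV, resS v s, hr.mono v, le_antisymm ?_ ?_⟩
  · rw [← map_resS_scal e he (le_top : V ≤ ⊤)]
    refine (hK.map_le le_top).trans fun t ht => ?_
    obtain ⟨c, rfl⟩ := exists_eq_mul_of_local hr v t fun y hy => by
      obtain ⟨W', j', hyW', hW'⟩ := (hg V v t).1 ht y hy
      rw [Ideal.map_span, Set.image_singleton, Ideal.mem_span_singleton'] at hW'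
      obtain ⟨c, hc⟩ := hW'
      exact ⟨W', j', c, hyW', hc.symm⟩
    exact Ideal.mul_mem_left _ _ (Ideal.mem_span_singleton_self _)
  · rw [Ideal.span_le, Set.singleton_subset_iff]
    have h2 := Ideal.mem_map_of_mem (resS (h := hY) (show V ≤ W from hVW)) hsW
    rw [map_rO, map_resS_scal, rO_rO] at h2
    exact h2

end Ext

section Piece

variable {R : Type u} [CommRing R] {I : Ideal R} {A : Type u} [CommRing A] [Algebra R A]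
  {𝔛 : FSch.Sys.{u}} {h : 𝔛.IsFormal} {c : ∀ n, 𝔛.X n ⟶ Spec (CommRingCat.of A)}
  {P : Scheme.{u}} {q : P ⟶ Spec (CommRingCat.of A)} {d : ∀ n, 𝔜.X n ⟶ P} {b : 𝔜 ⟶ 𝔛}

theorem flat_completion (hR : AdicRing.IsBase R I) (hA : AdicRing.TopFiniteType R I A) [LocallyOfFiniteType q]
    (W : P.affineOpens) :
    Module.Flat Γ(P, W.1)
      (AdicCompletion (((FSch.idealSpec A (I.map (algebraMap R A))).comap q).ideal W) Γ(P, W.1)) := by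
  let φ : A →+* Γ(P, W.1) :=
    (q.appLE ⊤ W.1 le_top).hom.comp (Scheme.ΓSpecIso (CommRingCat.of A)).inv.hom
  letI : Algebra A Γ(P, W.1) := φ.toAlgebra
  letI : Algebra R Γ(P, W.1) := (φ.comp (algebraMap R A)).toAlgebra
  haveI : IsScalarTower R A Γ(P, W.1) := IsScalarTower.of_algebraMap_eq fun _ => rfl
  haveI : Algebra.FiniteType A Γ(P, W.1) := by
    have h1 := HasRingHomProperty.appLE @LocallyOfFiniteType q inferInstance ⟨⊤, isAffineOpen_top _⟩ W le_top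
    exact h1.comp (RingHom.FiniteType.of_surjective _
      (Scheme.ΓSpecIso (CommRingCat.of A)).symm.commRingCatIsoToRingEquiv.surjective)
  have e : ((FSch.idealSpec A (I.map (algebraMap R A))).comap q).ideal W = I.map (algebraMap R Γ(P, W.1)) := by
    rw [Groth.L22.Ideals.comap_ideal q _ ⟨⊤, isAffineOpen_top _⟩ W le_top, idealSpec_eq, Groth.L13.BU.idealOf_top,
      Ideal.map_map, Ideal.map_map]
    rfl
  rw [e]
  exact Groth.Agent.S11539.result R I hR A hA Γ(P, W.1)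

/-- The completion of the blow-up of an affine scheme is an admissible formal blow-up. -/
theorem isAdmBlowUp_of_scheme (hR : AdicRing.IsBase R I) (hA : AdicRing.TopFiniteType R I A)
    (hc : ∀ n, 𝔛.ι n ≫ c (n + 1) = c n)
    (hthick : IsThick 𝔛 c (FSch.idealSpec A (I.map (algebraMap R A))))
    [LocallyOfFiniteType q] {𝔞 : Ideal A} (hq : BlowUp.IsBlowUp q (FSch.idealSpec A 𝔞))
    (hd : ∀ n, 𝔜.ι n ≫ d (n + 1) = d n)
    (hsq : ∀ n, IsPullback (d n) ((b : FSch.Hom 𝔜 𝔛).app n) q (c n))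
    {J : IdealSh (𝔛.Osh h)} (hJ : GenOn J ⊤ (𝔞.map (scal h c hc ⊤))) :
    FBlow.IsAdmBlowUp b hY h J := by
  have hgen : ∀ (ℨ : FSch.Sys.{u}) (hZ : ℨ.IsFormal) (g : ℨ ⟶ 𝔛) (e : ∀ n, ℨ.X n ⟶ Spec (CommRingCat.of A))
      (he : ∀ n, ℨ.ι n ≫ e (n + 1) = e n), (∀ n, (g : FSch.Hom ℨ 𝔛).app n ≫ c n = e n) →
      GenOn (FBlow.idealMap g hZ h J) ⊤ (𝔞.map (scal hZ e he ⊤)) := by
    intro ℨ hZ g e he hge
    refine (hJ.idealMap g hZ h (V := ⊤) (fun _ _ => trivial)).congr_ideal ?_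
    rw [Ideal.map_map]
    exact congrArg (Ideal.map · 𝔞) (RingHom.ext fun a =>
      fR_sS g hZ h c hc e he hge (W := ⊤) (U := ⊤) (V := ⊤) le_top (fun _ _ => trivial) le_top
        ((Scheme.ΓSpecIso (CommRingCat.of A)).inv a))
  refine ⟨fun n => ?_, ?_, fun ℨ hZ g hg hinv => ?_⟩
  · refine IsPullback.of_right ?_ ((b : FSch.Hom 𝔜 𝔛).comm n).symm (hsq (n + 1))
    rw [hd, hc]
    exact hsq n
  · have hI := isThick_of_isPullback hthick q hsq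
    let e : ∀ n, 𝔜.X n ⟶ Spec (CommRingCat.of A) := fun n => d n ≫ q
    have he : ∀ n, 𝔜.ι n ≫ e (n + 1) = e n := fun n => by simp only [e, ← Category.assoc, hd]
    have hK := hgen 𝔜 hY b e he fun n => (hsq n).w.symm
    refine isInvertible_of_local fun x => ?_
    obtain ⟨U, hxU, f, -, -, hU⟩ := Groth.L22.Ideals.exists_generator hq.1 (d 0 x)
    obtain ⟨_, ⟨W, hW, rfl⟩, hxW, hWU⟩ := P.isBasis_affineOpens.exists_subset_of_mem_open hxU U.1.2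
    let s : Γ(P, W) := P.presheaf.map (homOfLE hWU).op f
    have hs : ((FSch.idealSpec A 𝔞).comap q).ideal ⟨W, hW⟩ = Ideal.span {s} := (hU ⟨W, hW⟩ hWU).2
    refine ⟨d 0 ⁻¹ᵁ W, sS d hd hY W (d 0 ⁻¹ᵁ W) le_rfl s, hxW, ?_, ?_⟩
    · refine ((hK.mono (le_top : d 0 ⁻¹ᵁ W ≤ ⊤)).congr_ideal ?_)
      rw [map_resS_scal]
      rw [← Set.image_singleton, ← Ideal.map_span, ← hs,
        Groth.L22.Ideals.comap_ideal q _ ⟨⊤, isAffineOpen_top _⟩ ⟨W, hW⟩ le_top, idealSpec_eq,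
        Groth.L13.BU.idealOf_top, Ideal.map_map, Ideal.map_map]
      refine congrArg (Ideal.map · 𝔞) (RingHom.ext fun a => ?_)
      exact sS_comp d hd q e he (fun _ => rfl) le_top le_rfl le_top _
    · refine reg_sS (flat_completion hR hA) hI ⟨W, hW⟩ fun W' w => ?_
      have hs' := (hU W' (w.trans hWU)).1
      convert hs' using 1
      exact FBlow.sch_map_comp_apply hWU w f
  · let e : ∀ n, ℨ.X n ⟶ Spec (CommRingCat.of A) := fun n => (g : FSch.Hom ℨ 𝔛).app n ≫ c n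
    have he : ∀ n, ℨ.ι n ≫ e (n + 1) = e n := fun n => by
      simp only [e]
      rw [← Category.assoc, ← (g : FSch.Hom ℨ 𝔛).comm n, Category.assoc, hc]
    have H := exists_invAff e he (hgen ℨ hZ g e he fun _ => rfl) hinv
    obtain ⟨M, hM, hMe⟩ := exists_fam e he hq H
    let k : ℨ ⟶ 𝔜 := ⟨fun n => (hsq n).lift (M n) ((g : FSch.Hom ℨ 𝔛).app n) (hMe n), fun n => by
      refine (hsq (n + 1)).hom_ext ?_ ?_
      · rw [Category.assoc, hd, (hsq n).lift_fst, Category.assoc, (hsq (n + 1)).lift_fst, hM]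
      · rw [Category.assoc, ← (b : FSch.Hom 𝔜 𝔛).comm n, ← Category.assoc, (hsq n).lift_snd, Category.assoc,
          (hsq (n + 1)).lift_snd, (g : FSch.Hom ℨ 𝔛).comm n]⟩
    refine ⟨k, FSch.Hom.ext (funext fun n => (hsq n).lift_snd _ _ _), fun k' hk' => ?_⟩
    refine FSch.Hom.ext (funext fun n => (hsq n).hom_ext ?_ ?_)
    · rw [show (k : FSch.Hom ℨ 𝔜).app n = (hsq n).lift (M n) _ (hMe n) from rfl, (hsq n).lift_fst]
      have h1 : ∀ j, (g : FSch.Hom ℨ 𝔛).app j = (k' : FSch.Hom ℨ 𝔜).app j ≫ (b : FSch.Hom 𝔜 𝔛).app j := fun j => by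
        rw [← hk']
        rfl
      refine hom_ext_opens (fun _ : PUnit.{u + 1} => ℨ.lvU hZ n ⊤) (fun y => ⟨PUnit.unit, trivial⟩) fun _ => ?_
      refine fam_ext e he hq H (fun j => (ℨ.lvU hZ j ⊤).ι ≫ (k' : FSch.Hom ℨ 𝔜).app j ≫ d j)
        (fun j => (ℨ.lvU hZ j ⊤).ι ≫ M j) (fun j => ?_) (fun j => ?_) (fun j => ?_) (fun j => ?_) n
      · rw [← Category.assoc, Scheme.Hom.resLE_comp_ι, Category.assoc, ← Category.assoc (ℨ.ι j),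
          ← (k' : FSch.Hom ℨ 𝔜).comm j, Category.assoc, hd]
      · rw [← Category.assoc, Scheme.Hom.resLE_comp_ι, Category.assoc, hM]
      · simp only [e, Category.assoc, h1, (hsq j).w]
      · rw [Category.assoc, hMe]
    · rw [show (k : FSch.Hom ℨ 𝔜).app n = (hsq n).lift (M n) _ (hMe n) from rfl, (hsq n).lift_snd]
      rw [← hk']
      rfl

end Piece

end Groth.L20.FBlow
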