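import Groth.Agent.L20.FBlow.Gen
import Groth.Agent.L17.FSheaf.Osh
import Mathlib.RingTheory.Ideal.Maps

/-!
# Sections of `O_𝔛`: maps induced by morphisms of systems and by maps to schemes, units
-/

set_option autoImplicit false
set_option linter.style.haveILetI false
set_option linter.unusedSectionVars false
set_option backward.isDefEq.respectTransparency false
set_option backward.isDefEq.respectTransparency.types false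

universe u

open CategoryTheory CategoryTheory.Limits AlgebraicGeometry TopologicalSpace Opposite

noncomputable section

namespace Groth.L20.FBlow

open _root_.FBlow Groth.L17.FSheaf

variable {𝔛 : FSch.Sys.{u}} {h : 𝔛.IsFormal}

/-- The sections of `O_𝔛`. -/
abbrev Sec (𝔛 : FSch.Sys.{u}) (h : 𝔛.IsFormal) (U : (𝔛.X 0).Opens) : Type u := (𝔛.Osh h).obj.obj (op U)

/-- Restriction on `O_𝔛`. -/
abbrev resS {U V : (𝔛.X 0).Opens} (i : V ≤ U) : Sec 𝔛 h U →+* Sec 𝔛 h V := rO (𝔛.Osh h) i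

theorem pR_resS {U V : (𝔛.X 0).Opens} (i : V ≤ U) (k : ℕ) (x : Sec 𝔛 h U) :
    pR 𝔛 h k V (resS i x) = (𝔛.X k).presheaf.map (homOfLE (FBlow.lvU_mono 𝔛 h k i)).op (pR 𝔛 h k U x) :=
  ConcreteCategory.congr_hom ((𝔛.OshProj h k).hom.naturality (homOfLE i).op) x

section ToScheme

variable {Y : Scheme.{u}} (p : ∀ n, 𝔛.X n ⟶ Y) (hp : ∀ n, 𝔛.ι n ≫ p (n + 1) = p n) (h : 𝔛.IsFormal)

include hp in
theorem le_preimage_p {W : Y.Opens} {U : (𝔛.X 0).Opens} (e : U ≤ p 0 ⁻¹ᵁ W) (n : ℕ) :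
    𝔛.lvU h n U ≤ p n ⁻¹ᵁ W :=
  (FBlow.lvU_mono 𝔛 h n e).trans (FSch.lvU_p 𝔛 h p hp n W).ge

/-- Functions of a scheme as sections of `O_𝔛`. -/
def sS (W : Y.Opens) (U : (𝔛.X 0).Opens) (e : U ≤ p 0 ⁻¹ᵁ W) : Γ(Y, W) →+* Sec 𝔛 h U :=
  (resS (U := p 0 ⁻¹ᵁ W) e).comp ((FSch.schSharp 𝔛 h p hp).hom.app (op W)).hom

theorem pR_sS {W : Y.Opens} {U : (𝔛.X 0).Opens} (e : U ≤ p 0 ⁻¹ᵁ W) (n : ℕ) (a : Γ(Y, W)) :
    pR 𝔛 h n U (sS p hp h W U e a) = ((p n).appLE W (𝔛.lvU h n U) (le_preimage_p p hp h e n)).hom a := by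
  refine (pR_resS e n _).trans ?_
  have h1 := ConcreteCategory.congr_hom (congrArg (fun t => t.hom.app (op W))
    (FSch.schSharp_proj 𝔛 h p hp n)) a
  refine (congrArg ((𝔛.X n).presheaf.map (homOfLE (FBlow.lvU_mono 𝔛 h n e)).op) h1).trans ?_
  show ((p n).appLE W (𝔛.lvU h n (p 0 ⁻¹ᵁ W)) _ ≫ (𝔛.X n).presheaf.map _) a = _
  rw [Scheme.Hom.appLE_map]

theorem resS_sS {W : Y.Opens} {U V : (𝔛.X 0).Opens} (e : U ≤ p 0 ⁻¹ᵁ W) (i : V ≤ U) (a : Γ(Y, W)) :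
    resS i (sS p hp h W U e a) = sS p hp h W V (i.trans e) a :=
  rO_rO (O := 𝔛.Osh h) e i _

theorem sS_map {W W' : Y.Opens} (w : W' ≤ W) {U : (𝔛.X 0).Opens} (e : U ≤ p 0 ⁻¹ᵁ W') (a : Γ(Y, W)) :
    sS p hp h W' U e (Y.presheaf.map (homOfLE w).op a) =
      sS p hp h W U (e.trans fun _ hy => w hy) a := by
  refine pR_ext 𝔛 h fun n => ?_
  rw [pR_sS, pR_sS]
  exact ConcreteCategory.congr_hom (Scheme.Hom.map_appLE (p n) (le_preimage_p p hp h e n) (homOfLE w).op) a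

/-- The ideal sheaf of quasi-coherent data is generated on an affine open by the ideal there. -/
theorem genOn_ofData (𝓘 : Y.IdealSheafData) (W : Y.affineOpens) :
    GenOn (IdealSh.ofData 𝓘) W.1 (𝓘.ideal W) := by
  intro V i t
  constructor
  · intro ht x hx
    obtain ⟨V', i', hxV', hV'⟩ := ht x hx
    refine ⟨V'.1, i', hxV', ?_⟩
    have e := 𝓘.map_ideal (U := V') (V := W) (show V'.1 ≤ W.1 from i'.trans i)
    exact e.ge hV'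
  · intro ht
    refine (IdealSh.ofData 𝓘).mem_of_local fun x hx => ?_
    obtain ⟨V', j, hxV', hV'⟩ := ht x hx
    obtain ⟨V'', hV'', hxV'', hle⟩ := Opens.isBasis_iff_nbhd.mp Y.isBasis_affineOpens hxV'
    refine ⟨V'', hle.trans j, hxV'', fun y hy => ⟨⟨V'', hV''⟩, le_rfl, hy, ?_⟩⟩
    have e := 𝓘.map_ideal (U := ⟨V'', hV''⟩) (V := W) (show V'' ≤ W.1 from hle.trans (j.trans i))
    have h2 := Ideal.mem_map_of_mem (rO Y.sheaf hle) hV'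
    rw [map_rO, rO_rO] at h2
    have h3 : Y.presheaf.map (homOfLE (le_refl V'')).op ((IdealSh.ofData 𝓘) |> fun _ => rO Y.sheaf (hle.trans j) t)
        = rO Y.sheaf (hle.trans j) t := rO_self (O := Y.sheaf) le_rfl _
    exact h3.symm ▸ e.le h2

/-- The ideal generated along a map to a scheme. -/
theorem GenOn.schIdealMap {K : IdealSh Y.sheaf} {W : Y.Opens} {N : Ideal Γ(Y, W)}
    (hK : GenOn (O := Y.sheaf) K W N) {U : (𝔛.X 0).Opens} (e : U ≤ p 0 ⁻¹ᵁ W) :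
    GenOn (FBlow.schIdealMap 𝔛 h p hp K) U (N.map (sS p hp h W U e)) := by
  have h1 := GenOn.mono (GenOn.map (p 0).base (FSch.schSharp 𝔛 h p hp) hK) e
  exact h1.congr_ideal (Ideal.map_map _ _)

end ToScheme

section Mor

variable {𝔜 𝔚 : FSch.Sys.{u}} (f : 𝔜 ⟶ 𝔛) (hY : 𝔜.IsFormal) (hX : 𝔛.IsFormal)

theorem le_preimage_f {U : (𝔛.X 0).Opens} {V : (𝔜.X 0).Opens} (e : V ≤ (f : FSch.Hom 𝔜 𝔛).app 0 ⁻¹ᵁ U)
    (n : ℕ) : 𝔜.lvU hY n V ≤ (f : FSch.Hom 𝔜 𝔛).app n ⁻¹ᵁ 𝔛.lvU hX n U :=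
  (FBlow.lvU_mono 𝔜 hY n e).trans (FSch.Hom.lvU_preimage f hY hX n U).ge

/-- The map on sections induced by a morphism of systems. -/
def fR (U : (𝔛.X 0).Opens) (V : (𝔜.X 0).Opens) (e : V ≤ (f : FSch.Hom 𝔜 𝔛).app 0 ⁻¹ᵁ U) :
    Sec 𝔛 hX U →+* Sec 𝔜 hY V :=
  (resS (U := (f : FSch.Hom 𝔜 𝔛).app 0 ⁻¹ᵁ U) e).comp ((FSch.Hom.sharp f hY hX).hom.app (op U)).hom

theorem pR_fR {U : (𝔛.X 0).Opens} {V : (𝔜.X 0).Opens} (e : V ≤ (f : FSch.Hom 𝔜 𝔛).app 0 ⁻¹ᵁ U) (n : ℕ)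
    (x : Sec 𝔛 hX U) : pR 𝔜 hY n V (fR f hY hX U V e x) =
      (((f : FSch.Hom 𝔜 𝔛).app n).appLE (𝔛.lvU hX n U) (𝔜.lvU hY n V) (le_preimage_f f hY hX e n)).hom
        (pR 𝔛 hX n U x) := by
  refine (pR_resS e n _).trans ?_
  have h1 := ConcreteCategory.congr_hom (congrArg (fun t => t.hom.app (op U))
    (FSch.Hom.sharp_proj f hY hX n)) x
  refine (congrArg ((𝔜.X n).presheaf.map (homOfLE (FBlow.lvU_mono 𝔜 hY n e)).op) h1).trans ?_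
  show (((f : FSch.Hom 𝔜 𝔛).app n).appLE (𝔛.lvU hX n U) (𝔜.lvU hY n _) _ ≫ (𝔜.X n).presheaf.map _) _ = _
  rw [Scheme.Hom.appLE_map]
  rfl

theorem resS_fR {U : (𝔛.X 0).Opens} {V V' : (𝔜.X 0).Opens} (e : V ≤ (f : FSch.Hom 𝔜 𝔛).app 0 ⁻¹ᵁ U)
    (i : V' ≤ V) (x : Sec 𝔛 hX U) : resS i (fR f hY hX U V e x) = fR f hY hX U V' (i.trans e) x :=
  rO_rO (O := 𝔜.Osh hY) e i _

theorem fR_resS {U U' : (𝔛.X 0).Opens} (w : U' ≤ U) {V : (𝔜.X 0).Opens}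
    (e : V ≤ (f : FSch.Hom 𝔜 𝔛).app 0 ⁻¹ᵁ U') (x : Sec 𝔛 hX U) :
    fR f hY hX U' V e (resS w x) = fR f hY hX U V (e.trans fun _ hy => w hy) x := by
  refine pR_ext 𝔜 hY fun n => ?_
  rw [pR_fR, pR_fR, pR_resS]
  exact ConcreteCategory.congr_hom
    (Scheme.Hom.map_appLE ((f : FSch.Hom 𝔜 𝔛).app n) (le_preimage_f f hY hX e n)
      (homOfLE (FBlow.lvU_mono 𝔛 hX n w)).op) (pR 𝔛 hX n U x)

theorem fR_fR (g : 𝔚 ⟶ 𝔜) (hW : 𝔚.IsFormal) {U : (𝔛.X 0).Opens} {V : (𝔜.X 0).Opens} {W : (𝔚.X 0).Opens}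
    (e : V ≤ (f : FSch.Hom 𝔜 𝔛).app 0 ⁻¹ᵁ U) (e' : W ≤ (g : FSch.Hom 𝔚 𝔜).app 0 ⁻¹ᵁ V)
    (e'' : W ≤ (g ≫ f : FSch.Hom 𝔚 𝔛).app 0 ⁻¹ᵁ U) (x : Sec 𝔛 hX U) :
    fR g hW hY V W e' (fR f hY hX U V e x) = fR (g ≫ f) hW hX U W e'' x := by
  refine pR_ext 𝔚 hW fun n => ?_
  rw [pR_fR, pR_fR, pR_fR]
  exact ConcreteCategory.congr_hom (FSch.appLE_comp_appLE_of_eq _ _ _ (FSch.comp_app g f n).symm
    (𝔛.lvU hX n U) (𝔜.lvU hY n V) (𝔚.lvU hW n W) (le_preimage_f f hY hX e n) (le_preimage_f g hW hY e' n)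
    (le_preimage_f (g ≫ f) hW hX e'' n)) _

theorem fR_sS {Y : Scheme.{u}} (p : ∀ n, 𝔛.X n ⟶ Y) (hp : ∀ n, 𝔛.ι n ≫ p (n + 1) = p n)
    (q : ∀ n, 𝔜.X n ⟶ Y) (hq : ∀ n, 𝔜.ι n ≫ q (n + 1) = q n)
    (hpq : ∀ n, (f : FSch.Hom 𝔜 𝔛).app n ≫ p n = q n) {W : Y.Opens} {U : (𝔛.X 0).Opens} {V : (𝔜.X 0).Opens}
    (e : U ≤ p 0 ⁻¹ᵁ W) (e' : V ≤ (f : FSch.Hom 𝔜 𝔛).app 0 ⁻¹ᵁ U) (e'' : V ≤ q 0 ⁻¹ᵁ W) (a : Γ(Y, W)) :
    fR f hY hX U V e' (sS p hp hX W U e a) = sS q hq hY W V e'' a := by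
  refine pR_ext 𝔜 hY fun n => ?_
  rw [pR_fR, pR_sS, pR_sS]
  exact ConcreteCategory.congr_hom (FSch.appLE_comp_appLE_of_eq _ _ _ (hpq n)
    W (𝔛.lvU hX n U) (𝔜.lvU hY n V) (le_preimage_p p hp hX e n) (le_preimage_f f hY hX e' n)
    (le_preimage_p q hq hY e'' n)) a

/-- The ideal generated along a morphism of systems. -/
theorem GenOn.idealMap {J : IdealSh (𝔛.Osh hX)} {U : (𝔛.X 0).Opens} {N : Ideal (Sec 𝔛 hX U)}
    (hJ : GenOn J U N) {V : (𝔜.X 0).Opens} (e : V ≤ (f : FSch.Hom 𝔜 𝔛).app 0 ⁻¹ᵁ U) :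
    GenOn (FBlow.idealMap f hY hX J) V (N.map (fR f hY hX U V e)) := by
  have h1 := GenOn.mono (GenOn.map ((f : FSch.Hom 𝔜 𝔛).app 0).base (FSch.Hom.sharp f hY hX) hJ) e
  exact h1.congr_ideal (Ideal.map_map _ _)

theorem fR_mem_idealMap {J : IdealSh (𝔛.Osh hX)} {U : (𝔛.X 0).Opens} {a : Sec 𝔛 hX U} (ha : a ∈ J.sect U)
    {V : (𝔜.X 0).Opens} (e : V ≤ (f : FSch.Hom 𝔜 𝔛).app 0 ⁻¹ᵁ U) :
    fR f hY hX U V e a ∈ (FBlow.idealMap f hY hX J).sect V :=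
  IdealSh.image_mem_map _ _ J ha (V := V) e

theorem idealMap_le_iff {J : IdealSh (𝔛.Osh hX)} {K : IdealSh (𝔜.Osh hY)}
    (H : ∀ (U : (𝔛.X 0).Opens), ∀ a ∈ J.sect U, ∀ (V : (𝔜.X 0).Opens)
      (e : V ≤ (f : FSch.Hom 𝔜 𝔛).app 0 ⁻¹ᵁ U), fR f hY hX U V e a ∈ K.sect V) :
    FBlow.idealMap f hY hX J ≤ K :=
  IdealSh.map_le fun U a ha V e => H U a ha V e

/-- Inverse images of ideal sheaves compose. -/
theorem idealMap_comp (g : 𝔚 ⟶ 𝔜) (hW : 𝔚.IsFormal) (J : IdealSh (𝔛.Osh hX)) :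
    FBlow.idealMap g hW hY (FBlow.idealMap f hY hX J) = FBlow.idealMap (g ≫ f) hW hX J := by
  refine IdealSh.ext (funext fun V => le_antisymm ?_ ?_)
  · refine idealMap_le_iff g hW hY (fun U a ha W e => ?_) V
    refine (FBlow.idealMap (g ≫ f) hW hX J).mem_of_local fun x hx => ?_
    obtain ⟨U₁, i₁, hxU₁, h₁⟩ := (IdealSh.mem_gen_iff _ U a).1 ha ((g : FSch.Hom 𝔚 𝔜).app 0 x) (e hx)
    let W₁ : (𝔚.X 0).Opens := W ⊓ (g : FSch.Hom 𝔚 𝔜).app 0 ⁻¹ᵁ U₁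
    have hW₁ : W₁ ≤ (g : FSch.Hom 𝔚 𝔜).app 0 ⁻¹ᵁ U₁ := inf_le_right
    refine ⟨W₁, inf_le_left, ⟨hx, hxU₁⟩, ?_⟩
    show resS _ (fR g hW hY U W e a) ∈ _
    rw [resS_fR, ← fR_resS g hW hY i₁ hW₁ a]
    suffices ∀ s ∈ Ideal.span (IdealSh.seed (fun V => {t : Sec 𝔜 hY V | ∃ (Z : (𝔛.X 0).Opens)
        (j : V ≤ (f : FSch.Hom 𝔜 𝔛).app 0 ⁻¹ᵁ Z) (b : Sec 𝔛 hX Z),
          b ∈ J.sect Z ∧ t = fR f hY hX Z V j b}) U₁),
        fR g hW hY U₁ W₁ hW₁ s ∈ (FBlow.idealMap (g ≫ f) hW hX J).sect W₁ from this _ h₁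
    intro s hs
    induction hs using Submodule.span_induction with
    | mem s hs =>
      obtain ⟨V₀, j₀, t, ⟨Z, j, b, hb, rfl⟩, rfl⟩ := hs
      show fR g hW hY U₁ W₁ hW₁ (resS j₀ (fR f hY hX Z V₀ j b)) ∈ _
      rw [resS_fR, fR_fR f hY hX g hW _ hW₁ (fun y hy => j (j₀ (hW₁ hy)))]
      exact fR_mem_idealMap _ _ _ hb _
    | zero => rw [map_zero]; exact zero_mem _
    | add a b _ _ iha ihb => rw [map_add]; exact add_mem iha ihb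
    | smul c a _ iha => rw [smul_eq_mul, map_mul]; exact Ideal.mul_mem_left _ _ iha
  · refine idealMap_le_iff (g ≫ f) hW hX (fun U a ha W e => ?_) V
    rw [← fR_fR f hY hX g hW (le_refl ((f : FSch.Hom 𝔜 𝔛).app 0 ⁻¹ᵁ U)) e e a]
    exact fR_mem_idealMap _ _ _ (fR_mem_idealMap _ _ _ ha _) _

end Mor

section Units

theorem isUnit_of_le_basicOpen {X : Scheme.{u}} {U : X.Opens} {f : Γ(X, U)} (hf : U ≤ X.basicOpen f) : IsUnit f := by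
  have h1 := RingedSpace.isUnit_res_basicOpen X.toLocallyRingedSpace.toRingedSpace f
  have e : X.basicOpen f = U := le_antisymm (X.basicOpen_le f) hf
  have h2 := h1.map (X.presheaf.map (eqToHom e.symm).op).hom
  refine Eq.mp (congrArg IsUnit ?_) h2
  show ((X.presheaf.map (homOfLE (X.basicOpen_le f)).op) ≫ X.presheaf.map _) f = f
  rw [← X.presheaf.map_comp]
  erw [X.presheaf.map_id]
  rfl

/-- A section is invertible when its reduction to the smallest level is. -/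
theorem isUnit_of_pR_zero {U : (𝔛.X 0).Opens} {s : Sec 𝔛 h U} (hs : IsUnit (pR 𝔛 h 0 U s)) : IsUnit s := by
  have hk : ∀ k, IsUnit (pR 𝔛 h k U s) := by
    intro k
    induction k with
    | zero => exact hs
    | succ k ih =>
      refine isUnit_of_le_basicOpen fun y hy => ?_
      obtain ⟨z, rfl⟩ := (h k).2 y
      have hz : z ∈ 𝔛.lvU h k U := (𝔛.lvU_succ h k U).le hy
      have e := (𝔛.X k).basicOpen_of_isUnit ih
      rw [← tR_pR 𝔛 h k U s] at e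
      have h2 : z ∈ (𝔛.X k).basicOpen (tR 𝔛 h k U (pR 𝔛 h (k + 1) U s)) := e.ge hz
      rw [Scheme.basicOpen_appLE] at h2
      exact h2.2
  choose t ht using fun k => (hk k).exists_left_inv
  obtain ⟨x, hx⟩ := exists_pR 𝔛 h U t fun k => by
    refine (hk k).mul_right_cancel ?_
    conv_lhs => rw [← tR_pR 𝔛 h k U s, ← map_mul, ht, map_one]
    exact (ht k).symm
  exact IsUnit.of_mul_eq_one_right x (pR_ext 𝔛 h fun k => by rw [map_mul, hx, ht, map_one])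

/-- In a family of sections generating the unit ideal, one is invertible near a given point. -/
theorem exists_isUnit_of_sum_eq_one {U : (𝔛.X 0).Opens} {ι : Type*} (s : Finset ι) (c : ι → Sec 𝔛 h U)
    (hc : Ideal.span (c '' ↑s) = ⊤) {x : 𝔛.X 0} (hx : x ∈ U) :
    ∃ i ∈ s, ∃ (V : (𝔛.X 0).Opens) (j : V ≤ U), x ∈ V ∧ IsUnit (resS j (c i)) := by
  have hxU : x ∈ 𝔛.lvU h 0 U := (toX_preimage_lvU 𝔛 h 0 U).ge hx
  let φ : Sec 𝔛 h U →+* (𝔛.X 0).presheaf.stalk x :=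
    ((𝔛.X 0).presheaf.germ _ x hxU).hom.comp (pR 𝔛 h 0 U)
  obtain ⟨i, hi, hiu⟩ : ∃ i ∈ s, IsUnit (φ (c i)) := by
    by_contra! hne
    have h1 : (Ideal.span (c '' ↑s)).map φ ≤ IsLocalRing.maximalIdeal _ := by
      rw [Ideal.map_span, Ideal.span_le]
      rintro _ ⟨_, ⟨i, hi, rfl⟩, rfl⟩
      exact hne i hi
    rw [hc, Ideal.map_top] at h1
    exact (IsLocalRing.maximalIdeal.isMaximal _).ne_top (top_le_iff.1 h1)
  have hxb : x ∈ (𝔛.X 0).basicOpen (pR 𝔛 h 0 U (c i)) := ((𝔛.X 0).mem_basicOpen _ x hxU).2 hiu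
  refine ⟨i, hi, (𝔛.X 0).basicOpen (pR 𝔛 h 0 U (c i)), fun y hy =>
    (toX_preimage_lvU 𝔛 h 0 U).le ((𝔛.X 0).basicOpen_le _ hy), hxb, isUnit_of_pR_zero ?_⟩
  rw [pR_resS]
  refine isUnit_of_le_basicOpen ?_
  rw [Scheme.basicOpen_res]
  exact le_inf le_rfl fun y hy => (toX_preimage_lvU 𝔛 h 0 _).le hy

end Units

end Groth.L20.FBlow
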